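import Cfsg.Agent.H694.Lift

/-!
# Good characters

`Good G N χ`: `χ` is an irreducible character of `G` of indicator `1` and even degree, `N` is not in
its kernel, and the number of real linear characters fixing `χ` is less than `χ(1) - 2`.
-/

set_option autoImplicit false
set_option linter.unusedSectionVars false
set_option linter.style.haveILetI false

namespace Cfsg.Agent.H694

open Cfsg Representation
open scoped ComplexConjugate commutatorElement
open Cfsg.Agent.Characters.Core
open Cfsg.Agent.H705.StrongLin (ind ind_eq real_of_ind)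
open Cfsg.Agent.OddOrderCharacters.NormalInduced (conjFn)
open Cfsg.Agent.OddOrderCharacters.PF9.CliffGen (resTo irr_ind ind_inj inertia)

universe u v

/-- The real linear characters fixing `χ`. -/
def Fix {G : Type*} [Group G] (χ : G → ℂ) : Type _ :=
  {f : G →* ℂˣ // (∀ g, f g * f g = 1) ∧ ∀ g, (f g : ℂ) * χ g = χ g}

/-- Good characters. -/
structure Good (G : Type u) [Group G] (N : Subgroup G) (χ : G → ℂ) : Prop where
  irr : IsIrrCharacter G χ
  ind : ind χ = 1
  even : Even (charDegree χ)
  nker : ∃ n ∈ N, χ n ≠ χ 1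
  stab : Nat.card (Fix χ) + 2 < charDegree χ

theorem finite_hom (G : Type*) [Group G] [Finite G] : Finite (G →* ℂˣ) := by
  have := finite_irr (G := G)
  exact Finite.of_injective
    (fun f : G →* ℂˣ => (⟨fun g => (f g : ℂ),
      Cfsg.Agent.Characters.Linear.isIrrCharacter_hom f⟩ : IrrCharacter G)) (by
      intro f f' h
      refine MonoidHom.ext fun g => Units.ext ?_
      exact congrFun (congrArg Subtype.val h) g)

/-- Over an invariant character `φ` of a normal subgroup, `χ(1) = [χ_N, φ] φ(1)`. -/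
theorem apply_one_of_invariant {I : Type u} [Group I] [Fintype I] (N : Subgroup I)
    [hN : N.Normal] [Fintype N] {φ : N → ℂ} (hφ : IsIrrCharacter N φ)
    (hinv : ∀ g, conjFn N φ g = φ) {χ : I → ℂ} (hχ : IsIrrCharacter I χ)
    (h0 : mu (fun n : N => χ n) φ ≠ 0) : χ 1 = (mu (fun n : N => χ n) φ : ℂ) * φ 1 := by
  have hc : IsCharacter N (fun n : N => χ n) := isCharacter_comp N.subtype (isIrr_isCharacter hχ)
  have h1 : classInner (fun n : N => χ n) φ = (mu (fun n : N => χ n) φ : ℂ) := irr_mu_spec hc hφ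
  have h2 := Cfsg.Agent.OddOrderCharacters.PF9.CliffGen.res_of_invariant (N := N) hφ hinv hχ (by
    show classInner (fun n : N => χ n) φ ≠ 0
    rw [h1]
    exact_mod_cast h0)
  have h3 : φ 1 • (fun n : N => χ n) = χ 1 • φ := by
    funext n
    show φ 1 * χ n = χ 1 * φ n
    rw [← h2 n, mul_comm]
  have h4 := congrArg (fun F => classInner F φ) h3
  simp only [classInner_smul_left, classInner_irr_self hφ, mul_one] at h4
  rw [← h4, h1, mul_comm]

section transfer

variable {G : Type u} [Group G] [Fintype G] (N : Subgroup G) [hN : N.Normal] [Fintype N]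
  (I : Subgroup G) [Fintype I] (hNI : N ≤ I)

/-- The function on `N.subgroupOf I` corresponding to a function on `N`. -/
def dn (φ : N → ℂ) : N.subgroupOf I → ℂ := φ ∘ (Subgroup.subgroupOfEquivOfLe hNI)

theorem irr_dn {φ : N → ℂ} (hφ : IsIrrCharacter N φ) : IsIrrCharacter (N.subgroupOf I) (dn N I hNI φ) :=
  isIrr_comp (Subgroup.subgroupOfEquivOfLe hNI : N.subgroupOf I ≃* N).toMonoidHom
    (Subgroup.subgroupOfEquivOfLe hNI : N.subgroupOf I ≃* N).surjective hφ

theorem classInner_dn [Fintype (N.subgroupOf I)] (φ ψ : N → ℂ) :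
    classInner (dn N I hNI φ) (dn N I hNI ψ) = classInner φ ψ :=
  Cfsg.Agent.Characters.Clifford.classInner_comp_mulEquiv
    (Subgroup.subgroupOfEquivOfLe hNI : N.subgroupOf I ≃* N) φ ψ

theorem mu_dn [Fintype (N.subgroupOf I)] (χ : I → ℂ) (φ : N → ℂ) :
    mu (fun n : N.subgroupOf I => χ n) (dn N I hNI φ) = mu (resTo hNI χ) φ := by
  rw [mu, mu, ← classInner_dn N I hNI]
  rfl

theorem inv_dn {φ : N → ℂ} (hI : ∀ g ∈ I, conjFn N φ g = φ) (g : I) :
    conjFn (N.subgroupOf I) (dn N I hNI φ) g = dn N I hNI φ := by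
  funext n
  have h := congrFun (hI g g.2) ⟨n, n.2⟩
  exact h

end transfer

/-- **Good characters from the inertia group**, general form. -/
theorem good_of_ind {G : Type u} [Group G] [Fintype G] (N : Subgroup G) [hN : N.Normal]
    [Fintype N] (hperf : ⁅N, N⁆ = N) {φ : N → ℂ} (hφ : IsIrrCharacter N φ) (I : Subgroup G)
    [Fintype I] (hI : ∀ g, g ∈ I ↔ conjFn N φ g = φ) (hNI : N ≤ I) {ψ : I → ℂ}
    (hψ : IsIrrCharacter I ψ) (hν : ind (indFun I ψ) = 1) (hodd : Odd (mu (resTo hNI ψ) φ))
    (heven : Even (charDegree (indFun I ψ))) (h3 : 3 ≤ charDegree φ) : Good G N (indFun I ψ) := by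
  classical
  haveI : Fintype (N.subgroupOf I) := Fintype.ofFinite _
  have hmu0 : mu (resTo hNI ψ) φ ≠ 0 := by
    intro h0
    rw [h0] at hodd
    exact absurd hodd (by decide)
  have hcr : IsCharacter N (resTo hNI ψ) :=
    Cfsg.Agent.OddOrderCharacters.PF9.CliffGen.isCharacter_resTo hNI (isIrr_isCharacter hψ)
  have hcI : classInner (resTo hNI ψ) φ = (mu (resTo hNI ψ) φ : ℂ) := irr_mu_spec hcr hφ
  have h0 : classInner (resTo hNI ψ) φ ≠ 0 := by
    rw [hcI]
    exact_mod_cast hmu0
  have hirr : IsIrrCharacter G (indFun I ψ) := irr_ind hφ hI hNI hψ h0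
  -- the degree
  have hψ1 : ψ 1 = (mu (resTo hNI ψ) φ : ℂ) * φ 1 := by
    have h := apply_one_of_invariant (N.subgroupOf I) (irr_dn N I hNI hφ)
      (fun g => inv_dn N I hNI (fun g hg => (hI g).1 hg) g) hψ (by
        rw [mu_dn N I hNI]
        exact hmu0)
    rw [mu_dn N I hNI] at h
    rw [h]
    rfl
  obtain ⟨e, he⟩ : ∃ e : ℕ, (e : ℤ) = mu (resTo hNI ψ) φ := by
    obtain ⟨e, he⟩ := classInner_isNat hcr (isIrr_isCharacter hφ)
    refine ⟨e, ?_⟩
    have : mu (resTo hNI ψ) φ = (e : ℤ) := mu_eq (by rw [he]; push_cast; rfl)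
    rw [this]
  have he0 : e ≠ 0 := by
    rintro rfl
    exact hmu0 he.symm
  have hdeg : charDegree (indFun I ψ) = I.index * (e * charDegree φ) := by
    have h1 := Cfsg.Agent.OddOrderCharacters.IndRes.indFun_apply_one (H := I) ψ
    rw [hψ1, ← he, Cfsg.Agent.Blocks.Basic.irr_one_eq_charDegree hφ,
      Cfsg.Agent.Blocks.Basic.irr_one_eq_charDegree hirr] at h1
    exact_mod_cast h1
  have hIpos : 0 < I.index := Nat.pos_of_ne_zero Subgroup.index_ne_zero_of_finite
  refine ⟨hirr, hν, heven, ?_, ?_⟩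
  · -- `N` is not in the kernel
    by_contra hker
    push Not at hker
    -- `[χ_N, φ] ≠ 0`
    have h5 : classInner (fun t : I => indFun I ψ (t : G)) ψ = 1 := by
      have h6 := Cfsg.Agent.OddOrderCharacters.Clifford.classInner_indFun I ψ (indFun I ψ)
        (isIrr_isClassFunction hirr)
      rw [classInner_irr_self hirr] at h6
      rw [← classInner_conj_symm, ← h6, map_one]
    have hcI2 : IsCharacter I (fun t : I => indFun I ψ (t : G)) :=
      isCharacter_comp I.subtype (isIrr_isCharacter hirr)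
    have h7 := Cfsg.Agent.OddOrderCharacters.Clifford.isCharacter_sub_irr hcI2 hψ
      (by rw [h5]; exact one_ne_zero)
    set ρ : I → ℂ := (fun t : I => indFun I ψ (t : G)) - ψ with hρ
    have h8 : (fun n : N => indFun I ψ (n : G)) = resTo hNI ρ + resTo hNI ψ := by
      funext n
      show _ = ρ _ + ψ _
      rw [hρ]
      show indFun I ψ (n : G) = indFun I ψ (n : G) - ψ _ + ψ _
      rw [sub_add_cancel]
    obtain ⟨k, hk⟩ := classInner_isNat
      (Cfsg.Agent.OddOrderCharacters.PF9.CliffGen.isCharacter_resTo hNI h7) (isIrr_isCharacter hφ)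
    have h9 : classInner (fun n : N => indFun I ψ (n : G)) φ ≠ 0 := by
      rw [h8, classInner_add_left, hk, hcI, ← he]
      have : (k : ℂ) + ((e : ℤ) : ℂ) = ((k + e : ℕ) : ℂ) := by push_cast; ring
      rw [this]
      exact_mod_cast (by omega : k + e ≠ 0)
    have hcN : IsCharacter N (fun n : N => indFun I ψ (n : G)) :=
      isCharacter_comp N.subtype (isIrr_isCharacter hirr)
    have h10 : ∀ y : N, φ y = φ 1 := fun y =>
      Cfsg.Agent.OddOrderCharacters.PF9.CliffGen.constituent_ker hcN hφ h9 (hker y y.2)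
    obtain ⟨f, hf⟩ := Cfsg.Agent.OddOrderCharacters.PF9.CliffGen.exists_hom_of_ker hφ
      (fun y _ => h10 y)
    have h11 : charDegree φ = 1 := by
      have h12 : φ 1 = 1 := by rw [hf]; simp
      rw [Cfsg.Agent.Blocks.Basic.irr_one_eq_charDegree hφ] at h12
      exact_mod_cast h12
    omega
  · have hfinG := finite_hom G
    have hle : Nat.card (Fix (indFun I ψ)) ≤ I.index := by
      refine le_trans ?_ (Cfsg.Agent.H705.StrongLin.card_hom_le I)
      haveI : Finite {f : G →* ℂˣ // ∀ t ∈ I, f t = 1} := inferInstance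
      refine Nat.card_le_card_of_injective (fun f : Fix (indFun I ψ) =>
        (⟨f.1, ?_⟩ : {f : G →* ℂˣ // ∀ t ∈ I, f t = 1})) ?_
      · -- `f` is trivial on `I`
        obtain ⟨f, hf2, hf⟩ := f
        have hfN : ∀ n ∈ N, f n = 1 := by
          intro n hn
          have h1 : n ∈ commutator G := by
            rw [← hperf] at hn
            exact Subgroup.commutator_mono le_top le_top hn
          exact MonoidHom.mem_ker.1 (Abelianization.commutator_subset_ker f h1)
        set f' : I →* ℂˣ := f.comp I.subtype with hf'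
        have hψ' : IsIrrCharacter I (fun t => (f' t : ℂ) * ψ t) :=
          Cfsg.Agent.OddOrderCharacters.InertiaAbelian.isIrr_mul_hom _ hψ
        have hres : resTo hNI (fun t => (f' t : ℂ) * ψ t) = resTo hNI ψ := by
          funext n
          show (f (n : G) : ℂ) * ψ ⟨n, hNI n.2⟩ = ψ ⟨n, hNI n.2⟩
          rw [hfN n n.2, Units.val_one, one_mul]
        have h0' : classInner (resTo hNI (fun t => (f' t : ℂ) * ψ t)) φ ≠ 0 := by
          rw [hres]
          exact h0
        have hind : indFun I (fun t => (f' t : ℂ) * ψ t) = indFun I ψ := by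
          have h1 := Cfsg.Agent.OddOrderCharacters.IndRes.indFun_mul (H := I) ψ
            (χ := fun g => (f g : ℂ)) (fun g h => by
              show ((f (h * g * h⁻¹) : ℂˣ) : ℂ) = (f g : ℂ)
              rw [map_mul, map_mul, map_inv, mul_comm (f h), mul_inv_cancel_right])
          have h2 : (fun t => (f' t : ℂ) * ψ t) =
              ψ * Cfsg.Agent.OddOrderCharacters.IndRes.res I (fun g => (f g : ℂ)) := by
            funext t
            show (f (t : G) : ℂ) * ψ t = ψ t * (f (t : G) : ℂ)
            rw [mul_comm]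
          rw [h2, h1]
          funext g
          show indFun I ψ g * (f g : ℂ) = indFun I ψ g
          rw [mul_comm]
          exact hf g
        have heq := ind_inj hφ hI hNI hψ' hψ h0' h0 hind
        have htr := twist_trivial (N.subgroupOf I) (irr_dn N I hNI hφ)
          (fun g => inv_dn N I hNI (fun g hg => (hI g).1 hg) g) hψ (by
            rw [mu_dn N I hNI]
            exact hodd) f' (fun g => hf2 g)
          (fun n hn => hfN _ (Subgroup.mem_subgroupOf.1 hn)) (fun g => congrFun heq g)
        intro t ht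
        exact DFunLike.congr_fun htr ⟨t, ht⟩
      · intro f f' hff
        have := congrArg Subtype.val hff
        exact Subtype.ext this
    have he1 : 1 ≤ e := Nat.one_le_iff_ne_zero.2 he0
    have h5 : I.index * (1 * charDegree φ) ≤ I.index * (e * charDegree φ) :=
      Nat.mul_le_mul_left _ (Nat.mul_le_mul_right _ he1)
    rw [one_mul, ← hdeg] at h5
    have h7 : I.index * 3 ≤ I.index * charDegree φ := Nat.mul_le_mul_left _ h3
    obtain ⟨k, hk⟩ := heven
    omega

/-- **Good characters from the inertia group.** -/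
theorem good_of_inertia {G : Type u} [Group G] [Fintype G] (N : Subgroup G) [hN : N.Normal]
    [Fintype N] (hperf : ⁅N, N⁆ = N) {φ : N → ℂ} (hφ : IsIrrCharacter N φ) (I : Subgroup G)
    [Fintype I] (hI : ∀ g, g ∈ I ↔ conjFn N φ g = φ) (hNI : N ≤ I) {ψ : I → ℂ}
    (hψ : IsIrrCharacter I ψ) (hν : ind ψ = 1) (hodd : Odd (mu (resTo hNI ψ) φ))
    (heven : Even (charDegree φ * I.index)) (h3 : 3 ≤ charDegree φ) : Good G N (indFun I ψ) := by
  classical
  haveI : Fintype (N.subgroupOf I) := Fintype.ofFinite _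
  have hmu0 : mu (resTo hNI ψ) φ ≠ 0 := by
    intro h0
    rw [h0] at hodd
    exact absurd hodd (by decide)
  have hcr : IsCharacter N (resTo hNI ψ) :=
    Cfsg.Agent.OddOrderCharacters.PF9.CliffGen.isCharacter_resTo hNI (isIrr_isCharacter hψ)
  have hcI : classInner (resTo hNI ψ) φ = (mu (resTo hNI ψ) φ : ℂ) := irr_mu_spec hcr hφ
  have h0 : classInner (resTo hNI ψ) φ ≠ 0 := by
    rw [hcI]
    exact_mod_cast hmu0
  have hirr : IsIrrCharacter G (indFun I ψ) := irr_ind hφ hI hNI hψ h0
  have hψ1 : ψ 1 = (mu (resTo hNI ψ) φ : ℂ) * φ 1 := by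
    have h := apply_one_of_invariant (N.subgroupOf I) (irr_dn N I hNI hφ)
      (fun g => inv_dn N I hNI (fun g hg => (hI g).1 hg) g) hψ (by
        rw [mu_dn N I hNI]
        exact hmu0)
    rw [mu_dn N I hNI] at h
    rw [h]
    rfl
  obtain ⟨e, he⟩ : ∃ e : ℕ, (e : ℤ) = mu (resTo hNI ψ) φ := by
    obtain ⟨e, he⟩ := classInner_isNat hcr (isIrr_isCharacter hφ)
    refine ⟨e, ?_⟩
    have : mu (resTo hNI ψ) φ = (e : ℤ) := mu_eq (by rw [he]; push_cast; rfl)
    rw [this]
  have hdeg : charDegree (indFun I ψ) = e * (charDegree φ * I.index) := by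
    have h1 := Cfsg.Agent.OddOrderCharacters.IndRes.indFun_apply_one (H := I) ψ
    rw [hψ1, ← he, Cfsg.Agent.Blocks.Basic.irr_one_eq_charDegree hφ,
      Cfsg.Agent.Blocks.Basic.irr_one_eq_charDegree hirr] at h1
    have h2 : charDegree (indFun I ψ) = I.index * (e * charDegree φ) := by exact_mod_cast h1
    rw [h2]
    ring
  refine good_of_ind N hperf hφ I hI hNI hψ
    (Cfsg.Agent.H705.StrongLin.ind_indFun I hψ hirr hν) hodd ?_ h3
  rw [hdeg]
  exact heven.mul_left e

end Cfsg.Agent.H694
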