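import Cfsg.Agent.H694.GoodOdd
import Cfsg.Agent.H694.DData

/-!
# Good characters from characteristic sets of subgroups
-/

set_option autoImplicit false
set_option linter.unusedSectionVars false
set_option linter.style.haveILetI false

namespace Cfsg.Agent.H694

open Cfsg Representation
open scoped ComplexConjugate commutatorElement
open Cfsg.Agent.Characters.Core
open Cfsg.Agent.OddOrderCharacters.PF9.CliffGen (resTo)

universe u v

/-- the permutation character -/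
noncomputable def permC (H : Type*) [Group H] (X : Type*) [MulAction H X] : H → ℂ :=
  fun h => (Nat.card (MulAction.fixedBy X h) : ℂ)

theorem permC_one (H : Type*) [Group H] (X : Type*) [MulAction H X] :
    permC H X 1 = (Nat.card X : ℂ) := by
  rw [permC]
  congr 1
  refine Nat.card_congr ⟨fun x => x.1, fun x => ⟨x, ?_⟩, ?_, ?_⟩
  · rw [MulAction.mem_fixedBy, one_smul]
  · intro x
    rfl
  · intro x
    rfl

/-- The inner product of permutation characters. -/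
theorem classInner_permC (H : Type*) [Group H] [Fintype H] (X Y : Type*) [Finite X] [Finite Y]
    [MulAction H X] [MulAction H Y] :
    classInner (permC H X) (permC H Y) =
      ((Nat.card (MulAction.orbitRel.Quotient H (X × Y)) : ℕ) : ℂ) := by
  classical
  have := Fintype.ofFinite X
  have := Fintype.ofFinite Y
  set q := Nat.card (MulAction.orbitRel.Quotient H (X × Y)) with hq
  rw [classInner_def]
  have := Fintype.ofFinite (MulAction.orbitRel.Quotient H (X × Y))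
  have h5 := MulAction.sum_card_fixedBy_eq_card_orbits_mul_card_group H (X × Y)
  have h6 : ∀ n : H, Fintype.card (MulAction.fixedBy (X × Y) n) =
      Nat.card (MulAction.fixedBy X n) * Nat.card (MulAction.fixedBy Y n) := by
    intro n
    rw [← Nat.card_eq_fintype_card, ← Nat.card_prod]
    refine Nat.card_congr ⟨fun x => (⟨x.1.1, ?_⟩, ⟨x.1.2, ?_⟩),
      fun x => ⟨(x.1.1, x.2.1), ?_⟩, ?_, ?_⟩
    · have := x.2
      rw [MulAction.mem_fixedBy] at this ⊢
      exact congrArg Prod.fst this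
    · have := x.2
      rw [MulAction.mem_fixedBy] at this ⊢
      exact congrArg Prod.snd this
    · rw [MulAction.mem_fixedBy]
      exact Prod.ext x.1.2 x.2.2
    · intro x
      rfl
    · intro x
      rfl
  have h7 : ∑ n : H, permC H X n * conj (permC H Y n) = (q : ℂ) * Nat.card H := by
    have h8 : ∀ n : H, permC H X n * conj (permC H Y n) =
        ((Fintype.card (MulAction.fixedBy (X × Y) n) : ℕ) : ℂ) := by
      intro n
      rw [h6]
      simp only [permC, Complex.conj_natCast]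
      push_cast
      ring
    rw [Finset.sum_congr rfl fun n _ => h8 n, ← Nat.cast_sum, h5, hq,
      Nat.card_eq_fintype_card, Nat.card_eq_fintype_card]
    push_cast
    ring
  rw [h7]
  have h8 : (Nat.card H : ℂ) ≠ 0 := card_ne_zero_complex
  field_simp

section act

variable {G : Type u} [Group G] (N : Subgroup G) [hN : N.Normal]

/-- conjugation on subgroups of `N` -/
def cmap (g : G) (H : Subgroup N) : Subgroup N :=
  H.map (MulAut.conjNormal g : MulAut N).toMonoidHom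

theorem cmap_one (H : Subgroup N) : cmap N 1 H = H := by
  show H.map (MulAut.conjNormal (1 : G) : MulAut N).toMonoidHom = H
  rw [map_one]
  exact Subgroup.map_id H

theorem cmap_mul (g t : G) (H : Subgroup N) : cmap N (g * t) H = cmap N g (cmap N t H) := by
  show H.map (MulAut.conjNormal (g * t) : MulAut N).toMonoidHom = _
  rw [map_mul]
  show _ = (H.map (MulAut.conjNormal t : MulAut N).toMonoidHom).map
    (MulAut.conjNormal g : MulAut N).toMonoidHom
  rw [Subgroup.map_map]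
  rfl

/-- the action on an invariant set of subgroups -/
@[reducible] def actSet (𝒳 : Set (Subgroup N)) (h : ∀ g : G, ∀ H ∈ 𝒳, cmap N g H ∈ 𝒳) :
    MulAction G 𝒳 where
  smul g H := ⟨cmap N g H, h _ _ H.2⟩
  one_smul H := Subtype.ext (cmap_one N H)
  mul_smul g t H := Subtype.ext (cmap_mul N g t H)

/-- the action of `N` on an invariant set of subgroups -/
@[reducible] def actN (𝒳 : Set (Subgroup N)) (h : ∀ g : N, ∀ H ∈ 𝒳, H.map (MulAut.conj g).toMonoidHom ∈ 𝒳) :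
    MulAction N 𝒳 where
  smul g H := ⟨(H : Subgroup N).map (MulAut.conj g).toMonoidHom, h _ _ H.2⟩
  one_smul H := Subtype.ext (map_conj_one _)
  mul_smul g t H := Subtype.ext (map_conj_conj t g _).symm

theorem conjNormal_coe (n : N) : (MulAut.conjNormal (n : G) : MulAut N) = MulAut.conj n := by
  ext s
  rw [MulAut.conjNormal_apply, MulAut.conj_apply]
  rfl

theorem cmap_coe (n : N) (H : Subgroup N) : cmap N (n : G) H = H.map (MulAut.conj n).toMonoidHom := by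
  rw [cmap, conjNormal_coe]

/-- orbits of `N` on pairs -/
theorem card_orbits (𝒳 𝒴 : Set (Subgroup N))
    (hX : ∀ g : N, ∀ H ∈ 𝒳, H.map (MulAut.conj g).toMonoidHom ∈ 𝒳)
    (hY : ∀ g : N, ∀ H ∈ 𝒴, H.map (MulAut.conj g).toMonoidHom ∈ 𝒴) :
    letI := actN N 𝒳 hX
    letI := actN N 𝒴 hY
    Nat.card (MulAction.orbitRel.Quotient N (𝒳 × 𝒴)) = Nat.card (Quotient (pairRel 𝒳 𝒴)) := by
  letI := actN N 𝒳 hX
  letI := actN N 𝒴 hY
  refine Nat.card_congr (Quotient.congr (Equiv.refl _) fun x y => ?_)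
  rw [Equiv.refl_apply, Equiv.refl_apply]
  have h4 : (MulAction.orbitRel N (𝒳 × 𝒴)) x y ↔ (pairRel 𝒳 𝒴) x y := by
    rw [MulAction.orbitRel_apply]
    constructor
    · rintro ⟨n, hn⟩
      apply (pairRel 𝒳 𝒴).symm
      refine ⟨n, ?_, ?_⟩
      · rw [← hn]
        rfl
      · rw [← hn]
        rfl
    · intro h5
      obtain ⟨g, h6, h7⟩ := (pairRel 𝒳 𝒴).symm h5
      exact ⟨g, Prod.ext (Subtype.ext h6) (Subtype.ext h7)⟩
  exact h4

end act

/-- **Good characters from `DData`.** -/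
theorem good_of_dData {G : Type u} [Group G] [Fintype G] (N : Subgroup G) [hN : N.Normal]
    [Fintype N] (hperf : ⁅N, N⁆ = N)
    (h2 : ∀ φ : N → ℂ, IsIrrCharacter N φ → charDegree φ ≠ 2) (𝒳 : Set (Subgroup N))
    (hX : ∀ g : G, ∀ H ∈ 𝒳, cmap N g H ∈ 𝒳)
    (hodd : Odd (Nat.card 𝒳 + Nat.card (Quotient (pairRel 𝒳 𝒳)))) : ∃ χ, Good G N χ := by
  classical
  letI := actSet N 𝒳 hX
  haveI : Finite 𝒳 := Subtype.finite
  have hXN : ∀ g : N, ∀ H ∈ 𝒳, H.map (MulAut.conj g).toMonoidHom ∈ 𝒳 := by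
    intro g H hH
    rw [← cmap_coe]
    exact hX _ _ hH
  have hπ : RChar (permC G 𝒳) := rchar_perm 𝒳
  haveI : Fintype (⊤ : Subgroup G) := Fintype.ofFinite _
  have hπ' : RChar (fun x : (⊤ : Subgroup G) => permC G 𝒳 (x : G)) := hπ.comp (Subgroup.subtype ⊤)
  have hres : resTo (le_top : N ≤ ⊤) (fun x : (⊤ : Subgroup G) => permC G 𝒳 (x : G)) =
      (letI := actN N 𝒳 hXN; permC N 𝒳) := by
    funext n
    show permC G 𝒳 (n : G) = _
    rw [permC, permC]
    have hset : @MulAction.fixedBy G 𝒳 _ (actSet N 𝒳 hX) (n : G) =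
        @MulAction.fixedBy N 𝒳 _ (actN N 𝒳 hXN) n := by
      ext H
      have h3 : H ∈ @MulAction.fixedBy G 𝒳 _ (actSet N 𝒳 hX) (n : G) ↔
          cmap N (n : G) H = H := Subtype.ext_iff
      have h4 : H ∈ @MulAction.fixedBy N 𝒳 _ (actN N 𝒳 hXN) n ↔
          (H : Subgroup N).map (MulAut.conj n).toMonoidHom = H := Subtype.ext_iff
      rw [h3, h4, cmap_coe]
    rw [hset]
  refine good_of_parity N hperf h2 ⊤ (by rw [Subgroup.index_top]; exact odd_one) le_top hπ'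
    (a := (Nat.card (Quotient (pairRel 𝒳 𝒳)) : ℤ)) (b := (Nat.card 𝒳 : ℤ)) ?_ ?_ ?_
  · rw [hres]
    letI := actN N 𝒳 hXN
    rw [classInner_permC]
    have := card_orbits N 𝒳 𝒳 hXN hXN
    rw [this]
    exact (Int.cast_natCast _).symm
  · show permC G 𝒳 1 = _
    rw [permC_one]
    push_cast
    rfl
  · rw [add_comm]
    exact_mod_cast hodd

/-- **Good characters from `D2Data`.** -/
theorem good_of_d2Data {G : Type u} [Group G] [Fintype G] (N : Subgroup G) [hN : N.Normal]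
    [Fintype N] (hperf : ⁅N, N⁆ = N)
    (h2 : ∀ φ : N → ℂ, IsIrrCharacter N φ → charDegree φ ≠ 2) (h : D2Data N) :
    ∃ χ, Good G N χ := by
  classical
  obtain ⟨𝒳, 𝒴, hdis, ⟨H₀, hH₀⟩, hXN, hα, hodd1, hodd2⟩ := h
  have hα' : ∀ g : G, ((∀ H ∈ 𝒳, cmap N g H ∈ 𝒳) ∧ (∀ H ∈ 𝒴, cmap N g H ∈ 𝒴)) ∨
      ((∀ H ∈ 𝒳, cmap N g H ∈ 𝒴) ∧ (∀ H ∈ 𝒴, cmap N g H ∈ 𝒳)) := fun g => hα _
  have hexcl : ∀ H, H ∈ 𝒳 → H ∈ 𝒴 → False := fun H h1 h2 => Set.disjoint_left.1 hdis h1 h2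
  have hYN : ∀ g : N, ∀ H ∈ 𝒴, H.map (MulAut.conj g).toMonoidHom ∈ 𝒴 := by
    intro g
    rcases hα (MulAut.conj g) with ⟨-, h⟩ | ⟨h, -⟩
    · exact h
    · exact (hexcl _ (hXN g H₀ hH₀) (h H₀ hH₀)).elim
  by_cases hall : ∀ g : G, ∀ H ∈ 𝒳, cmap N g H ∈ 𝒳
  · exact good_of_dData N hperf h2 𝒳 hall hodd1
  push Not at hall
  obtain ⟨g₀, H₁, hH₁, hH₁'⟩ := hall
  -- the stabilizer of `𝒳`
  have hkeep : ∀ g : G, cmap N g H₀ ∈ 𝒳 → ((∀ H ∈ 𝒳, cmap N g H ∈ 𝒳) ∧ (∀ H ∈ 𝒴, cmap N g H ∈ 𝒴)) := by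
    intro g hg
    rcases hα' g with h | h
    · exact h
    · exact (hexcl _ hg (h.1 _ hH₀)).elim
  have hswap : ∀ g : G, cmap N g H₀ ∉ 𝒳 → ((∀ H ∈ 𝒳, cmap N g H ∈ 𝒴) ∧ (∀ H ∈ 𝒴, cmap N g H ∈ 𝒳)) := by
    intro g hg
    rcases hα' g with h | h
    · exact (hg (h.1 _ hH₀)).elim
    · exact h
  let D : Subgroup G :=
    { carrier := {g | cmap N g H₀ ∈ 𝒳}
      one_mem' := by
        show cmap N 1 H₀ ∈ 𝒳
        rw [cmap_one]
        exact hH₀
      mul_mem' := by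
        intro a b ha hb
        show cmap N (a * b) H₀ ∈ 𝒳
        rw [cmap_mul]
        exact (hkeep a ha).1 _ hb
      inv_mem' := by
        intro a ha
        show cmap N a⁻¹ H₀ ∈ 𝒳
        by_contra h3
        have h4 := (hkeep a ha).2 _ ((hswap _ h3).1 H₀ hH₀)
        rw [← cmap_mul, mul_inv_cancel, cmap_one] at h4
        exact hexcl _ hH₀ h4 }
  have hmemD : ∀ g, g ∈ D ↔ cmap N g H₀ ∈ 𝒳 := fun g => Iff.rfl
  have hg₀ : g₀ ∉ D := by
    intro h
    exact hH₁' ((hkeep g₀ h).1 _ hH₁)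
  have hD : D.index = 2 := by
    rw [Subgroup.index_eq_two_iff]
    refine ⟨g₀, fun b => ?_⟩
    by_cases hb : b ∈ D
    · refine Or.inr ⟨hb, fun h => ?_⟩
      rw [hmemD, cmap_mul] at h
      exact hexcl _ h ((hkeep b hb).2 _ ((hswap g₀ hg₀).1 _ hH₀))
    · refine Or.inl ⟨?_, hb⟩
      rw [hmemD, cmap_mul]
      exact (hswap b hb).2 _ ((hswap g₀ hg₀).1 _ hH₀)
  haveI : D.Normal := Subgroup.normal_of_index_eq_two hD
  have hND : N ≤ D := by
    intro n hn
    rw [hmemD]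
    have := cmap_coe N ⟨n, hn⟩ H₀
    rw [this]
    exact hXN _ _ hH₀
  -- the action on the union
  have hU : ∀ g : G, ∀ H ∈ 𝒳 ∪ 𝒴, cmap N g H ∈ 𝒳 ∪ 𝒴 := by
    intro g H hH
    rcases hα' g with h | h
    · exact hH.imp (h.1 H) (h.2 H)
    · exact (hH.imp (h.1 H) (h.2 H)).symm
  letI := actSet N (𝒳 ∪ 𝒴) hU
  haveI : Finite (𝒳 ∪ 𝒴 : Set (Subgroup N)) := Subtype.finite
  haveI : Finite 𝒳 := Subtype.finite
  haveI : Finite 𝒴 := Subtype.finite
  have hπ : RChar (permC G (𝒳 ∪ 𝒴 : Set (Subgroup N))) := rchar_perm _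
  have hπ0 : ∀ g ∉ D, permC G (𝒳 ∪ 𝒴 : Set (Subgroup N)) g = 0 := by
    intro g hg
    have hem : MulAction.fixedBy (𝒳 ∪ 𝒴 : Set (Subgroup N)) g = ∅ := by
      rw [Set.eq_empty_iff_forall_notMem]
      rintro ⟨H, hH⟩ hfix
      rw [MulAction.mem_fixedBy, Subtype.ext_iff] at hfix
      have hfix' : cmap N g H = H := hfix
      have h3 := hswap g hg
      rcases hH with hH | hH
      · have := h3.1 H hH
        rw [hfix'] at this
        exact hexcl _ hH this
      · have := h3.2 H hH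
        rw [hfix'] at this
        exact hexcl _ this hH
    rw [permC, hem]
    simp
  letI i1 := actN N 𝒳 hXN
  letI i2 := actN N 𝒴 hYN
  have hρ : RChar (permC N 𝒳) := rchar_perm _
  have hsum : (fun x : N => permC G (𝒳 ∪ 𝒴 : Set (Subgroup N)) ((MonoidHom.id N) x : G)) =
      permC N 𝒳 + permC N 𝒴 := by
    funext n
    show (Nat.card (MulAction.fixedBy (𝒳 ∪ 𝒴 : Set (Subgroup N)) (n : G)) : ℂ) =
      (Nat.card (MulAction.fixedBy 𝒳 n) : ℂ) + (Nat.card (MulAction.fixedBy 𝒴 n) : ℂ)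
    rw [← Nat.cast_add, ← Nat.card_sum]
    congr 1
    have hf : ∀ x : (𝒳 ∪ 𝒴 : Set (Subgroup N)), x ∈ MulAction.fixedBy (𝒳 ∪ 𝒴 : Set (Subgroup N)) (n : G) ↔
        (x : Subgroup N).map (MulAut.conj n).toMonoidHom = x := by
      intro x
      rw [MulAction.mem_fixedBy, Subtype.ext_iff, ← cmap_coe]
      rfl
    have hfX : ∀ x : 𝒳, x ∈ MulAction.fixedBy 𝒳 n ↔
        (x : Subgroup N).map (MulAut.conj n).toMonoidHom = x := by
      intro x
      rw [MulAction.mem_fixedBy, Subtype.ext_iff]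
      rfl
    have hfY : ∀ x : 𝒴, x ∈ MulAction.fixedBy 𝒴 n ↔
        (x : Subgroup N).map (MulAut.conj n).toMonoidHom = x := by
      intro x
      rw [MulAction.mem_fixedBy, Subtype.ext_iff]
      rfl
    refine Nat.card_congr (Equiv.ofBijective (β := MulAction.fixedBy (𝒳 ∪ 𝒴 : Set (Subgroup N)) (n : G))
      (Sum.elim (fun x => ⟨⟨x.1, Or.inl x.1.2⟩, (hf _).2 ((hfX _).1 x.2)⟩)
        (fun x => ⟨⟨x.1, Or.inr x.1.2⟩, (hf _).2 ((hfY _).1 x.2)⟩)) ?_).symm
    constructor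
    · rintro (x | x) (y | y) hxy
      · have h3 : (x.1 : Subgroup N) = y.1 := congrArg (fun z => ((z.1 : (𝒳 ∪ 𝒴 : Set (Subgroup N))) : Subgroup N)) hxy
        exact congrArg Sum.inl (Subtype.ext (Subtype.ext h3))
      · have h3 : (x.1 : Subgroup N) = y.1 := congrArg (fun z => ((z.1 : (𝒳 ∪ 𝒴 : Set (Subgroup N))) : Subgroup N)) hxy
        exact (hexcl _ x.1.2 (h3 ▸ y.1.2)).elim
      · have h3 : (x.1 : Subgroup N) = y.1 := congrArg (fun z => ((z.1 : (𝒳 ∪ 𝒴 : Set (Subgroup N))) : Subgroup N)) hxy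
        exact (hexcl _ (h3 ▸ y.1.2) x.1.2).elim
      · have h3 : (x.1 : Subgroup N) = y.1 := congrArg (fun z => ((z.1 : (𝒳 ∪ 𝒴 : Set (Subgroup N))) : Subgroup N)) hxy
        exact congrArg Sum.inr (Subtype.ext (Subtype.ext h3))
    · rintro ⟨⟨H, hH⟩, hfix⟩
      rcases hH with hH' | hH'
      · exact ⟨Sum.inl ⟨⟨H, hH'⟩, (hfX _).2 ((hf _).1 hfix)⟩, rfl⟩
      · exact ⟨Sum.inr ⟨⟨H, hH'⟩, (hfY _).2 ((hf _).1 hfix)⟩, rfl⟩
  have hcard : ∀ m : ℕ, Nat.card (Quotient (pairRel 𝒳 𝒴)) = m → Nat.card (Quotient (pairRel 𝒴 𝒳)) = m := by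
    intro m hm
    rw [← hm]
    refine Nat.card_congr (Quotient.congr (Equiv.prodComm _ _) fun x y => ?_)
    constructor
    · rintro ⟨g, h3, h4⟩
      exact ⟨g, h4, h3⟩
    · rintro ⟨g, h3, h4⟩
      exact ⟨g, h4, h3⟩
  refine good_of_pair N D hperf h2 hD hND hπ hπ0 (MonoidHom.id N) hρ
    (a := (Nat.card (Quotient (pairRel 𝒳 𝒳)) : ℤ) + (Nat.card (Quotient (pairRel 𝒳 𝒴)) : ℤ)) ?_
    (by exact_mod_cast hodd2)
  rw [hsum, classInner_add_left, classInner_permC, classInner_permC]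
  have e1 := card_orbits N 𝒳 𝒳 hXN hXN
  have e2 := card_orbits N 𝒴 𝒳 hYN hXN
  rw [e1, e2, hcard _ rfl]
  push_cast
  rfl

end Cfsg.Agent.H694
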