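import Mathlib
import Cfsg.Agent.Nodes.TypeD
import Cfsg.Agent.Nodes.RootsA

/-!
# Diagram automorphisms of the classical types
-/

set_option autoImplicit false

namespace Cfsg.Agent.H694

open Cfsg.Agent.Nodes
open Cfsg.Agent.LieRecognition.BNCox (cA)

/-- A permutation mapping a finite set into itself stabilizes its complement. -/
theorem image_compl_eq {I : Type*} [Finite I] (σ : I ≃ I) (C : Set I) (h : ∀ i ∈ C, σ i ∈ C) :
    σ '' Cᶜ = Cᶜ := by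
  have h1 : σ '' C = C := by
    have h2 : σ '' C ⊆ C := by
      rintro _ ⟨i, hi, rfl⟩
      exact h i hi
    exact Set.eq_of_subset_of_ncard_le h2 (by rw [Set.ncard_image_of_injective _ σ.injective])
  rw [Set.image_compl_eq σ.bijective, h1]

theorem B_apply {n : ℕ} (i j : Fin n) : CoxeterMatrix.B n i j =
    if (i : ℕ) = j then 1 else if (i : ℕ) = n - 1 ∧ (j : ℕ) = n - 2 ∨
      (j : ℕ) = n - 1 ∧ (i : ℕ) = n - 2 then 4
    else if (j : ℕ) + 1 = i ∨ (i : ℕ) + 1 = j then 3 else 2 := by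
  show (if i = j then 1 else _) = _
  simp only [Fin.ext_iff]

theorem B_four {n : ℕ} (hn : 2 ≤ n) (i j : Fin n) : CoxeterMatrix.B n i j = 4 ↔
    (i : ℕ) = n - 1 ∧ (j : ℕ) = n - 2 ∨ (j : ℕ) = n - 1 ∧ (i : ℕ) = n - 2 := by
  rw [B_apply]
  split_ifs <;> omega

theorem B_three {n : ℕ} (hn : 2 ≤ n) (i j : Fin n) : CoxeterMatrix.B n i j = 3 ↔
    ¬ ((i : ℕ) = n - 1 ∧ (j : ℕ) = n - 2 ∨ (j : ℕ) = n - 1 ∧ (i : ℕ) = n - 2) ∧
    ((j : ℕ) + 1 = i ∨ (i : ℕ) + 1 = j) := by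
  rw [B_apply]
  split_ifs <;> omega

theorem fix_B {n : ℕ} (hn : 3 ≤ n) (σ : Fin n ≃ Fin n)
    (hσ : ∀ i j, CoxeterMatrix.B n (σ i) (σ j) = CoxeterMatrix.B n i j) (i : Fin n) : σ i = i := by
  have hn2 : 2 ≤ n := by omega
  have hval : ∀ a b : Fin n, (a : ℕ) = b → a = b := fun a b h => Fin.ext h
  obtain ⟨p, hp⟩ : ∃ p : Fin n, (p : ℕ) = n - 1 := ⟨⟨n - 1, by omega⟩, rfl⟩
  obtain ⟨q, hq⟩ : ∃ q : Fin n, (q : ℕ) = n - 2 := ⟨⟨n - 2, by omega⟩, rfl⟩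
  obtain ⟨r, hr⟩ : ∃ r : Fin n, (r : ℕ) = n - 3 := ⟨⟨n - 3, by omega⟩, rfl⟩
  have hA : (σ p : ℕ) = n - 1 ∧ (σ q : ℕ) = n - 2 := by
    have h4 := (B_four hn2 (σ p) (σ q)).1 (by rw [hσ, B_four hn2]; omega)
    have h3 := (B_three hn2 (σ q) (σ r)).1 (by rw [hσ, B_three hn2]; omega)
    have b1 := (σ r).2
    omega
  have key : ∀ d : ℕ, ∀ k : Fin n, (k : ℕ) + d = n - 1 → σ k = k := by
    intro d
    induction d using Nat.strong_induction_on with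
    | _ d ih =>
      intro k hk
      have hk2 := k.2
      rcases Nat.lt_or_ge d 2 with hd | hd
      · interval_cases d
        · rw [hval k p (by omega)]
          exact hval _ _ (by omega)
        · rw [hval k q (by omega)]
          exact hval _ _ (by omega)
      · obtain ⟨x, hx⟩ : ∃ x : Fin n, (x : ℕ) = k + 1 := ⟨⟨k + 1, by omega⟩, rfl⟩
        obtain ⟨y, hy⟩ : ∃ y : Fin n, (y : ℕ) = k + 2 := ⟨⟨k + 2, by omega⟩, rfl⟩
        have e1 := ih (d - 1) (by omega) x (by omega)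
        have e2 := ih (d - 2) (by omega) y (by omega)
        have h5 := (B_three hn2 (σ k) (σ x)).1 (by rw [hσ, B_three hn2]; omega)
        rw [e1] at h5
        have h6 : σ k ≠ y := by
          intro h
          rw [← e2] at h
          have := congrArg Fin.val (σ.injective h)
          omega
        have h7 : (σ k : ℕ) ≠ k + 2 := fun h => h6 (hval _ _ (by omega))
        apply hval
        omega
  exact key (n - 1 - i) i (by have := i.2; omega)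

theorem stable_B {n : ℕ} (hn : 3 ≤ n) (J : Set (Fin n)) (σ : Fin n ≃ Fin n)
    (hσ : ∀ i j, CoxeterMatrix.B n (σ i) (σ j) = CoxeterMatrix.B n i j) : σ '' J = J := by
  have h1 : (σ : Fin n → Fin n) = id := funext fun i => fix_B hn σ hσ i
  rw [h1, Set.image_id]

/-! ### Type `D` -/

theorem D_three' {n : ℕ} (i j : Fin (n + 2)) : TypeD.M n i j = 3 ↔
    TypeD.Adj i j ∨ TypeD.Adj j i := by
  rw [TypeD.M_apply]
  split_ifs with h1 h2
  · subst h1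
    unfold TypeD.Adj
    omega
  · simp [h2]
  · simp [h2]

theorem D_three {n : ℕ} (i j : Fin (n + 2)) : TypeD.M n i j = 3 ↔
    ((i : ℕ) + 1 = j ∧ (j : ℕ) ≤ n) ∨ ((j : ℕ) + 1 = i ∧ (i : ℕ) ≤ n) ∨
    ((i : ℕ) + 1 = n ∧ (j : ℕ) = n + 1) ∨ ((j : ℕ) + 1 = n ∧ (i : ℕ) = n + 1) := by
  rw [D_three']
  unfold TypeD.Adj
  omega

theorem arith_D1 (n P Q X Y : ℕ) (hn : 1 ≤ n)
    (h1 : (P + 1 = Q ∧ Q ≤ n) ∨ (Q + 1 = P ∧ P ≤ n) ∨ (P + 1 = n ∧ Q = n + 1) ∨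
      (Q + 1 = n ∧ P = n + 1))
    (h2 : (P + 1 = X ∧ X ≤ n) ∨ (X + 1 = P ∧ P ≤ n) ∨ (P + 1 = n ∧ X = n + 1) ∨
      (X + 1 = n ∧ P = n + 1))
    (h3 : (P + 1 = Y ∧ Y ≤ n) ∨ (Y + 1 = P ∧ P ≤ n) ∨ (P + 1 = n ∧ Y = n + 1) ∨
      (Y + 1 = n ∧ P = n + 1)) (hQX : Q ≠ X) (hQY : Q ≠ Y) (hXY : X ≠ Y) : P = n - 1 := by
  rcases h1 with h1 | h1 | h1 | h1
  · rcases h2 with h2 | h2 | h2 | h2
    · omega
    · rcases h3 with h3 | h3 | h3 | h3 <;> omega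
    · omega
    · omega
  · rcases h2 with h2 | h2 | h2 | h2
    · rcases h3 with h3 | h3 | h3 | h3 <;> omega
    · omega
    · omega
    · omega
  · omega
  · rcases h2 with h2 | h2 | h2 | h2
    · omega
    · omega
    · omega
    · rcases h3 with h3 | h3 | h3 | h3 <;> omega

theorem arith_D2 (n P Q R : ℕ) (hP : P = n - 1) (hn : 3 ≤ n)
    (h1 : (P + 1 = Q ∧ Q ≤ n) ∨ (Q + 1 = P ∧ P ≤ n) ∨ (P + 1 = n ∧ Q = n + 1) ∨
      (Q + 1 = n ∧ P = n + 1))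
    (h4 : (Q + 1 = R ∧ R ≤ n) ∨ (R + 1 = Q ∧ Q ≤ n) ∨ (Q + 1 = n ∧ R = n + 1) ∨
      (R + 1 = n ∧ Q = n + 1)) (h : P ≠ R) : Q = n - 2 := by
  subst hP
  rcases h1 with h1 | h1 | h1 | h1 <;> rcases h4 with h4 | h4 | h4 | h4 <;> omega

theorem fix_D {n : ℕ} (hn : 3 ≤ n) (σ : Fin (n + 2) ≃ Fin (n + 2))
    (hσ : ∀ i j, TypeD.M n (σ i) (σ j) = TypeD.M n i j) (i : Fin (n + 2)) (hi : (i : ℕ) < n) :
    σ i = i := by
  have hval : ∀ a b : Fin (n + 2), (a : ℕ) = b → a = b := fun a b h => Fin.ext h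
  have hinj : ∀ a b : Fin (n + 2), (a : ℕ) ≠ b → (σ a : ℕ) ≠ σ b := fun a b h h' =>
    h (congrArg Fin.val (σ.injective (hval _ _ h')))
  obtain ⟨p, hp⟩ : ∃ p : Fin (n + 2), (p : ℕ) = n - 1 := ⟨⟨n - 1, by omega⟩, rfl⟩
  obtain ⟨q, hq⟩ : ∃ q : Fin (n + 2), (q : ℕ) = n - 2 := ⟨⟨n - 2, by omega⟩, rfl⟩
  obtain ⟨r, hr⟩ : ∃ r : Fin (n + 2), (r : ℕ) = n - 3 := ⟨⟨n - 3, by omega⟩, rfl⟩
  obtain ⟨x, hx⟩ : ∃ x : Fin (n + 2), (x : ℕ) = n := ⟨⟨n, by omega⟩, rfl⟩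
  obtain ⟨y, hy⟩ : ∃ y : Fin (n + 2), (y : ℕ) = n + 1 := ⟨⟨n + 1, by omega⟩, rfl⟩
  have m1 : TypeD.M n p q = 3 := by rw [D_three]; omega
  have m2 : TypeD.M n p x = 3 := by rw [D_three]; omega
  have m3 : TypeD.M n p y = 3 := by rw [D_three]; omega
  have m4 : TypeD.M n q r = 3 := by rw [D_three]; omega
  have h5 := hinj q x (by omega)
  have h6 := hinj q y (by omega)
  have h7 := hinj x y (by omega)
  have h8 := hinj p r (by omega)
  have hA : (σ p : ℕ) = n - 1 ∧ (σ q : ℕ) = n - 2 := by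
    have h1 := (D_three (σ p) (σ q)).1 ((hσ p q).trans m1)
    have h2 := (D_three (σ p) (σ x)).1 ((hσ p x).trans m2)
    have h3 := (D_three (σ p) (σ y)).1 ((hσ p y).trans m3)
    have h4 := (D_three (σ q) (σ r)).1 ((hσ q r).trans m4)
    have hP : (σ p : ℕ) = n - 1 := arith_D1 n _ _ _ _ (by omega) h1 h2 h3 h5 h6 h7
    exact ⟨hP, arith_D2 n _ _ _ hP hn h1 h4 h8⟩
  clear h5 h6 h7 h8 m1 m2 m3 m4
  have key : ∀ d : ℕ, ∀ k : Fin (n + 2), (k : ℕ) + d = n - 1 → σ k = k := by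
    clear hi i
    intro d
    induction d using Nat.strong_induction_on with
    | _ d ih =>
      intro k hk
      have hk2 := k.2
      rcases Nat.lt_or_ge d 2 with hd | hd
      · interval_cases d
        · rw [hval k p (by omega)]
          exact hval _ _ (by omega)
        · rw [hval k q (by omega)]
          exact hval _ _ (by omega)
      · obtain ⟨x, hx⟩ : ∃ x : Fin (n + 2), (x : ℕ) = k + 1 := ⟨⟨k + 1, by omega⟩, rfl⟩
        obtain ⟨y, hy⟩ : ∃ y : Fin (n + 2), (y : ℕ) = k + 2 := ⟨⟨k + 2, by omega⟩, rfl⟩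
        have e1 := ih (d - 1) (by omega) x (by omega)
        have e2 := ih (d - 2) (by omega) y (by omega)
        have h5 := (D_three (σ k) (σ x)).1 (by rw [hσ, D_three]; omega)
        rw [e1] at h5
        have h6 := hinj k y (by omega)
        rw [e2] at h6
        have b := (σ k).2
        apply hval
        omega
  exact key (n - 1 - i) i (by omega)

/-! ### Type `A` -/

theorem A_three {n : ℕ} (i j : Fin n) : cA n i j = 3 ↔
    ((i : ℕ) + 1 = j ∨ (j : ℕ) + 1 = i) := by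
  rw [RootsA.cA_eq]
  show (if i = j then 1 else if (j : ℕ) + 1 = i ∨ (i : ℕ) + 1 = j then 3 else 2) = 3 ↔ _
  split_ifs with h1 h2
  · subst h1
    omega
  · omega
  · omega

theorem leaf_A {n : ℕ} (hn : 3 ≤ n) (σ : Fin n ≃ Fin n)
    (hσ : ∀ i j, cA n (σ i) (σ j) = cA n i j) (i : Fin n)
    (hi : (i : ℕ) = 0 ∨ (i : ℕ) = n - 1) : (σ i : ℕ) = 0 ∨ (σ i : ℕ) = n - 1 := by
  have hval : ∀ a b : Fin n, (a : ℕ) = b → a = b := fun a b h => Fin.ext h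
  have b1 := (σ i).2
  by_contra hcon
  obtain ⟨x, hx⟩ : ∃ x : Fin n, (x : ℕ) = σ i + 1 := ⟨⟨σ i + 1, by omega⟩, rfl⟩
  obtain ⟨y, hy⟩ : ∃ y : Fin n, (y : ℕ) + 1 = σ i := ⟨⟨σ i - 1, by omega⟩, by simp only; omega⟩
  obtain ⟨x', rfl⟩ := σ.surjective x
  obtain ⟨y', rfl⟩ := σ.surjective y
  have h1 := (A_three i x').1 (by rw [← hσ, A_three]; omega)
  have h2 := (A_three i y').1 (by rw [← hσ, A_three]; omega)
  have h3 : (x' : ℕ) ≠ y' := by
    intro h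
    rw [hval _ _ h] at hx
    omega
  have b2 := x'.2
  have b3 := y'.2
  omega

end Cfsg.Agent.H694
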