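import Cfsg.Agent.H694.CoxCount
import Cfsg.Agent.Nodes.RootsA

/-!
# Parity data for the Coxeter groups of type `A`: the complement of the two end nodes
-/

set_option autoImplicit false

namespace Cfsg.Agent.H694

open Cfsg.Agent.ChevalleyStructure.CoxeterGeom Cfsg.Agent.Tits.Core Cfsg.Agent.Tits.OppRes
open Cfsg.Agent.Nodes
open Cfsg.Agent.LieRecognition.BNCox (cA)

/-- `⟨e_a, α_j⟩` -/
def ev (n : ℕ) (a : Fin (n + 1)) (j : Fin n) : ℤ :=
  if (a : ℕ) = j then 1 else if (a : ℕ) = (j : ℕ) + 1 then -1 else 0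

/-- ordered pairs -/
def YA (n : ℕ) : Type := {y : Fin (n + 1) × Fin (n + 1) // y.1 ≠ y.2}

/-- the functional of the root `e_a - e_b` -/
def phA (n : ℕ) (y : YA n) (j : Fin n) : ℤ := ev n y.1.1 j - ev n y.1.2 j

/-- the simple reflections -/
def sA (n : ℕ) (i : Fin n) (y : YA n) : YA n :=
  ⟨(Equiv.swap i.castSucc i.succ y.1.1, Equiv.swap i.castSucc i.succ y.1.2), fun h =>
    y.2 ((Equiv.swap i.castSucc i.succ).injective h)⟩

theorem ev_swap {n : ℕ} (i : Fin n) (a : Fin (n + 1)) (j : Fin n) :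
    ev n (Equiv.swap i.castSucc i.succ a) j = ev n a j - RootsA.AA n i j * ev n a i := by
  have h1 := i.2
  have h2 := j.2
  have h3 := a.2
  unfold ev RootsA.AA
  rw [RootsA.swap_val]
  simp only [Fin.ext_iff]
  by_cases e1 : (a : ℕ) = i
  · simp only [e1, if_true]
    split_ifs <;> omega
  · by_cases e2 : (a : ℕ) = (i : ℕ) + 1
    · simp only [e2, if_true]
      split_ifs <;> omega
    · simp only [e1, e2, if_false]
      split_ifs <;> omega

theorem phA_sA {n : ℕ} (i : Fin n) (y : YA n) (j : Fin n) :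
    phA n (sA n i y) j = phA n y j - RootsA.AA n i j * phA n y i := by
  unfold phA sA
  simp only
  rw [ev_swap, ev_swap]
  ring

theorem phA_injective (n : ℕ) : Function.Injective (phA n) := by
  rintro ⟨⟨a, b⟩, hab⟩ ⟨⟨c, d⟩, hcd⟩ h
  let δ : Fin (n + 1) → ℤ := fun k => ((if k = a then 1 else 0) - (if k = b then 1 else 0)) -
    ((if k = c then 1 else 0) - (if k = d then 1 else 0))
  have hev : ∀ (x : Fin (n + 1)) (j : Fin n), ev n x j =
      (if j.castSucc = x then 1 else 0) - (if j.succ = x then 1 else 0) := by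
    intro x j
    unfold ev
    simp only [Fin.ext_iff, Fin.val_castSucc, Fin.val_succ]
    split_ifs <;> omega
  have h1 : ∀ j : Fin n, δ j.castSucc = δ j.succ := by
    intro j
    have h2 := congrFun h j
    simp only [phA, hev] at h2
    simp only [δ]
    linarith
  have h2 : ∀ k : Fin (n + 1), δ k = δ 0 := by
    intro k
    induction k using Fin.induction with
    | zero => rfl
    | succ i ih => rw [← h1, ih]
  have h3 : ∑ k, δ k = 0 := by
    simp only [δ, Finset.sum_sub_distrib, Finset.sum_ite_eq', Finset.mem_univ, if_true]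
    norm_num
  have h4 : δ 0 = 0 := by
    rw [Finset.sum_congr rfl fun k _ => h2 k, Finset.sum_const, Finset.card_univ,
      Fintype.card_fin, nsmul_eq_mul] at h3
    rcases mul_eq_zero.1 h3 with h5 | h5
    · push_cast at h5
      omega
    · exact h5
  have h5 := (h2 a).trans h4
  have h6 := (h2 b).trans h4
  simp only [δ, if_true] at h5 h6
  rw [if_neg hab] at h5
  rw [if_neg (Ne.symm hab)] at h6
  apply Subtype.ext
  rw [Prod.mk.injEq]
  constructor
  · by_contra hc
    rw [if_neg hc] at h5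
    split_ifs at h5 <;> omega
  · by_contra hd
    rw [if_neg hd] at h6
    split_ifs at h6 <;> omega

/-- the rank function -/
def rkA (n : ℕ) (y : YA n) : ℕ := (y.1.1 : ℕ) + (n - y.1.2)

theorem conn_A {n : ℕ} (hn : 1 ≤ n) (y : YA n) (hy : y ≠ ⟨(0, Fin.last n), by
    intro h
    have := congrArg Fin.val h
    simp at this
    omega⟩) : ∃ i, rkA n (sA n i y) < rkA n y := by
  obtain ⟨⟨a, b⟩, hab⟩ := y
  have ha := a.2
  have hb := b.2
  have hne : (a : ℕ) ≠ b := fun h => hab (Fin.ext h)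
  unfold rkA sA
  simp only [RootsA.swap_val]
  by_cases h0 : (a : ℕ) = 0
  · have hbn : (b : ℕ) ≠ n := by
      intro hb'
      apply hy
      apply Subtype.ext
      rw [Prod.mk.injEq]
      exact ⟨Fin.ext h0, Fin.ext hb'⟩
    refine ⟨⟨b, by omega⟩, ?_⟩
    simp only
    rw [if_neg hne, if_neg (by omega)]
    simp only [if_true]
    omega
  · refine ⟨⟨a - 1, by omega⟩, ?_⟩
    simp only
    rw [if_neg (by omega : ¬ (a : ℕ) = a - 1), if_pos (by omega : (a : ℕ) = a - 1 + 1)]
    split_ifs <;> omega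

/-- the dominant functional -/
def cAd (n : ℕ) (j : Fin n) : ℤ := if (j : ℕ) = 0 ∨ (j : ℕ) = n - 1 then 1 else 0

theorem cAd_eq_zero {n : ℕ} {j : Fin n} : cAd n j = 0 ↔ ¬ ((j : ℕ) = 0 ∨ (j : ℕ) = n - 1) := by
  unfold cAd
  split_ifs <;> simp_all

theorem card_YA (n : ℕ) : Nat.card (YA n) = n * (n + 1) := by
  classical
  unfold YA
  rw [Nat.card_eq_fintype_card, Fintype.card_subtype]
  have h1 : (Finset.univ.filter fun y : Fin (n + 1) × Fin (n + 1) => y.1 ≠ y.2) =
      (Finset.univ : Finset (Fin (n + 1))).offDiag := by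
    ext y
    simp
  rw [h1, Finset.offDiag_card, Finset.card_univ, Fintype.card_fin]
  have : (n + 1) * (n + 1) - (n + 1) = n * (n + 1) := by
    rw [← Nat.sub_one_mul]
    simp
  exact this

theorem parity_A {n : ℕ} (hn : 3 ≤ n) {W : Type*} [Group W] [Finite W]
    (cs : CoxeterSystem (cA n) W) :
    (WJ cs {i | cAd n i = 0}).index = n * (n + 1) ∧
      Nat.card (DoubleCoset.Quotient (WJ cs {i | cAd n i = 0} : Set W)
        (WJ cs {i | cAd n i = 0} : Set W)) = 7 := by
  have h0 : (0 : Fin (n + 1)) ≠ Fin.last n := by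
    intro h
    have := congrArg Fin.val h
    simp at this
    omega
  have hy0 : phA n ⟨(0, Fin.last n), h0⟩ = cAd n := by
    funext j
    have := j.2
    have e1 : ((0 : Fin (n + 1)) : ℕ) = 0 := rfl
    have e2 : ((Fin.last n : Fin (n + 1)) : ℕ) = n := rfl
    simp only [phA, ev, cAd]
    split_ifs <;> omega
  obtain ⟨h1, h2⟩ := count cs (RootsA.isCartan n) (c := cAd n) (by
    intro i
    unfold cAd
    split_ifs <;> norm_num) (phA n) (phA_injective n) ⟨(0, Fin.last n), h0⟩ hy0 (sA n) phA_sA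
    (rkA n) (conn_A (by omega))
  refine ⟨h1.trans (card_YA n), (h2 _).trans ?_⟩
  -- the seven dominant pairs
  let f : Fin 3 → ℕ := ![0, 1, n]
  let g : Fin 3 → ℕ := ![0, n - 1, n]
  have hf : ∀ x, f x < n + 1 := by
    intro x
    fin_cases x <;> simp [f] <;> omega
  have hg : ∀ x, g x < n + 1 := by
    intro x
    fin_cases x <;> simp [g] <;> omega
  have hfinj : ∀ x y, f x = f y → x = y := by
    intro x y
    fin_cases x <;> fin_cases y <;> simp [f] <;> omega
  have hginj : ∀ x y, g x = g y → x = y := by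
    intro x y
    fin_cases x <;> fin_cases y <;> simp [g] <;> omega
  have hfg : ∀ x y, f x = g y ↔ ((x = 0 ∧ y = 0) ∨ (x = 2 ∧ y = 2)) := by
    intro x y
    fin_cases x <;> fin_cases y <;> simp [f, g] <;> omega
  have hdom : ∀ y : YA n, (∀ i ∈ {i | cAd n i = 0}, 0 ≤ phA n y i) ↔
      ((y.1.1 : ℕ) = 0 ∨ (y.1.1 : ℕ) = 1 ∨ (y.1.1 : ℕ) = n) ∧
      ((y.1.2 : ℕ) = 0 ∨ (y.1.2 : ℕ) = n - 1 ∨ (y.1.2 : ℕ) = n) := by
    rintro ⟨⟨a, b⟩, hab⟩
    have ha := a.2
    have hb := b.2
    have hne : (a : ℕ) ≠ b := fun h => hab (Fin.ext h)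
    simp only
    constructor
    · intro h3
      constructor
      · by_contra hcon
        have h4 := h3 ⟨a - 1, by omega⟩ (cAd_eq_zero.2 (by simp only; omega))
        simp only [phA, ev] at h4
        rw [if_neg (by omega : ¬ (a : ℕ) = a - 1), if_pos (by omega : (a : ℕ) = a - 1 + 1)] at h4
        split_ifs at h4 <;> omega
      · by_contra hcon
        have h4 := h3 ⟨b, by omega⟩ (cAd_eq_zero.2 (by simp only; omega))
        simp only [phA, ev] at h4
        rw [if_neg hne] at h4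
        simp only [if_true] at h4
        split_ifs at h4 <;> omega
    · rintro ⟨h3, h4⟩ i hi
      have hi' := i.2
      have hi2 : ¬ ((i : ℕ) = 0 ∨ (i : ℕ) = n - 1) := cAd_eq_zero.1 hi
      simp only [phA, ev]
      split_ifs <;> omega
  have key : Nat.card {y : YA n // ∀ i ∈ {i | cAd n i = 0}, 0 ≤ phA n y i} =
      Nat.card {q : Fin 3 × Fin 3 // ¬ ((q.1 = 0 ∧ q.2 = 0) ∨ (q.1 = 2 ∧ q.2 = 2))} := by
    symm
    refine Nat.card_congr (Equiv.ofBijective (fun q =>
      (⟨⟨(⟨f q.1.1, hf _⟩, ⟨g q.1.2, hg _⟩), fun h => q.2 ((hfg _ _).1 (congrArg Fin.val h))⟩,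
        (hdom _).2 ⟨?_, ?_⟩⟩ : {y : YA n // ∀ i ∈ {i | cAd n i = 0}, 0 ≤ phA n y i})) ⟨?_, ?_⟩)
    · obtain ⟨⟨x, y⟩, h⟩ := q
      fin_cases x <;> simp [f]
    · obtain ⟨⟨x, y⟩, h⟩ := q
      fin_cases y <;> simp [g]
    · rintro ⟨⟨x, y⟩, h⟩ ⟨⟨x', y'⟩, h'⟩ heq
      have h5 := congrArg (fun z => (z.1.1 : Fin (n + 1) × Fin (n + 1))) heq
      simp only [Prod.mk.injEq, Fin.mk.injEq] at h5
      exact Subtype.ext (Prod.ext (hfinj _ _ h5.1) (hginj _ _ h5.2))
    · rintro ⟨⟨⟨a, b⟩, hab⟩, hy⟩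
      obtain ⟨h5, h6⟩ := (hdom _).1 hy
      simp only at h5 h6
      obtain ⟨x, hx⟩ : ∃ x, f x = a := by
        rcases h5 with h5 | h5 | h5
        · exact ⟨0, by simp [f, h5]⟩
        · exact ⟨1, by simp [f, h5]⟩
        · exact ⟨2, by simp [f, h5]⟩
      obtain ⟨y, hy⟩ : ∃ y, g y = b := by
        rcases h6 with h6 | h6 | h6
        · exact ⟨0, by simp [g, h6]⟩
        · exact ⟨1, by simp [g, h6]⟩
        · exact ⟨2, by simp [g, h6]⟩
      refine ⟨⟨(x, y), fun h => hab (Fin.ext ?_)⟩, Subtype.ext (Subtype.ext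
        (Prod.ext (Fin.ext hx) (Fin.ext hy)))⟩
      show (a : ℕ) = b
      rw [← hx, ← hy]
      exact (hfg _ _).2 h
  rw [key, Nat.card_eq_fintype_card]
  decide

end Cfsg.Agent.H694
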