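import Cfsg.Agent.H694.CoxCount
import Cfsg.Agent.Nodes.TypeC
import Cfsg.Agent.Nodes.TypeD

/-!
# Parity data for the Coxeter groups of types `B` and `D`: the complement of the first node
-/

set_option autoImplicit false

namespace Cfsg.Agent.H694

open Cfsg.Agent.ChevalleyStructure.CoxeterGeom Cfsg.Agent.Tits.Core Cfsg.Agent.Tits.OppRes
open Cfsg.Agent.Nodes

/-- the sign of a signed index -/
def sn (b : Bool) : ℤ := if b then 1 else -1

/-- the rank function on signed indices -/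
def rkB (n : ℕ) (x : Fin n × Bool) : ℕ := if x.2 then x.1 else 2 * n - 1 - x.1

theorem card_signed (n : ℕ) : Nat.card (Fin n × Bool) = 2 * n := by
  rw [Nat.card_prod, Nat.card_eq_fintype_card, Nat.card_eq_fintype_card, Fintype.card_fin,
    Fintype.card_bool, mul_comm]

/-- the standard inner product -/
def ip {n : ℕ} (u v : Fin n → ℤ) : ℤ := ∑ k, u k * v k

theorem ip_comm {n : ℕ} (u v : Fin n → ℤ) : ip u v = ip v u :=
  Finset.sum_congr rfl fun _ _ => mul_comm _ _

theorem ip_add {n : ℕ} (u v w : Fin n → ℤ) : ip u (v + w) = ip u v + ip u w := by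
  simp only [ip, Pi.add_apply, mul_add, Finset.sum_add_distrib]

theorem ip_sub {n : ℕ} (u v w : Fin n → ℤ) : ip (u - v) w = ip u w - ip v w := by
  simp only [ip, Pi.sub_apply, sub_mul, Finset.sum_sub_distrib]

theorem ip_smul {n : ℕ} (c : ℤ) (u v : Fin n → ℤ) : ip (c • u) v = c * ip u v := by
  simp only [ip, Pi.smul_apply, smul_eq_mul, Finset.mul_sum, mul_assoc]

theorem ip_wt {n : ℕ} (u : Fin n → ℤ) (x : Fin n × Bool) : ip u (TypeC.wt x) = sn x.2 * u x.1 := by
  unfold ip sn
  simp only [TypeC.wt_apply, mul_ite, mul_zero, Finset.sum_ite_eq', Finset.mem_univ, if_true]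
  split_ifs <;> ring

/-- the functional of a signed index -/
def phB (n : ℕ) (x : Fin n × Bool) (j : Fin n) : ℤ := sn x.2 * TypeC.bt j x.1

theorem phB_eq {n : ℕ} (x : Fin n × Bool) (j : Fin n) : phB n x j = ip (TypeC.wt x) (TypeC.bt j) := by
  rw [ip_comm, ip_wt]
  rfl

theorem ip_btC {n : ℕ} (u : Fin n → ℤ) (i : Fin n) :
    ip u (TypeC.bt i) = (if (i : ℕ) + 1 < n then 1 else 2) * TypeC.Cf i u := by
  rw [TypeC.bt, ip_add, ip_wt, ip_wt]
  unfold TypeC.nx TypeC.Cf sn
  split_ifs <;> simp_all <;> ring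

theorem phB_sg {n : ℕ} (i : Fin n) (x : Fin n × Bool) (j : Fin n) :
    phB n (TypeC.sg i x) j = phB n x j - TypeC.A n i j * phB n x i := by
  rw [phB_eq, phB_eq, phB_eq, TypeC.wt_sg, ip_sub, ip_smul, TypeC.A, ip_comm (TypeC.bt i),
    ip_btC (TypeC.bt j) i, ip_btC (TypeC.wt x) i]
  ring

theorem sgC_fst {n : ℕ} (i : Fin n) (x : Fin n × Bool) : ((TypeC.sg i x).1 : ℕ) =
    if (i : ℕ) + 1 < n then (if (x.1 : ℕ) = i then (i : ℕ) + 1 else
      if (x.1 : ℕ) = (i : ℕ) + 1 then (i : ℕ) else (x.1 : ℕ)) else (x.1 : ℕ) := by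
  unfold TypeC.sg
  simp only [Fin.ext_iff]
  split_ifs <;> simp_all

theorem sgC_snd {n : ℕ} (i : Fin n) (x : Fin n × Bool) : (TypeC.sg i x).2 =
    if (i : ℕ) + 1 < n then x.2 else if (x.1 : ℕ) = i then !x.2 else x.2 := by
  unfold TypeC.sg
  simp only [Fin.ext_iff]
  split_ifs <;> simp_all

theorem phB_injective (n : ℕ) : Function.Injective (phB n) := by
  rintro ⟨k, b⟩ ⟨l, c⟩ h
  have h1 := k.2
  have h2 := l.2
  have h3 := congrFun h k
  have h4 := congrFun h l
  simp only [phB, sn, TypeC.bt_apply] at h3 h4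
  rw [Prod.mk.injEq, Fin.ext_iff]
  cases b <;> cases c <;> simp only [if_true, if_false, and_true, and_false,
    Bool.false_eq_true, reduceCtorEq] at h3 h4 ⊢ <;> split_ifs at h3 h4 <;> omega

theorem conn_B {n : ℕ} (hn : 2 ≤ n) (y : Fin n × Bool) (hy : y ≠ (⟨0, by omega⟩, true)) :
    ∃ i, rkB n (TypeC.sg i y) < rkB n y := by
  obtain ⟨k, b⟩ := y
  have h1 := k.2
  unfold rkB
  simp only [sgC_fst, sgC_snd]
  cases b with
  | true =>
    have hk : (k : ℕ) ≠ 0 := by
      intro h0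
      exact hy (by rw [Prod.mk.injEq]; exact ⟨Fin.ext h0, rfl⟩)
    refine ⟨⟨k - 1, by omega⟩, ?_⟩
    have e1 : (k : ℕ) - 1 + 1 < n := by omega
    have e2 : (k : ℕ) ≠ k - 1 := by omega
    have e3 : (k : ℕ) = k - 1 + 1 := by omega
    simp only [e1, e2, if_true, if_false]
    rw [if_pos e3]
    omega
  | false =>
    refine ⟨k, ?_⟩
    by_cases h : (k : ℕ) + 1 < n
    · simp only [h, if_true]
      simp only [Bool.false_eq_true, if_false]
      omega
    · simp only [h, if_false, Bool.not_false, if_true]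
      simp only [Bool.false_eq_true, if_false]
      omega

/-- the dominant functional -/
def cB (n : ℕ) (j : Fin n) : ℤ := if (j : ℕ) = 0 then 1 else 0

theorem cB_eq_zero {n : ℕ} {j : Fin n} : cB n j = 0 ↔ (j : ℕ) ≠ 0 := by
  unfold cB
  split_ifs <;> simp_all

theorem card_three {Y : Type*} (a b c : Y) (hab : a ≠ b) (hac : a ≠ c) (hbc : b ≠ c) (p : Y → Prop)
    (h : ∀ y, p y ↔ y = a ∨ y = b ∨ y = c) : Nat.card {y : Y // p y} = 3 := by
  classical
  have h1 : Nat.card {y : Y // p y} = ({a, b, c} : Finset Y).card := by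
    rw [← Nat.card_eq_finsetCard]
    refine Nat.card_congr (Equiv.subtypeEquivRight fun y => ?_)
    rw [h]
    simp
  rw [h1, Finset.card_eq_three.2 ⟨a, b, c, hab, hac, hbc, rfl⟩]

theorem parity_B {n : ℕ} (hn : 2 ≤ n) {W : Type*} [Group W] [Finite W]
    (cs : CoxeterSystem (CoxeterMatrix.B n) W) :
    (WJ cs {i | cB n i = 0}).index = 2 * n ∧
      Nat.card (DoubleCoset.Quotient (WJ cs {i | cB n i = 0} : Set W)
        (WJ cs {i | cB n i = 0} : Set W)) = 3 := by
  have hy0 : phB n (⟨0, by omega⟩, true) = cB n := by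
    funext j
    have := j.2
    simp only [phB, sn, TypeC.bt_apply, cB, if_true]
    split_ifs <;> first | omega | contradiction
  obtain ⟨h1, h2⟩ := count cs (TypeC.isCartan n) (c := cB n) (by
    intro i
    unfold cB
    split_ifs <;> norm_num) (phB n) (phB_injective n) (⟨0, by omega⟩, true) hy0 TypeC.sg phB_sg
    (rkB n) (conn_B hn)
  refine ⟨h1.trans (card_signed n), (h2 _).trans ?_⟩
  refine card_three ((⟨0, by omega⟩ : Fin n), true) ((⟨1, by omega⟩ : Fin n), true)
    ((⟨0, by omega⟩ : Fin n), false) (by simp) (by simp) (by simp) _ ?_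
  rintro ⟨k, b⟩
  have hk := k.2
  simp only [Prod.mk.injEq, Fin.ext_iff]
  constructor
  · intro h3
    cases b with
    | true =>
      by_contra hcon
      have h5 : (k : ℕ) ≠ 0 ∧ (k : ℕ) ≠ 1 := by simpa using hcon
      have h4 := h3 ⟨k - 1, by omega⟩ (cB_eq_zero.2 (by simp only; omega))
      simp only [phB, sn, TypeC.bt_apply] at h4
      simp only [if_true] at h4
      split_ifs at h4 <;> omega
    | false =>
      by_contra hcon
      have h5 : (k : ℕ) ≠ 0 := by simpa using hcon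
      have h4 := h3 k (cB_eq_zero.2 h5)
      simp only [phB, sn, TypeC.bt_apply] at h4
      simp only [if_true, Bool.false_eq_true, if_false] at h4
      split_ifs at h4 <;> omega
  · intro h3 i hi
    have hi' := i.2
    have hi2 : (i : ℕ) ≠ 0 := cB_eq_zero.1 hi
    simp only [phB, sn, TypeC.bt_apply]
    cases b
    · have h5 : (k : ℕ) = 0 := by simpa using h3
      simp only [Bool.false_eq_true, if_false]
      split_ifs <;> omega
    · have h5 : (k : ℕ) = 0 ∨ (k : ℕ) = 1 := by simpa using h3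
      simp only [if_true]
      split_ifs <;> omega

theorem parity_B2 {W : Type*} [Group W] [Finite W] (cs : CoxeterSystem (CoxeterMatrix.B 2) W) :
    Nat.card (DoubleCoset.Quotient (WJ cs {i | cB 2 i ≠ 0} : Set W)
        (WJ cs {i | cB 2 i = 0} : Set W)) = 2 := by
  have hy0 : phB 2 (0, true) = cB 2 := by decide
  obtain ⟨-, h2⟩ := count cs (TypeC.isCartan 2) (c := cB 2) (by decide) (phB 2) (phB_injective 2)
    (0, true) hy0 TypeC.sg phB_sg (rkB 2) (conn_B (by norm_num))
  rw [h2]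
  have h3 : ∀ y : Fin 2 × Bool, (∀ i ∈ {i | cB 2 i ≠ 0}, 0 ≤ phB 2 y i) ↔
      (∀ i : Fin 2, cB 2 i ≠ 0 → 0 ≤ phB 2 y i) := fun y => Iff.rfl
  rw [Nat.card_congr (Equiv.subtypeEquivRight h3), Nat.card_eq_fintype_card]
  decide

/-! ### Type `D` -/

/-- the functional of a signed index -/
def phD (n : ℕ) (x : Fin (n + 2) × Bool) (j : Fin (n + 2)) : ℤ := sn x.2 * TypeD.bt j x.1

theorem phD_eq {n : ℕ} (x : Fin (n + 2) × Bool) (j : Fin (n + 2)) :
    phD n x j = ip (TypeC.wt x) (TypeD.bt j) := by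
  rw [ip_comm, ip_wt]
  rfl

theorem ip_btD {n : ℕ} (u : Fin (n + 2) → ℤ) (i : Fin (n + 2)) :
    ip u (TypeD.bt i) = TypeD.Cf i u := by
  rw [TypeD.bt, ip_add, ip_wt, ip_wt]
  unfold TypeD.nx TypeD.Cf sn
  split_ifs <;> simp_all <;> ring

theorem phD_sg {n : ℕ} (i : Fin (n + 2)) (x : Fin (n + 2) × Bool) (j : Fin (n + 2)) :
    phD n (TypeD.sg i x) j = phD n x j - TypeD.A n i j * phD n x i := by
  rw [phD_eq, phD_eq, phD_eq, TypeD.wt_sg, ip_sub, ip_smul, TypeD.A, ip_comm (TypeD.bt i),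
    ip_btD (TypeD.bt j) i, ip_btD (TypeC.wt x) i]
  ring

theorem sgD_fst {n : ℕ} (i : Fin (n + 2)) (x : Fin (n + 2) × Bool) : ((TypeD.sg i x).1 : ℕ) =
    if (i : ℕ) + 1 < n + 2 then (if (x.1 : ℕ) = i then (i : ℕ) + 1 else
      if (x.1 : ℕ) = (i : ℕ) + 1 then (i : ℕ) else (x.1 : ℕ)) else
      (if (x.1 : ℕ) = i then n else if (x.1 : ℕ) = n then (i : ℕ) else (x.1 : ℕ)) := by
  unfold TypeD.sg TypeD.pd
  simp only [Fin.ext_iff]
  split_ifs <;> simp_all

theorem sgD_snd {n : ℕ} (i : Fin (n + 2)) (x : Fin (n + 2) × Bool) : (TypeD.sg i x).2 =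
    if (i : ℕ) + 1 < n + 2 then x.2 else if (x.1 : ℕ) = i ∨ (x.1 : ℕ) = n then !x.2 else x.2 := by
  unfold TypeD.sg TypeD.pd
  simp only [Fin.ext_iff]
  split_ifs <;> simp_all

theorem phD_injective (n : ℕ) : Function.Injective (phD n) := by
  intro x y h
  apply TypeC.wt_injective
  have h1 : ∀ i : Fin (n + 2), TypeD.Cf i (TypeC.wt x) = TypeD.Cf i (TypeC.wt y) := by
    intro i
    rw [← ip_btD, ← ip_btD, ← phD_eq, ← phD_eq, h]
  have h2 : ∀ d : ℕ, ∀ k : Fin (n + 2), (k : ℕ) + d = n + 1 →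
      TypeC.wt x k - TypeC.wt y k = TypeC.wt x (Fin.last (n + 1)) - TypeC.wt y (Fin.last (n + 1)) := by
    intro d
    induction d with
    | zero =>
      intro k hk
      have : k = Fin.last (n + 1) := Fin.ext (by simpa using hk)
      rw [this]
    | succ d ih =>
      intro k hk
      have h3 : (k : ℕ) + 1 < n + 2 := by omega
      have h4 := h1 k
      unfold TypeD.Cf at h4
      rw [dif_pos h3, dif_pos h3] at h4
      have h5 := ih ⟨k + 1, h3⟩ (by simp only; omega)
      linarith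
  have h3 : TypeC.wt x (Fin.last (n + 1)) - TypeC.wt y (Fin.last (n + 1)) = 0 := by
    have h4 := h1 (Fin.last (n + 1))
    unfold TypeD.Cf at h4
    have h5 : ¬ ((Fin.last (n + 1) : Fin (n + 2)) : ℕ) + 1 < n + 2 := by simp
    rw [dif_neg h5, dif_neg h5] at h4
    have h6 := h2 1 (TypeD.pd n) rfl
    linarith
  funext k
  have h4 := h2 (n + 1 - k) k (by have := k.2; omega)
  rw [h3] at h4
  linarith

theorem conn_D {n : ℕ} (y : Fin (n + 2) × Bool) (hy : y ≠ (⟨0, by omega⟩, true)) :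
    ∃ i, rkB (n + 2) (TypeD.sg i y) < rkB (n + 2) y := by
  obtain ⟨k, b⟩ := y
  have h1 := k.2
  unfold rkB
  simp only [sgD_fst, sgD_snd]
  cases b with
  | true =>
    have hk : (k : ℕ) ≠ 0 := by
      intro h0
      exact hy (by rw [Prod.mk.injEq]; exact ⟨Fin.ext h0, rfl⟩)
    refine ⟨⟨k - 1, by omega⟩, ?_⟩
    have e1 : (k : ℕ) - 1 + 1 < n + 2 := by omega
    have e2 : (k : ℕ) ≠ k - 1 := by omega
    have e3 : (k : ℕ) = k - 1 + 1 := by omega
    simp only [e1, e2, if_true, if_false]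
    rw [if_pos e3]
    omega
  | false =>
    refine ⟨k, ?_⟩
    by_cases h : (k : ℕ) + 1 < n + 2
    · simp only [h, if_true]
      simp only [Bool.false_eq_true, if_false]
      omega
    · simp only [h, if_false, Bool.not_false, if_true, true_or]
      simp only [Bool.false_eq_true, if_false]
      omega

theorem parity_D {n : ℕ} (hn : 1 ≤ n) {W : Type*} [Group W] [Finite W]
    (cs : CoxeterSystem (TypeD.M n) W) :
    (WJ cs {i | cB (n + 2) i = 0}).index = 2 * (n + 2) ∧
      Nat.card (DoubleCoset.Quotient (WJ cs {i | cB (n + 2) i = 0} : Set W)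
        (WJ cs {i | cB (n + 2) i = 0} : Set W)) = 3 := by
  have hy0 : phD n (⟨0, by omega⟩, true) = cB (n + 2) := by
    funext j
    have := j.2
    simp only [phD, sn, TypeD.bt_apply, cB, if_true]
    split_ifs <;> first | omega | contradiction
  obtain ⟨h1, h2⟩ := count cs (TypeD.isCartan n) (c := cB (n + 2)) (by
    intro i
    unfold cB
    split_ifs <;> norm_num) (phD n) (phD_injective n) (⟨0, by omega⟩, true) hy0 TypeD.sg phD_sg
    (rkB (n + 2)) conn_D
  refine ⟨h1.trans (card_signed (n + 2)), (h2 _).trans ?_⟩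
  refine card_three ((⟨0, by omega⟩ : Fin (n + 2)), true) ((⟨1, by omega⟩ : Fin (n + 2)), true)
    ((⟨0, by omega⟩ : Fin (n + 2)), false) (by simp) (by simp) (by simp) _ ?_
  rintro ⟨k, b⟩
  have hk := k.2
  simp only [Prod.mk.injEq, Fin.ext_iff]
  constructor
  · intro h3
    cases b with
    | true =>
      by_contra hcon
      have h5 : (k : ℕ) ≠ 0 ∧ (k : ℕ) ≠ 1 := by simpa using hcon
      have h4 := h3 ⟨k - 1, by omega⟩ (cB_eq_zero.2 (by simp only; omega))
      simp only [phD, sn, TypeD.bt_apply] at h4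
      simp only [if_true] at h4
      split_ifs at h4 <;> omega
    | false =>
      by_contra hcon
      have h5 : (k : ℕ) ≠ 0 := by simpa using hcon
      have h4 := h3 k (cB_eq_zero.2 h5)
      simp only [phD, sn, TypeD.bt_apply] at h4
      simp only [if_true, Bool.false_eq_true, if_false] at h4
      split_ifs at h4 <;> omega
  · intro h3 i hi
    have hi' := i.2
    have hi2 : (i : ℕ) ≠ 0 := cB_eq_zero.1 hi
    simp only [phD, sn, TypeD.bt_apply]
    cases b
    · have h5 : (k : ℕ) = 0 := by simpa using h3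
      simp only [Bool.false_eq_true, if_false]
      split_ifs <;> omega
    · have h5 : (k : ℕ) = 0 ∨ (k : ℕ) = 1 := by simpa using h3
      simp only [if_true]
      split_ifs <;> omega

end Cfsg.Agent.H694
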