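import Cfsg.Agent.H694.BnData
import Cfsg.Agent.H694.CoxA
import Cfsg.Agent.H694.CoxBD
import Cfsg.Agent.H694.CoxExc
import Cfsg.Agent.H694.Diag

/-!
# Parity data for groups with a split (B, N)-pair of odd characteristic and given type
-/

set_option autoImplicit false

namespace Cfsg.Agent.H694

open Cfsg Cfsg.Agent.Tits.Core Cfsg.Agent.Nodes
open Cfsg.Agent.Omega.ML.Ex.Typ (HasSplitT HasRGDT)
open Cfsg.Agent.LieRecognition.BNCox (cA)

/-- walk counts in the graph of the bonds of label `3` -/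
def wk {I : Type*} [Fintype I] (M : CoxeterMatrix I) : ℕ → I → ℕ
  | 0, _ => 1
  | k + 1, i => ∑ j, if M i j = 3 then wk M k j else 0

theorem wk_inv {I : Type*} [Fintype I] {M : CoxeterMatrix I} (σ : I ≃ I)
    (hσ : ∀ i j, M (σ i) (σ j) = M i j) (k : ℕ) (i : I) : wk M k (σ i) = wk M k i := by
  induction k generalizing i with
  | zero => rfl
  | succ k ih =>
    show (∑ j, if M (σ i) j = 3 then wk M k j else 0) = ∑ j, if M i j = 3 then wk M k j else 0
    refine (Fintype.sum_equiv σ _ _ fun j => ?_).symm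
    rw [hσ, ih]

universe u

variable {K : Type u} [Group K] [Finite K] {p : ℕ}

/-- type `A_n`, `n ≥ 3` -/
theorem dData_A {n : ℕ} (hn : 3 ≤ n) (hp : p.Prime) (hp2 : p ≠ 2) (hK : HasSplitT p (cA n) K) :
    DData K := by
  refine dData_of_splitT hp hp2 hK {i | cAd n i = 0} ?_ ?_
  · intro σ hσ
    have h1 : {i : Fin n | cAd n i = 0} = {i : Fin n | (i : ℕ) = 0 ∨ (i : ℕ) = n - 1}ᶜ := by
      ext i
      exact cAd_eq_zero
    rw [h1]
    exact image_compl_eq σ _ fun i hi => leaf_A hn σ hσ i hi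
  · intro W _ _ cs
    obtain ⟨h1, h2⟩ := parity_A hn cs
    rw [h1, h2]
    exact (Nat.even_mul_succ_self n).add_odd (by decide)

/-- type `B_n`, `n ≥ 3` -/
theorem dData_B {n : ℕ} (hn : 3 ≤ n) (hp : p.Prime) (hp2 : p ≠ 2)
    (hK : HasSplitT p (CoxeterMatrix.B n) K) : DData K := by
  refine dData_of_splitT hp hp2 hK {i | cB n i = 0} (fun σ hσ => stable_B hn _ σ hσ) ?_
  intro W _ _ cs
  obtain ⟨h1, h2⟩ := parity_B (by omega) cs
  rw [h1, h2]
  exact (even_two_mul n).add_odd (by decide)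

/-- type `D_{n+2}`, `n ≥ 3` -/
theorem dData_D {n : ℕ} (hn : 3 ≤ n) (hp : p.Prime) (hp2 : p ≠ 2)
    (hK : HasSplitT p (TypeD.M n) K) : DData K := by
  refine dData_of_splitT hp hp2 hK {i | cB (n + 2) i = 0} ?_ ?_
  · intro σ hσ
    have h1 : {i : Fin (n + 2) | cB (n + 2) i = 0} = {i : Fin (n + 2) | (i : ℕ) = 0}ᶜ := by
      ext i
      exact cB_eq_zero
    rw [h1]
    refine image_compl_eq σ _ fun i hi => ?_
    have hi' : (i : ℕ) = 0 := hi
    rw [fix_D hn σ hσ i (by omega)]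
    exact hi
  · intro W _ _ cs
    obtain ⟨h1, h2⟩ := parity_D (by omega) cs
    rw [h1, h2]
    exact (even_two_mul _).add_odd (by decide)

/-- type `D₄` -/
theorem dData_D4 (hp : p.Prime) (hp2 : p ≠ 2) (hK : HasSplitT p (TypeD.M 2) K) : DData K := by
  refine dData_of_splitT hp hp2 hK {i | dc 34968 i = 0} ?_ ?_
  · intro σ hσ
    have h1 : {i : Fin (2 + 2) | dc 34968 i = 0} = {i : Fin (2 + 2) | i = 1}ᶜ := by
      ext i
      show dc 34968 i = 0 ↔ ¬ (i = 1)
      revert i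
      decide
    rw [h1]
    refine image_compl_eq σ _ fun i hi => ?_
    have hi' : i = 1 := hi
    have h2 := wk_inv σ hσ 1 i
    subst hi'
    revert h2
    generalize σ 1 = x
    show wk (TypeD.M 2) 1 x = wk (TypeD.M 2) 1 1 → x = 1
    revert x
    decide
  · intro W _ _ cs
    obtain ⟨h1, h2⟩ := parity_D4 cs
    rw [h1, h2]
    decide

/-- type `F₄` -/
theorem dData_F4 (hp : p.Prime) (hp2 : p ≠ 2) (hK : HasSplitT p CoxeterMatrix.F₄ K) : DData K := by
  refine dData_of_splitT hp hp2 hK {i | dc 39049 i = 0} ?_ ?_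
  · intro σ hσ
    have h1 : {i : Fin 4 | dc 39049 i = 0} = {i : Fin 4 | i = 0 ∨ i = 3}ᶜ := by
      ext i
      show dc 39049 i = 0 ↔ ¬ (i = 0 ∨ i = 3)
      revert i
      decide
    rw [h1]
    refine image_compl_eq σ _ fun i hi => ?_
    show σ i = 0 ∨ σ i = 3
    have hi' : i = 0 ∨ i = 3 := hi
    clear h1 hi
    by_contra hcon
    -- the nodes `1, 2` are those with a bond of label `4`
    have h4 : ∀ x : Fin 4, ¬ (x = 0 ∨ x = 3) →
        CoxeterMatrix.F₄ x 1 = 4 ∨ CoxeterMatrix.F₄ x 2 = 4 := by decide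
    obtain ⟨j, hj⟩ : ∃ j, CoxeterMatrix.F₄ (σ i) j = 4 := by
      rcases h4 _ hcon with h5 | h5
      · exact ⟨_, h5⟩
      · exact ⟨_, h5⟩
    obtain ⟨k, rfl⟩ := σ.surjective j
    rw [hσ] at hj
    revert hj
    rcases hi' with rfl | rfl <;> revert k <;> decide
  · intro W _ _ cs
    obtain ⟨h1, h2⟩ := parity_F4 cs
    rw [h1, h2]
    decide

/-- type `E₆` -/
theorem dData_E6 (hp : p.Prime) (hp2 : p ≠ 2) (hK : HasSplitT p CoxeterMatrix.E₆ K) :
    DData K := by
  refine dData_of_splitT hp hp2 hK {i | dc 8947864 i = 0} ?_ ?_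
  · intro σ hσ
    have h1 : {i : Fin 6 | dc 8947864 i = 0} = {i : Fin 6 | i = 1}ᶜ := by
      ext i
      show dc 8947864 i = 0 ↔ ¬ (i = 1)
      revert i
      decide
    rw [h1]
    refine image_compl_eq σ _ fun i hi => ?_
    have hi' : i = 1 := hi
    have h2 := wk_inv σ hσ 1 i
    have h3 := wk_inv σ hσ 2 i
    subst hi'
    revert h2 h3
    generalize σ 1 = x
    show wk CoxeterMatrix.E₆ 1 x = wk CoxeterMatrix.E₆ 1 1 →
      wk CoxeterMatrix.E₆ 2 x = wk CoxeterMatrix.E₆ 2 1 → x = 1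
    revert x
    decide +kernel
  · intro W _ _ cs
    obtain ⟨h1, h2⟩ := parity_E6 cs
    rw [h1, h2]
    decide

/-- type `E₇` -/
theorem dData_E7 (hp : p.Prime) (hp2 : p ≠ 2) (hK : HasSplitT p CoxeterMatrix.E₇ K) :
    DData K := by
  refine dData_of_splitT hp hp2 hK {i | dc 143165577 i = 0} ?_ ?_
  · intro σ hσ
    have h1 : {i : Fin 7 | dc 143165577 i = 0} = {i : Fin 7 | i = 0}ᶜ := by
      ext i
      show dc 143165577 i = 0 ↔ ¬ (i = 0)
      revert i
      decide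
    rw [h1]
    refine image_compl_eq σ _ fun i hi => ?_
    have hi' : i = 0 := hi
    have h2 := wk_inv σ hσ 1 i
    have h3 := wk_inv σ hσ 3 i
    subst hi'
    revert h2 h3
    generalize σ 0 = x
    show wk CoxeterMatrix.E₇ 1 x = wk CoxeterMatrix.E₇ 1 0 →
      wk CoxeterMatrix.E₇ 3 x = wk CoxeterMatrix.E₇ 3 0 → x = 0
    revert x
    decide +kernel
  · intro W _ _ cs
    obtain ⟨h1, h2⟩ := parity_E7 cs
    rw [h1, h2]
    decide

/-- type `E₈` -/
theorem dData_E8 (hp : p.Prime) (hp2 : p ≠ 2) (hK : HasSplitT p CoxeterMatrix.E₈ K) :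
    DData K := by
  refine dData_of_splitT hp hp2 hK {i | dc 2559084680 i = 0} ?_ ?_
  · intro σ hσ
    have h1 : {i : Fin 8 | dc 2559084680 i = 0} = {i : Fin 8 | i = 7}ᶜ := by
      ext i
      show dc 2559084680 i = 0 ↔ ¬ (i = 7)
      revert i
      decide
    rw [h1]
    refine image_compl_eq σ _ fun i hi => ?_
    have hi' : i = 7 := hi
    have h2 := wk_inv σ hσ 1 i
    have h3 := wk_inv σ hσ 3 i
    subst hi'
    revert h2 h3
    generalize σ 7 = x
    show wk CoxeterMatrix.E₈ 1 x = wk CoxeterMatrix.E₈ 1 7 →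
      wk CoxeterMatrix.E₈ 3 x = wk CoxeterMatrix.E₈ 3 7 → x = 7
    revert x
    decide +kernel
  · intro W _ _ cs
    obtain ⟨h1, h2⟩ := parity_E8 cs
    rw [h1, h2]
    decide

/-! ### Type `B₂` -/

theorem d2Data_B2 (hp : p.Prime) (hp2 : p ≠ 2) (hK : HasSplitT p (CoxeterMatrix.B 2) K) :
    D2Data K := by
  refine d2Data_of_splitT hp hp2 hK {i | cB 2 i = 0} {i | cB 2 i ≠ 0} ?_ ?_ ?_ ?_
  · intro h
    have : (0 : Fin 2) ∈ {i : Fin 2 | cB 2 i = 0} := by
      rw [h]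
      show cB 2 0 ≠ 0
      decide
    exact absurd (show cB 2 0 = 0 from this) (by decide)
  · intro σ _
    have h1 : {i : Fin 2 | cB 2 i = 0} = {1} := by
      ext i
      show cB 2 i = 0 ↔ i = 1
      revert i
      decide
    have h2 : {i : Fin 2 | cB 2 i ≠ 0} = {0} := by
      ext i
      show cB 2 i ≠ 0 ↔ i = 0
      revert i
      decide
    rw [h1, h2, Set.image_singleton, Set.image_singleton]
    have h3 : ∀ x y : Fin 2, x ≠ y → (x = 1 ∧ y = 0) ∨ (x = 0 ∧ y = 1) := by decide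
    rcases h3 (σ 1) (σ 0) (fun h => absurd (σ.injective h) (by decide)) with ⟨h4, h5⟩ | ⟨h4, h5⟩
    · exact Or.inl ⟨by rw [h4], by rw [h5]⟩
    · exact Or.inr ⟨by rw [h4], by rw [h5]⟩
  · intro W _ _ cs
    obtain ⟨h1, h2⟩ := parity_B (le_refl 2) cs
    rw [h1, h2]
    decide
  · intro W _ _ cs
    obtain ⟨h1, h2⟩ := parity_B (le_refl 2) cs
    rw [h2, card_double_comm, parity_B2 cs]
    decide

end Cfsg.Agent.H694
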