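import Cfsg.Agent.H694.P1Data
import Cfsg.Agent.H397.ZTwo
import Cfsg.Agent.S0014

/-!
# Criteria for `P1Data`

* `P1Data.of_cyclic`: a real element of odd prime order `r`, cyclic Sylow `r`-subgroups;
* `P1Data.of_out_two`: local data and `Out` a `2`-group;
* `P1Data.of_out_odd`: local data and `|Out|` odd.
-/

set_option autoImplicit false
set_option linter.style.haveILetI false

namespace Cfsg.Agent.H694

open Subgroup

theorem central_of_cyclic {M : Type*} [Group M] [Finite M] {r : ℕ} [hr : Fact r.Prime]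
    (P : Sylow r M) [IsCyclic (P : Subgroup M)] [hPn : (P : Subgroup M).Normal] {y : M}
    (hy : y ∈ (P : Subgroup M)) (hy1 : y ≠ 1) (hc : ∀ g, g * y = y * g) :
    (P : Subgroup M) ≤ center M := by
  obtain ⟨K, hK⟩ := Subgroup.exists_left_complement'_of_coprime P.card_coprime_index
  have hKP : K ≤ Subgroup.normalizer ((P : Subgroup M) : Set M) := P.normalizer_eq_top ▸ le_top
  have hPK : (Nat.card (P : Subgroup M)).Coprime (Nat.card K) := by
    have := P.card_coprime_index
    rwa [hK.index_eq_card] at this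
  let _ := MulDistribMulAction.compHom (P : Subgroup M)
    ((P : Subgroup M).normalizerMonoidHom.comp (Subgroup.inclusion hKP))
  have hsm : ∀ (k : K) (q : (P : Subgroup M)), ((k • q : (P : Subgroup M)) : M) = k * q * (k : M)⁻¹ :=
    fun k q => rfl
  rcases P.2.smul_mul_inv_trivial_or_surjective hPK with h | h
  · intro p hp
    rw [mem_center_iff]
    have h1 : (⊤ : Subgroup M) ≤ centralizer {p} := by
      rw [← hK.sup_eq_top, sup_le_iff]
      constructor
      · intro k hk
        rw [mem_centralizer_singleton_iff]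
        have h2 := congrArg Subtype.val (h ⟨p, hp⟩ ⟨k, hk⟩)
        have h3 : k * p * k⁻¹ * p⁻¹ = 1 := h2
        exact mul_inv_eq_iff_eq_mul.1 (mul_inv_eq_one.1 h3)
      · intro q hq
        rw [mem_centralizer_singleton_iff]
        letI : CommGroup (P : Subgroup M) := IsCyclic.commGroup
        exact congrArg Subtype.val (mul_comm (⟨q, hq⟩ : (P : Subgroup M)) ⟨p, hp⟩)
    intro g
    exact mem_centralizer_singleton_iff.1 (h1 (mem_top g))
  · exfalso
    obtain ⟨x, hx⟩ := IsCyclic.exists_generator (α := (P : Subgroup M))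
    obtain ⟨k, q, hq⟩ := h x
    letI : CommGroup (P : Subgroup M) := IsCyclic.commGroup
    let u : (P : Subgroup M) →* (P : Subgroup M) :=
      { toFun := fun z => k • z * z⁻¹
        map_one' := by simp
        map_mul' := fun a b => by
          rw [smul_mul', mul_inv]
          exact mul_mul_mul_comm _ _ _ _ }
    have hsurj : Function.Surjective u := by
      intro z
      obtain ⟨i, hi⟩ := hx z
      refine ⟨q ^ i, ?_⟩
      rw [map_zpow]
      have : u q = x := hq
      rw [this]
      exact hi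
    have hinj := Finite.injective_iff_surjective.2 hsurj
    have h1 : u ⟨y, hy⟩ = 1 := by
      apply Subtype.ext
      show (k : M) * y * (k : M)⁻¹ * y⁻¹ = 1
      rw [hc k, mul_inv_cancel_right, mul_inv_cancel]
    have h2 : (⟨y, hy⟩ : (P : Subgroup M)) = 1 := hinj (h1.trans (map_one u).symm)
    exact hy1 (congrArg Subtype.val h2)

/-- Burnside's transfer theorem for cyclic Sylow subgroups meeting the center. -/
theorem exists_complement {C : Type*} [Group C] [Finite C] {r : ℕ} [hr : Fact r.Prime]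
    (hcyc : ∀ P : Sylow r C, IsCyclic (P : Subgroup C)) {y : C} (hy : orderOf y = r)
    (hc : ∀ g, g * y = y * g) : ∃ K : Subgroup C, K.Normal ∧ ¬ r ∣ Nat.card K ∧ ∃ k, K.index = r ^ k := by
  have hy1 : y ≠ 1 := by
    rintro rfl
    rw [orderOf_one] at hy
    exact hr.out.one_lt.ne hy
  have hz : IsPGroup r (zpowers y) := IsPGroup.of_card (n := 1) (by rw [Nat.card_zpowers, hy, pow_one])
  obtain ⟨P, hP⟩ := hz.exists_le_sylow
  have hyP : y ∈ (P : Subgroup C) := hP (mem_zpowers y)
  have := hcyc P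
  have hNC : Subgroup.normalizer ((P : Subgroup C) : Set C) ≤ Subgroup.centralizer ((P : Subgroup C) : Set C) := by
    let Q : Sylow r (Subgroup.normalizer ((P : Subgroup C) : Set C)) := P.subtype P.le_normalizer
    have hQ : (Q : Subgroup (Subgroup.normalizer ((P : Subgroup C) : Set C))).Normal := P.normal_in_normalizer
    have : IsCyclic (Q : Subgroup (Subgroup.normalizer ((P : Subgroup C) : Set C))) :=
      isCyclic_of_surjective _ (Subgroup.subgroupOfEquivOfLe P.le_normalizer).symm.surjective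
    have h1 := central_of_cyclic Q (y := ⟨y, P.le_normalizer hyP⟩) (Subgroup.mem_subgroupOf.2 hyP)
      (fun h => hy1 (congrArg Subtype.val h)) (fun g => Subtype.ext (hc g))
    intro g hg
    rw [mem_centralizer_iff]
    intro p hp
    have h2 := h1 (show (⟨p, P.le_normalizer hp⟩ : Subgroup.normalizer ((P : Subgroup C) : Set C)) ∈ (Q : Subgroup _) from
      Subgroup.mem_subgroupOf.2 hp)
    rw [mem_center_iff] at h2
    exact (congrArg Subtype.val (h2 ⟨g, hg⟩)).symm
  have hcomp := MonoidHom.ker_transferSylow_isComplement' P hNC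
  refine ⟨(MonoidHom.transferSylow P hNC).ker, inferInstance,
    MonoidHom.not_dvd_card_ker_transferSylow P hNC, ?_⟩
  rw [hcomp.symm.index_eq_card]
  exact IsPGroup.iff_card.1 P.2

/-- A proper subgroup with quotient a `2`-group lies in a subgroup of index two. -/
theorem exists_index_two {Q : Type*} [Group Q] [Finite Q] (M A : Subgroup Q) [hM : M.Normal]
    (h2 : IsPGroup 2 (Q ⧸ M)) (hMA : M ≤ A) (hA : A ≠ ⊤) : ∃ D : Subgroup Q, D.index = 2 ∧ A ≤ D := by
  have h3 : A.map (QuotientGroup.mk' M) ≠ ⊤ := by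
    intro h4
    apply hA
    rw [eq_top_iff]
    intro g _
    have h5 : (QuotientGroup.mk' M g) ∈ A.map (QuotientGroup.mk' M) := by rw [h4]; exact mem_top _
    obtain ⟨y, hy, hyg⟩ := Subgroup.mem_map.1 h5
    have h6 : y⁻¹ * g ∈ M := QuotientGroup.eq.1 hyg
    have h7 : g = y * (y⁻¹ * g) := by group
    rw [h7]
    exact A.mul_mem hy (hMA h6)
  obtain ⟨C, hC, hle⟩ := (eq_top_or_exists_le_coatom (A.map (QuotientGroup.mk' M))).resolve_left h3
  have : Fact (Nat.Prime 2) := ⟨Nat.prime_two⟩
  obtain ⟨h4, h5⟩ := Cfsg.Agent.S0014.coatom_normal_index h2 hC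
  refine ⟨C.comap (QuotientGroup.mk' M), ?_, Subgroup.map_le_iff_le_comap.1 hle⟩
  rw [Subgroup.index_comap_of_surjective _ (QuotientGroup.mk'_surjective M), h5]

/-- A subgroup of even index containing the commutator subgroup. -/
theorem exists_index_two_of_comm {Q : Type*} [Group Q] [Finite Q] (H : Subgroup Q)
    (hc : ∀ a b : Q, a * b * a⁻¹ * b⁻¹ ∈ H) (he : Even H.index) :
    ∃ D : Subgroup Q, D.index = 2 ∧ H ≤ D := by
  have hH : H.Normal := by
    constructor
    intro h hh g
    have h1 : g * h * g⁻¹ = g * h * g⁻¹ * h⁻¹ * h := by group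
    rw [h1]
    exact H.mul_mem (hc g h) hh
  have hcomm : ∀ a b : Q ⧸ H, a * b = b * a := by
    intro a b
    obtain ⟨x, rfl⟩ := QuotientGroup.mk_surjective a
    obtain ⟨y, rfl⟩ := QuotientGroup.mk_surjective b
    rw [← QuotientGroup.mk_mul, ← QuotientGroup.mk_mul, QuotientGroup.eq]
    have h1 := hc y⁻¹ x⁻¹
    have h2 : (x * y)⁻¹ * (y * x) = y⁻¹ * x⁻¹ * y⁻¹⁻¹ * x⁻¹⁻¹ := by group
    rw [h2]
    exact h1
  let sq : (Q ⧸ H) →* (Q ⧸ H) :=
    { toFun := fun z => z * z
      map_one' := one_mul 1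
      map_mul' := fun a b => by
        rw [mul_assoc a b, ← mul_assoc b a, hcomm b a]
        simp only [mul_assoc] }
  have hsq : ∀ z, sq z = z * z := fun z => rfl
  have hTn : sq.range.Normal := ⟨fun n hn g => by
    rw [hcomm g n, mul_inv_cancel_right]
    exact hn⟩
  have hT : sq.range ≠ ⊤ := by
    intro h1
    have h2 : Function.Injective sq := Finite.injective_iff_surjective.2 (MonoidHom.range_eq_top.1 h1)
    have : Fact (Nat.Prime 2) := ⟨Nat.prime_two⟩
    obtain ⟨z, hz⟩ := exists_prime_orderOf_dvd_card' (G := Q ⧸ H) 2 (even_iff_two_dvd.1 he)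
    have h3 : sq z = 1 := by
      rw [hsq, ← pow_two, ← hz, pow_orderOf_eq_one]
    have h4 : z = 1 := h2 (h3.trans (map_one sq).symm)
    rw [h4, orderOf_one] at hz
    exact absurd hz (by norm_num)
  let M := sq.range.comap (QuotientGroup.mk' H)
  have hM : M ≠ ⊤ := by
    intro h1
    apply hT
    rw [eq_top_iff]
    intro z _
    obtain ⟨g, rfl⟩ := QuotientGroup.mk'_surjective H z
    have h2 : g ∈ M := by rw [h1]; exact mem_top g
    exact h2
  have hM2 : IsPGroup 2 (Q ⧸ M) := by
    intro z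
    obtain ⟨g, rfl⟩ := QuotientGroup.mk_surjective z
    refine ⟨1, ?_⟩
    rw [pow_one, ← QuotientGroup.mk_pow, QuotientGroup.eq_one_iff]
    exact ⟨QuotientGroup.mk' H g, by rw [hsq, ← map_mul, ← pow_two]⟩
  obtain ⟨D, hD, hMD⟩ := exists_index_two M M hM2 le_rfl hM
  refine ⟨D, hD, le_trans ?_ hMD⟩
  intro h hh
  exact ⟨1, by
    rw [map_one]
    exact ((QuotientGroup.eq_one_iff h).2 hh).symm⟩

/-- the alternative for a subgroup `T` of the group `Q` of automorphisms -/
theorem alt_of_index_two {A : Type*} [Group A] {T Q : Subgroup A}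
    (h : ∃ D : Subgroup Q, D.index = 2 ∧ T.subgroupOf Q ≤ D) :
    ∃ D : Subgroup A, T ⊓ Q ≤ D ∧ D.relIndex Q = 2 := by
  obtain ⟨D, hD, hle⟩ := h
  refine ⟨D.map Q.subtype, ?_, ?_⟩
  · rintro a ⟨haT, haQ⟩
    exact ⟨⟨a, haQ⟩, hle (mem_subgroupOf.2 haT), rfl⟩
  · rw [relIndex, subgroupOf, comap_map_eq_self_of_injective Q.subtype_injective]
    exact hD

theorem finite_mulAut (S : Type*) [Group S] [Finite S] : Finite (MulAut S) :=
  Finite.of_injective (fun α : MulAut S => (α : S → S)) DFunLike.coe_injective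

/-- **Cyclic Sylow subgroups.** -/
theorem P1Data.of_cyclic {S : Type*} [Group S] [Finite S] {r : ℕ} (hr : r.Prime) (hr2 : r ≠ 2)
    (hcyc : ∀ P : Sylow r S, IsCyclic (P : Subgroup S)) {y : S} (hy : orderOf y = r)
    (hreal : IsConj y y⁻¹) : P1Data S := by
  have : Fact r.Prime := ⟨hr⟩
  have := finite_mulAut S
  have hy1 : y ≠ 1 := by
    rintro rfl
    rw [orderOf_one] at hy
    exact hr.one_lt.ne hy
  have hodd : Odd r := hr.odd_of_ne_two hr2
  set C := centralizer ({y} : Set S) with hC
  have hmemC : ∀ g, g ∈ C ↔ g * y = y * g := fun g => mem_centralizer_singleton_iff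
  have hyC : y ∈ C := (hmemC y).2 rfl
  -- the complement
  obtain ⟨K, hKn, hKr, k, hk⟩ := exists_complement (C := C) (r := r) (fun P => by
    obtain ⟨P', hP'⟩ := (P.2.map C.subtype).exists_le_sylow
    have := hcyc P'
    have h1 : Function.Injective ((Subgroup.inclusion hP').comp
      ((P : Subgroup C).equivMapOfInjective C.subtype C.subtype_injective).toMonoidHom) :=
      (Subgroup.inclusion_injective hP').comp (MulEquiv.injective _)
    exact isCyclic_of_injective _ h1) (y := ⟨y, hyC⟩) (by rw [Subgroup.orderOf_mk, hy])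
    (fun g => Subtype.ext ((hmemC _).1 g.2))
  have hmemK : ∀ x : C, x ∈ K ↔ ¬ r ∣ orderOf x := by
    intro x
    constructor
    · intro hx h
      apply hKr
      have h1 : orderOf (⟨x, hx⟩ : K) = orderOf x := Subgroup.orderOf_mk _ _
      rw [← h1] at h
      exact h.trans (orderOf_dvd_natCard _)
    · intro hx
      rw [← QuotientGroup.eq_one_iff, ← orderOf_eq_one_iff]
      have h1 : orderOf (x : C ⧸ K) ∣ r ^ k := by
        rw [← hk]
        exact orderOf_dvd_natCard _
      have h2 : orderOf (x : C ⧸ K) ∣ orderOf x := orderOf_map_dvd (QuotientGroup.mk' K) x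
      exact Nat.eq_one_of_dvd_coprimes
        (Nat.Coprime.pow_left k ((Nat.Prime.coprime_iff_not_dvd hr).2 hx)) h1 h2
  have hL : Loc y (K.map C.subtype) := by
    refine ⟨hy1, by rw [hy]; exact hodd, hreal, map_subtype_le K, ?_, ?_, ?_⟩
    · rw [hy, Nat.card_congr (K.equivMapOfInjective C.subtype C.subtype_injective).symm.toEquiv,
        Nat.coprime_comm, Nat.Prime.coprime_iff_not_dvd hr]
      exact hKr
    · rw [relIndex, subgroupOf, comap_map_eq_self_of_injective C.subtype_injective, hk]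
      exact hodd.pow
    · rintro α hα _ ⟨x, hx, rfl⟩
      have h1 : α x ∈ C := by
        rw [hmemC]
        have h2 := congrArg α ((hmemC _).1 x.2)
        rw [map_mul, map_mul] at h2
        rcases hα with h3 | h3
        · rwa [h3] at h2
        · rw [h3] at h2
          have h4 : Commute (α x) y⁻¹ := h2
          exact (Commute.inv_right_iff.1 h4).eq
      refine ⟨⟨α x, h1⟩, ?_, rfl⟩
      rw [SetLike.mem_coe, hmemK, Subgroup.orderOf_mk, MulEquiv.orderOf_eq, orderOf_coe]
      exact (hmemK x).1 hx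
  -- automorphisms map `y` to conjugates of powers of `y`
  have hpow : ∀ α : MulAut S, ∃ j : ℤ, IsConj (α y) (y ^ j) := by
    intro α
    have hαy : orderOf (α y) = r := by rw [MulEquiv.orderOf_eq, hy]
    have h1 : ∀ z : S, orderOf z = r → ∃ P : Sylow r S, z ∈ (P : Subgroup S) := by
      intro z hz
      have h2 : IsPGroup r (zpowers z) := IsPGroup.of_card (n := 1) (by rw [Nat.card_zpowers, hz, pow_one])
      obtain ⟨P, hP⟩ := h2.exists_le_sylow
      exact ⟨P, hP (mem_zpowers z)⟩
    obtain ⟨P, hP⟩ := h1 _ hy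
    obtain ⟨P', hP'⟩ := h1 _ hαy
    obtain ⟨g, hg⟩ := MulAction.exists_smul_eq S P' P
    have h2 : g * α y * g⁻¹ ∈ (P : Subgroup S) := by
      rw [← hg]
      exact Subgroup.smul_mem_pointwise_smul _ (MulAut.conj g) _ hP'
    have := hcyc P
    have h3 : orderOf (⟨y, hP⟩ : (P : Subgroup S)) = orderOf (⟨_, h2⟩ : (P : Subgroup S)) := by
      rw [Subgroup.orderOf_mk, Subgroup.orderOf_mk, hy]
      have h4 : orderOf (g * α y * g⁻¹) = orderOf (α y) := by
        have := orderOf_injective (MulAut.conj g).toMonoidHom (MulAut.conj g).injective (α y)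
        simpa using this
      rw [h4, hαy]
    obtain ⟨j, hj⟩ := Cfsg.Agent.H397.ZTwo.mem_zpowers_of_orderOf_eq h3
    refine ⟨j, isConj_iff.2 ⟨g, ?_⟩⟩
    exact (congrArg Subtype.val hj).symm
  have hmap : ∀ (α : MulAut S) {x z : S}, IsConj x z → IsConj (α x) (α z) := fun α x z h =>
    α.toMonoidHom.map_isConj h
  have hzpow : ∀ {x z : S} (j : ℤ), IsConj x z → IsConj (x ^ j) (z ^ j) := by
    intro x z j h
    obtain ⟨c, rfl⟩ := isConj_iff.1 h
    exact isConj_iff.2 ⟨c, by rw [conj_zpow]⟩
  -- products of automorphisms commute on the class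
  have hcomm : ∀ (α β : MulAut S) (z : S) (c : ℤ), IsConj z (y ^ c) → IsConj (α (β z)) (β (α z)) := by
    intro α β z c hz
    obtain ⟨a, ha⟩ := hpow α
    obtain ⟨b, hb⟩ := hpow β
    have key : ∀ (α β : MulAut S) (a b : ℤ), IsConj (α y) (y ^ a) → IsConj (β y) (y ^ b) →
        IsConj (α (β z)) (y ^ (a * b * c)) := by
      intro α β a b ha hb
      have h1 : IsConj (β z) (β y ^ c) := by rw [← map_zpow]; exact hmap β hz
      have h2 : IsConj (β z) (y ^ (b * c)) := by
        rw [zpow_mul]
        exact h1.trans (hzpow c hb)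
      have h3 : IsConj (α (β z)) (α y ^ (b * c)) := by rw [← map_zpow]; exact hmap α h2
      have h4 := h3.trans (hzpow (b * c) ha)
      rwa [← zpow_mul, ← mul_assoc] at h4
    have h1 := key α β a b ha hb
    have h2 := key β α b a hb ha
    rw [mul_comm b a] at h2
    exact h1.trans h2.symm
  intro Q _
  refine ⟨y, _, hL, ?_⟩
  by_cases ho : Odd ((stab y).relIndex Q)
  · exact Or.inl ho
  · right
    refine alt_of_index_two (exists_index_two_of_comm ((stab y).subgroupOf Q) ?_
      (Nat.not_odd_iff_even.1 ho))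
    intro a b
    rw [mem_subgroupOf]
    show IsConj y (((a : MulAut S) * b * (a : MulAut S)⁻¹ * (b : MulAut S)⁻¹) y)
    obtain ⟨c, hc⟩ := hpow ((a : MulAut S)⁻¹ * (b : MulAut S)⁻¹)
    have h1 := hcomm a b _ c hc
    have h2 : (b : MulAut S) ((a : MulAut S) (((a : MulAut S)⁻¹ * (b : MulAut S)⁻¹) y)) = y := by
      rw [← MulAut.mul_apply, ← MulAut.mul_apply]
      have : (b : MulAut S) * (a : MulAut S) * ((a : MulAut S)⁻¹ * (b : MulAut S)⁻¹) = 1 := by group
      rw [this, MulAut.one_apply]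
    rw [h2] at h1
    have h3 : ((a : MulAut S) * b * (a : MulAut S)⁻¹ * (b : MulAut S)⁻¹) y =
        (a : MulAut S) ((b : MulAut S) (((a : MulAut S)⁻¹ * (b : MulAut S)⁻¹) y)) := by
      rw [← MulAut.mul_apply, ← MulAut.mul_apply]
      congr 1
    rw [h3]
    exact h1.symm

/-- **`Out` a `2`-group.** -/
theorem P1Data.of_out_two {S : Type*} [Group S] [Finite S] {y : S} {K : Subgroup S} (hL : Loc y K)
    (hout : ∀ α : MulAut S, ∃ k : ℕ, ∃ s : S, α ^ 2 ^ k = MulAut.conj s) : P1Data S := by
  have := finite_mulAut S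
  intro Q hQ
  refine ⟨y, K, hL, ?_⟩
  by_cases htop : (stab y).subgroupOf Q = ⊤
  · left
    rw [relIndex, htop, index_top]
    exact odd_one
  · right
    have hI : ((MulAut.conj : S →* MulAut S).range.subgroupOf Q).Normal := by
      constructor
      rintro n hn g
      rw [mem_subgroupOf] at hn ⊢
      obtain ⟨s, hs⟩ := hn
      refine ⟨(g : MulAut S) s, ?_⟩
      ext x
      show (g : MulAut S) s * x * ((g : MulAut S) s)⁻¹ = ((g : MulAut S) * n * (g : MulAut S)⁻¹) x
      rw [← hs, MulAut.mul_apply, MulAut.mul_apply]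
      show _ = (g : MulAut S) (s * ((g : MulAut S)⁻¹ x) * s⁻¹)
      rw [map_mul, map_mul, map_inv]
      have : (g : MulAut S) ((g : MulAut S)⁻¹ x) = x := by
        rw [← MulAut.mul_apply, mul_inv_cancel, MulAut.one_apply]
      rw [this]
    refine alt_of_index_two (exists_index_two ((MulAut.conj : S →* MulAut S).range.subgroupOf Q)
      ((stab y).subgroupOf Q) ?_ ?_ htop)
    · intro z
      obtain ⟨g, rfl⟩ := QuotientGroup.mk_surjective z
      obtain ⟨k, s, hs⟩ := hout g
      refine ⟨k, ?_⟩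
      rw [← QuotientGroup.mk_pow, QuotientGroup.eq_one_iff, mem_subgroupOf]
      exact ⟨s, hs.symm⟩
    · intro g hg
      rw [mem_subgroupOf] at hg ⊢
      obtain ⟨s, hs⟩ := hg
      rw [← hs]
      exact conj_mem_stab y s

/-- **`|Out|` odd.** -/
theorem P1Data.of_out_odd {S : Type*} [Group S] [Finite S] {y : S} {K : Subgroup S} (hL : Loc y K)
    (hout : ∀ α : MulAut S, ∃ k : ℕ, Odd k ∧ ∃ s : S, α ^ k = MulAut.conj s) : P1Data S := by
  have := finite_mulAut S
  intro Q hQ
  refine ⟨y, K, hL, Or.inl ?_⟩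
  have hI : (MulAut.conj : S →* MulAut S).range.Normal := by
    constructor
    rintro n ⟨s, rfl⟩ g
    refine ⟨g s, ?_⟩
    ext x
    show g s * x * (g s)⁻¹ = (g * MulAut.conj s * g⁻¹) x
    rw [MulAut.mul_apply, MulAut.mul_apply]
    show _ = g (s * (g⁻¹ x) * s⁻¹)
    rw [map_mul, map_mul, map_inv]
    have : g (g⁻¹ x) = x := by
      rw [← MulAut.mul_apply, mul_inv_cancel, MulAut.one_apply]
    rw [this]
  have hle : (MulAut.conj : S →* MulAut S).range ≤ stab y := by
    rintro _ ⟨s, rfl⟩
    exact conj_mem_stab y s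
  have h1 : (stab y).relIndex Q ∣ (MulAut.conj : S →* MulAut S).range.relIndex Q :=
    relIndex_dvd_of_le_left Q hle
  have h2 : (MulAut.conj : S →* MulAut S).range.relIndex Q ∣ (MulAut.conj : S →* MulAut S).range.index :=
    relIndex_dvd_index_of_normal _ _
  refine Odd.of_dvd_nat ?_ (h1.trans h2)
  by_contra hev
  rw [Nat.not_odd_iff_even, even_iff_two_dvd] at hev
  have : Fact (Nat.Prime 2) := ⟨Nat.prime_two⟩
  obtain ⟨z, hz⟩ := exists_prime_orderOf_dvd_card' (G := MulAut S ⧸ (MulAut.conj : S →* MulAut S).range) 2 hev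
  obtain ⟨α, rfl⟩ := QuotientGroup.mk_surjective z
  obtain ⟨k, hk, s, hs⟩ := hout α
  have h3 : (α : MulAut S ⧸ (MulAut.conj : S →* MulAut S).range) ^ k = 1 := by
    rw [← QuotientGroup.mk_pow, QuotientGroup.eq_one_iff]
    exact ⟨s, hs.symm⟩
  have h4 := orderOf_dvd_of_pow_eq_one h3
  rw [hz] at h4
  exact (Nat.not_even_iff_odd.2 hk) (even_iff_two_dvd.2 h4)

end Cfsg.Agent.H694
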