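import Cfsg.Agent.H694.BnPar
import Cfsg.Agent.S0313
import Cfsg.Agent.S0314
import Cfsg.Agent.Mrg.Omega.ML.Ex.Typ.List

/-!
# Parity data for groups with a split (B, N)-pair
-/

set_option autoImplicit false
set_option linter.style.haveILetI false

namespace Cfsg.Agent.H694

open Cfsg Cfsg.Agent.LieExceptional.BNPairCore Cfsg.Agent.Tits.Core Cfsg.Agent.Tits.Core.Bldg
  Cfsg.Agent.Tits.OfBN Cfsg.Agent.Schreier.BNSch Cfsg.Agent.Tits.OppRes Cfsg.Agent.FixBN
  Cfsg.Agent.FixBN.TwOfBN Cfsg.Agent.OddHalf.Table.AutBldg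
open Cfsg.Agent.Omega.ML.Ex.Typ (HasSplitT HasRGDT)

universe u

theorem even_card_of_sq {W : Type*} [Group W] [Finite W] {s : W} (h1 : s * s = 1) (h2 : s ≠ 1) :
    Even (Nat.card W) := by
  have h3 : orderOf s = 2 := orderOf_eq_prime (by rw [pow_two, h1]) h2
  have h4 := orderOf_dvd_natCard s
  rw [h3] at h4
  exact even_iff_two_dvd.2 h4

/-- The number of double cosets of `B` is the order of the Weyl group, which is even. -/
theorem even_double {K : Type*} [Group K] [Finite K] (P : Cfsg.BNPair K) (h : P.S.Nonempty) :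
    Even (Nat.card (DoubleCoset.Quotient (P.B : Set K) (P.B : Set K))) := by
  have hN := normal_subgroupOf P
  have h1 : Nat.card (DoubleCoset.Quotient (P.B : Set K) (P.B : Set K)) = Nat.card (WP P) := by
    have hf : ∀ a b : K, DoubleCoset.setoid (P.B : Set K) (P.B : Set K) a b ↔
        wt P a = wt P b := by
      intro a b
      rw [DoubleCoset.rel_iff, wt_eq_wt_iff]
    refine Nat.card_congr (Equiv.ofBijective (Quotient.lift (wt P) fun a b h => (hf a b).1 h)
      ⟨?_, ?_⟩)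
    · intro a b
      induction a using Quotient.inductionOn with
      | _ a =>
      induction b using Quotient.inductionOn with
      | _ b =>
      intro h
      exact Quotient.sound ((hf a b).2 h)
    · intro w
      obtain ⟨g, rfl⟩ := exists_wt w
      exact ⟨Quotient.mk _ g, rfl⟩
  rw [h1]
  obtain ⟨s, hs⟩ := h
  refine even_card_of_sq (s := (QuotientGroup.mk (⟨s, P.subset hs⟩ : P.N) : WP P)) ?_ ?_
  · rw [← QuotientGroup.mk_mul, QuotientGroup.eq_one_iff, Subgroup.mem_subgroupOf]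
    exact ⟨P.sq_mem s hs, mul_mem (P.subset hs) (P.subset hs)⟩
  · intro h2
    rw [QuotientGroup.eq_one_iff, Subgroup.mem_subgroupOf] at h2
    have h3 : s ∈ P.B := h2.1
    apply P.conj_ne s hs
    ext x
    constructor
    · rintro ⟨b, hb, rfl⟩
      exact mul_mem (mul_mem h3 hb) h3
    · intro hx
      exact ⟨s⁻¹ * x * s⁻¹, mul_mem (mul_mem (inv_mem h3) hx) (inv_mem h3), by
        show s * (s⁻¹ * x * s⁻¹) * s = x
        group⟩

/-- **Characteristic two**: the Borel subgroups. -/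
theorem dData_of_hasSplit_two {K : Type*} [Group K] [Finite K] (h : HasSplit 2 K) : DData K := by
  obtain ⟨P, U, hS, S⟩ := h
  haveI : Fact (Nat.Prime 2) := ⟨Nat.prime_two⟩
  have hnor : Subgroup.normalizer (P.B : Set K) = P.B := by
    have h1 := Cfsg.Agent.S0312.result P (J := ∅) (Set.empty_subset _)
    have h2 : P.parabolic ∅ = P.B := by
      show P.B ⊔ Subgroup.closure ∅ = P.B
      rw [Subgroup.closure_empty, sup_bot_eq]
    rwa [h2] at h1
  refine dData_of_subgroup hnor ?_ ?_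
  · intro α
    obtain ⟨g, hg⟩ := exists_conj S α
    refine ⟨g, ?_⟩
    ext x
    constructor
    · rintro ⟨b, hb, rfl⟩
      refine ⟨g⁻¹ * α b * g, (hg b).2 hb, ?_⟩
      simp only [MulEquiv.coe_toMonoidHom, MulAut.conj_apply]
      group
    · rintro ⟨b, hb, rfl⟩
      refine ⟨α.symm (g * b * g⁻¹), ?_, ?_⟩
      · show α.symm (g * b * g⁻¹) ∈ P.B
        rw [← hg, MulEquiv.apply_symm_apply]
        have : g⁻¹ * (g * b * g⁻¹) * g = b := by group
        rw [this]
        exact hb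
      · simp
  · have h1 : P.B.index % 2 = 1 := OfBN.card_modEq S
    exact (Nat.odd_iff.2 h1).add_even (even_double P hS)

/-- **Odd characteristic.** -/
theorem dData_of_splitT {I : Type*} [Finite I] {M : CoxeterMatrix I} {K : Type u} [Group K]
    [Finite K] {p : ℕ} (hp : p.Prime) (hp2 : p ≠ 2) (hK : HasSplitT p M K) (J : Set I)
    (hJ : ∀ σ : I ≃ I, (∀ i j, M (σ i) (σ j) = M i j) → σ '' J = J)
    (hodd : ∀ (W : Type u) [Group W] [Finite W] (cs : CoxeterSystem M W),
      Odd ((WJ cs J).index + Nat.card (DoubleCoset.Quotient (WJ cs J : Set W) (WJ cs J : Set W)))) :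
    DData K := by
  obtain ⟨P, U, e, S, hN, cs, hcs⟩ := hK
  have : Fact p.Prime := ⟨hp⟩
  refine dData_of_subgroup (normalizer_PJ e J) ?_ ?_
  · intro α
    obtain ⟨σ, hσ, h⟩ := exists_type_perm e cs hcs S α
    obtain ⟨g, hg⟩ := h J
    rw [hJ σ hσ] at hg
    exact ⟨g, hg⟩
  · have h1 := index_mod e cs hcs (hp.odd_of_ne_two hp2) S J
    have h2 := hodd (WP P) cs
    rw [card_double e cs hcs, Nat.odd_iff, Nat.add_mod, h1, ← Nat.add_mod, ← Nat.odd_iff]
    exact h2

/-- **Odd characteristic**, with two classes of parabolic subgroups. -/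
theorem d2Data_of_splitT {I : Type*} [Finite I] {M : CoxeterMatrix I} {K : Type u} [Group K]
    [Finite K] {p : ℕ} (hp : p.Prime) (hp2 : p ≠ 2) (hK : HasSplitT p M K) (J L : Set I)
    (hJL : J ≠ L)
    (hJ : ∀ σ : I ≃ I, (∀ i j, M (σ i) (σ j) = M i j) →
      (σ '' J = J ∧ σ '' L = L) ∨ (σ '' J = L ∧ σ '' L = J))
    (hodd : ∀ (W : Type u) [Group W] [Finite W] (cs : CoxeterSystem M W),
      Odd ((WJ cs J).index + Nat.card (DoubleCoset.Quotient (WJ cs J : Set W) (WJ cs J : Set W))))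
    (hodd' : ∀ (W : Type u) [Group W] [Finite W] (cs : CoxeterSystem M W),
      Odd (Nat.card (DoubleCoset.Quotient (WJ cs J : Set W) (WJ cs J : Set W)) +
        Nat.card (DoubleCoset.Quotient (WJ cs J : Set W) (WJ cs L : Set W)))) :
    D2Data K := by
  obtain ⟨P, U, e, S, hN, cs, hcs⟩ := hK
  have : Fact p.Prime := ⟨hp⟩
  have hmap : ∀ (α : K ≃* K) (A B : Subgroup K),
      (∃ g : K, A.map α.toMonoidHom = B.map (MulAut.conj g).toMonoidHom) →
      ∀ H ∈ cls A, H.map α.toMonoidHom ∈ cls B := by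
    rintro α A B ⟨g, hg⟩ _ ⟨t, rfl⟩
    refine ⟨α t * g, ?_⟩
    rw [← map_conj_conj, ← hg, Subgroup.map_map, Subgroup.map_map]
    congr 1
    ext x
    simp
  refine ⟨cls (PJ P e J), cls (PJ P e L), ?_, ⟨_, 1, rfl⟩, fun g H hH => conj_mem_cls hH g,
    ?_, ?_, ?_⟩
  · rw [Set.disjoint_left]
    rintro H ⟨g, rfl⟩ ⟨t, ht⟩
    have h1 : (PJ P e J).map (MulAut.conj (t⁻¹ * g)).toMonoidHom = PJ P e L := by
      rw [← map_conj_conj, ← ht, map_conj_conj, inv_mul_cancel, map_conj_one]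
    have h2 := Cfsg.Agent.S0313.result P (PJ_sub e J) (PJ_sub e L) _ h1
    have h3 := Cfsg.Agent.S0314.result P (PJ_sub e J) (PJ_sub e L) h2
    have hinj : Function.Injective (fun i => (e i : K)) := fun i j h =>
      e.injective (Subtype.ext h)
    exact hJL (hinj.image_injective h3)
  · intro α
    obtain ⟨σ, hσ, h⟩ := exists_type_perm e cs hcs S α
    obtain ⟨g, hg⟩ := h J
    obtain ⟨t, ht⟩ := h L
    rcases hJ σ hσ with ⟨h1, h2⟩ | ⟨h1, h2⟩
    · rw [h1] at hg
      rw [h2] at ht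
      exact Or.inl ⟨hmap α _ _ ⟨g, hg⟩, hmap α _ _ ⟨t, ht⟩⟩
    · rw [h1] at hg
      rw [h2] at ht
      exact Or.inr ⟨hmap α _ _ ⟨g, hg⟩, hmap α _ _ ⟨t, ht⟩⟩
  · rw [card_cls (normalizer_PJ e J), card_pairRel (normalizer_PJ e J) (normalizer_PJ e J),
      card_double e cs hcs]
    have h1 := index_mod e cs hcs (hp.odd_of_ne_two hp2) S J
    have h2 := hodd (WP P) cs
    rw [Nat.odd_iff, Nat.add_mod, h1, ← Nat.add_mod, ← Nat.odd_iff]
    exact h2
  · rw [card_pairRel (normalizer_PJ e J) (normalizer_PJ e J),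
      card_pairRel (normalizer_PJ e J) (normalizer_PJ e L), card_double e cs hcs,
      card_double e cs hcs]
    exact hodd' (WP P) cs

end Cfsg.Agent.H694
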