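import Cfsg.Agent.H694.Alt
import Cfsg.Agent.H705.StrongLin
import Cfsg.Agent.S0157

/-!
# Real characters

`RChar π`: `π` is an integral combination of irreducible characters, real-valued, in which the
irreducible characters of indicator `-1` have even multiplicities.  Characters of real
representations have this property; here it is shown for permutation characters and irreducible
characters of indicator `1`, and it is preserved by sums, differences, restriction (composition with
a homomorphism) and induction.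
-/

set_option autoImplicit false
set_option linter.unusedSectionVars false
set_option linter.style.haveILetI false

namespace Cfsg.Agent.H694

open Cfsg Representation
open scoped ComplexConjugate
open Cfsg.Agent.Characters.Core
open Cfsg.Agent.H705.StrongLin (ind ind_eq real_of_ind)

universe u

/-! ### The indicator -/

theorem ind_cases {G : Type*} [Group G] [Finite G] {χ : G → ℂ} (hχ : IsIrrCharacter G χ) :
    ind χ = 0 ∨ ind χ = 1 ∨ ind χ = -1 := by
  classical
  have := Fintype.ofFinite G
  obtain ⟨n, ρ, hρ, rfl⟩ := hχ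
  rw [ind_eq]
  exact (Cfsg.Agent.S0158.result ρ).1

theorem ind_eq_zero_iff {G : Type*} [Group G] [Finite G] {χ : G → ℂ} (hχ : IsIrrCharacter G χ) :
    ind χ = 0 ↔ ∃ g, (χ g).im ≠ 0 := by
  classical
  have := Fintype.ofFinite G
  obtain ⟨n, ρ, hρ, rfl⟩ := hχ
  rw [ind_eq]
  exact (Cfsg.Agent.S0158.result ρ).2

theorem real_of_ind_ne {G : Type*} [Group G] [Finite G] {χ : G → ℂ} (hχ : IsIrrCharacter G χ)
    (h : ind χ ≠ 0) (g : G) : (χ g).im = 0 := by
  by_contra hg
  exact h ((ind_eq_zero_iff hχ).2 ⟨g, hg⟩)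

theorem ind_conj {G : Type*} [Group G] [Finite G] (χ : G → ℂ) :
    ind (fun g => conj (χ g)) = conj (ind χ) := by
  classical
  have := Fintype.ofFinite G
  rw [ind_eq, ind_eq, map_mul, map_inv₀, Complex.conj_natCast, map_sum]

/-- A form of sign `ε` from an indicator `ε`. -/
theorem exists_form {G : Type*} [Group G] [Fintype G] {n : ℕ} (ρ : Representation ℂ G (Fin n → ℂ))
    [ρ.IsIrreducible] {ε : ℂ} (hε0 : ε ≠ 0) (h : ind ρ.character = ε) :
    ∃ F : IntertwiningMap ρ ρ.dual, F ≠ 0 ∧ ∀ v w, F v w = ε * F w v := by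
  obtain ⟨δ, hδ, hδ1, hδ2⟩ := Cfsg.Agent.H705.Indicator.indicator_eq ρ
  rw [ind_eq] at h
  rw [h] at hδ2
  have hr : Module.finrank ℂ (IntertwiningMap ρ ρ.dual) ≠ 0 := by
    intro h0
    rw [h0, Nat.cast_zero, mul_zero] at hδ2
    exact hε0 hδ2
  obtain ⟨F, hF⟩ := Cfsg.Agent.H705.Indicator.exists_ne_zero (n := n) hr
  have hδε : δ = ε := by
    have h3 : ε = 0 ∨ ε = 1 ∨ ε = -1 := by
      rw [← h]
      exact (Cfsg.Agent.S0158.result ρ).1
    have h4 : (0 : ℝ) < (Module.finrank ℂ (IntertwiningMap ρ ρ.dual) : ℝ) := by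
      exact_mod_cast Nat.pos_of_ne_zero hr
    rcases h3 with h3 | h3 | h3
    · exact absurd h3 hε0
    · rcases hδ with h5 | h5
      · rw [h5, h3]
      · exfalso
        rw [h3, h5] at hδ2
        have h2 := congrArg Complex.re hδ2
        simp at h2
        linarith
    · rcases hδ with h5 | h5
      · exfalso
        rw [h3, h5] at hδ2
        have h2 := congrArg Complex.re hδ2
        simp at h2
        linarith
      · rw [h5, h3]
  subst hδε
  exact ⟨F, hF, hδ1 F⟩

/-- **Parity of restriction multiplicities.** -/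
theorem even_restrict {G H : Type*} [Group G] [Fintype G] [Group H] [Fintype H] (f : H →* G)
    {χ : G → ℂ} (hχ : IsIrrCharacter G χ) {ψ : H → ℂ} (hψ : IsIrrCharacter H ψ)
    (hνν : ind χ * ind ψ = -1) :
    ∃ n : ℤ, classInner (fun h => χ (f h)) ψ = 2 * n := by
  classical
  obtain ⟨n, ρ, hρ, rfl⟩ := hχ
  obtain ⟨m, σ, hσ, rfl⟩ := hψ
  have h1 : ind ρ.character ≠ 0 := by
    intro h0
    rw [h0, zero_mul] at hνν
    exact (by norm_num : (0:ℂ) ≠ -1) hνν
  have h2 : ind σ.character ≠ 0 := by
    intro h0
    rw [h0, mul_zero] at hνν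
    exact (by norm_num : (0:ℂ) ≠ -1) hνν
  obtain ⟨F, hF, hFs⟩ := exists_form ρ h1 rfl
  obtain ⟨B, hB, hBs⟩ := exists_form σ h2 rfl
  have hFb := Cfsg.Agent.S0158.bijective_of_ne_zero ρ F hF
  let F' : IntertwiningMap (ρ.comp f) (Representation.dual (ρ.comp f)) :=
    LinearMap.intertwiningMap_of_isIntertwiningMap (ρ.comp f) (Representation.dual (ρ.comp f))
      F.toLinearMap (by
        intro h v
        apply LinearMap.ext
        intro w
        have h1 := Cfsg.Agent.S0158.dual_swap ρ F (f h) v (ρ (f h)⁻¹ w)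
        rw [← Module.End.mul_apply, ← map_mul, mul_inv_cancel, map_one,
            Module.End.one_apply] at h1
        simp only [Representation.dual_apply, Module.Dual.transpose_apply, LinearMap.coe_comp,
          Function.comp_apply]
        show F (ρ (f h) v) w = F v (ρ (f h⁻¹) w)
        rw [map_inv]
        exact h1)
  have hF' : ∀ v w, F' v w = F v w := fun _ _ => rfl
  have heven := Cfsg.Agent.H694.Alt.even_mult (ρ.comp f) σ F'
    (fun v hv => by
      have h3 : F v = 0 := hv
      exact hFb.1 (h3.trans (map_zero F.toLinearMap).symm))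
    (fun v w => by rw [hF', hF']; exact hFs v w) B hB hBs hνν
  obtain ⟨k, hk⟩ := heven
  refine ⟨k, ?_⟩
  have h4 := classInner_character (ρ.comp f) σ
  rw [hk] at h4
  have h5 : (Representation.character (ρ.comp f)) = fun h => ρ.character (f h) := rfl
  rw [h5] at h4
  rw [h4]
  push_cast
  ring

/-! ### Real characters -/

/-- An integral combination of irreducible characters, real-valued, with even multiplicities at the
irreducible characters of indicator `-1`. -/
structure RChar {G : Type u} [Group G] [Fintype G] (π : G → ℂ) : Prop where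
  cf : IsClassFunction G π
  int : ∀ χ, IsIrrCharacter G χ → ∃ n : ℤ, classInner π χ = n
  real : ∀ g, conj (π g) = π g
  even : ∀ χ, IsIrrCharacter G χ → ind χ = -1 → ∃ n : ℤ, classInner π χ = 2 * n

section

variable {G : Type u} [Group G] [Fintype G]

theorem classInner_conj_conj (φ ψ : G → ℂ) :
    classInner (fun g => conj (φ g)) (fun g => conj (ψ g)) = conj (classInner φ ψ) := by
  rw [classInner_def, classInner_def, map_mul, map_inv₀, Complex.conj_natCast, map_sum]
  congr 1
  refine Finset.sum_congr rfl fun g _ => ?_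
  rw [map_mul]

theorem RChar.inner_conj {π : G → ℂ} (h : RChar π) {χ : G → ℂ} (hχ : IsIrrCharacter G χ) :
    classInner π (fun g => conj (χ g)) = classInner π χ := by
  obtain ⟨n, hn⟩ := h.int χ hχ
  have h1 : π = fun g => conj (π g) := funext fun g => (h.real g).symm
  conv_lhs => rw [h1]
  rw [classInner_conj_conj, hn]
  simp

theorem RChar.add {π π' : G → ℂ} (h : RChar π) (h' : RChar π') : RChar (π + π') where
  cf := fun g x => by
    show π _ + π' _ = π _ + π' _
    rw [h.cf, h'.cf]
  int χ hχ := by
    obtain ⟨n, hn⟩ := h.int χ hχ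
    obtain ⟨m, hm⟩ := h'.int χ hχ
    exact ⟨n + m, by rw [classInner_add_left, hn, hm]; push_cast; ring⟩
  real g := by
    show conj (π g + π' g) = π g + π' g
    rw [map_add, h.real, h'.real]
  even χ hχ hi := by
    obtain ⟨n, hn⟩ := h.even χ hχ hi
    obtain ⟨m, hm⟩ := h'.even χ hχ hi
    exact ⟨n + m, by rw [classInner_add_left, hn, hm]; push_cast; ring⟩

theorem RChar.neg {π : G → ℂ} (h : RChar π) : RChar (-π) where
  cf := fun g x => by
    show - π _ = - π _
    rw [h.cf]
  int χ hχ := by
    obtain ⟨n, hn⟩ := h.int χ hχ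
    exact ⟨-n, by rw [classInner_neg_left, hn]; push_cast; ring⟩
  real g := by
    show conj (- π g) = - π g
    rw [map_neg, h.real]
  even χ hχ hi := by
    obtain ⟨n, hn⟩ := h.even χ hχ hi
    exact ⟨-n, by rw [classInner_neg_left, hn]; push_cast; ring⟩

theorem RChar.sub {π π' : G → ℂ} (h : RChar π) (h' : RChar π') : RChar (π - π') := by
  rw [sub_eq_add_neg]
  exact h.add h'.neg

theorem rchar_irr {χ : G → ℂ} (hχ : IsIrrCharacter G χ) (h : ind χ = 1) : RChar χ where
  cf := isIrr_isClassFunction hχ
  int ψ hψ := by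
    obtain ⟨n, hn⟩ := classInner_isNat (isIrr_isCharacter hχ) (isIrr_isCharacter hψ)
    exact ⟨n, by rw [hn]; push_cast; rfl⟩
  real g := Complex.conj_eq_iff_im.2 (real_of_ind hχ h g)
  even ψ hψ hi := by
    refine ⟨0, ?_⟩
    rw [classInner_irr_ne hχ hψ]
    · simp
    · rintro rfl
      rw [h] at hi
      exact (by norm_num : (1:ℂ) ≠ -1) hi

/-- Permutation characters. -/
theorem rchar_perm (X : Type*) [MulAction G X] [Finite X] :
    RChar (fun g : G => (Nat.card (MulAction.fixedBy X g) : ℂ)) where
  cf := isCharacter_isClassFunction (Cfsg.Agent.S0157.isCharacter_fixedBy X)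
  int ψ hψ := by
    obtain ⟨n, hn⟩ := classInner_isNat (Cfsg.Agent.S0157.isCharacter_fixedBy X)
      (isIrr_isCharacter hψ)
    exact ⟨n, by rw [hn]; push_cast; rfl⟩
  real g := Complex.conj_natCast _
  even ψ hψ hi := by
    classical
    have := Fintype.ofFinite X
    obtain ⟨m, σ, hσ, rfl⟩ := hψ
    obtain ⟨B, hB, hBs⟩ := exists_form σ (ε := -1) (by norm_num) hi
    let ρ := Cfsg.Agent.S0157.permRepFun G X
    have hρ : ∀ (g : G) (v : X → ℂ) (x : X), ρ g v x = v (g⁻¹ • x) := fun _ _ _ => rfl
    let F₀ : (X → ℂ) →ₗ[ℂ] (X → ℂ) →ₗ[ℂ] ℂ :=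
      LinearMap.mk₂ ℂ (fun v w => ∑ x, v x * w x)
        (fun v v' w => by
          rw [← Finset.sum_add_distrib]
          exact Finset.sum_congr rfl fun x _ => by rw [Pi.add_apply]; ring)
        (fun c v w => by
          rw [smul_eq_mul, Finset.mul_sum]
          exact Finset.sum_congr rfl fun x _ => by rw [Pi.smul_apply, smul_eq_mul]; ring)
        (fun v w w' => by
          rw [← Finset.sum_add_distrib]
          exact Finset.sum_congr rfl fun x _ => by rw [Pi.add_apply]; ring)
        (fun c v w => by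
          rw [smul_eq_mul, Finset.mul_sum]
          exact Finset.sum_congr rfl fun x _ => by rw [Pi.smul_apply, smul_eq_mul]; ring)
    have hF₀ : ∀ v w, F₀ v w = ∑ x, v x * w x := fun _ _ => rfl
    let F : IntertwiningMap ρ ρ.dual :=
      LinearMap.intertwiningMap_of_isIntertwiningMap ρ ρ.dual F₀ (by
        intro g v
        apply LinearMap.ext
        intro w
        simp only [Representation.dual_apply, Module.Dual.transpose_apply, LinearMap.coe_comp,
          Function.comp_apply]
        rw [hF₀, hF₀]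
        refine (Fintype.sum_equiv (MulAction.toPerm g) _ _ fun x => ?_).symm
        show v x * ρ g⁻¹ w x = ρ g v (g • x) * w (g • x)
        rw [hρ, hρ, inv_smul_smul, inv_inv])
    have hF : ∀ v w, F v w = ∑ x, v x * w x := fun _ _ => rfl
    have heven := Cfsg.Agent.H694.Alt.even_mult ρ σ F
      (fun v hv => by
        funext x
        have h1 : F v (Pi.single x 1) = 0 := by rw [hv]; rfl
        rw [hF] at h1
        simpa [Pi.single_apply] using h1)
      (ε := 1)
      (fun v w => by
        rw [hF, hF, one_mul]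
        exact Finset.sum_congr rfl fun x _ => by ring) B hB hBs (by norm_num)
    obtain ⟨k, hk⟩ := heven
    refine ⟨k, ?_⟩
    have h4 := classInner_character ρ σ
    rw [hk] at h4
    have h5 : ρ.character = fun g : G => (Nat.card (MulAction.fixedBy X g) : ℂ) :=
      funext fun g => Cfsg.Agent.S0157.permRepFun_character X g
    rw [h5] at h4
    rw [h4]
    push_cast
    ring

end

/-! ### Sums invariant under complex conjugation -/

/-- Complex conjugation on irreducible characters. -/
noncomputable def cj {G : Type u} [Group G] [Finite G] (χ : IrrCharacter G) : IrrCharacter G :=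
  ⟨fun g => conj ((χ : G → ℂ) g), isIrr_conj χ.2⟩

theorem cj_cj {G : Type u} [Group G] [Finite G] (χ : IrrCharacter G) : cj (cj χ) = χ := by
  apply Subtype.ext
  funext g
  exact Complex.conj_conj _

theorem cj_eq_self_iff {G : Type u} [Group G] [Finite G] (χ : IrrCharacter G) :
    cj χ = χ ↔ ind (χ : G → ℂ) ≠ 0 := by
  constructor
  · intro h h0
    obtain ⟨g, hg⟩ := (ind_eq_zero_iff χ.2).1 h0
    have h1 := congrFun (congrArg Subtype.val h) g
    exact hg (Complex.conj_eq_iff_im.1 h1)
  · intro h
    apply Subtype.ext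
    funext g
    exact Complex.conj_eq_iff_im.2 (real_of_ind_ne χ.2 h g)

theorem ind_cj {G : Type u} [Group G] [Finite G] (χ : IrrCharacter G) :
    ind (cj χ : G → ℂ) = ind (χ : G → ℂ) := by
  have h1 : ind (cj χ : G → ℂ) = conj (ind (χ : G → ℂ)) := ind_conj _
  rw [h1]
  rcases ind_cases χ.2 with h | h | h <;> rw [h] <;> simp

theorem charDegree_cj {G : Type u} [Group G] [Finite G] (χ : IrrCharacter G) :
    charDegree (cj χ : G → ℂ) = charDegree (χ : G → ℂ) := by
  have h1 : (cj χ : G → ℂ) 1 = conj ((χ : G → ℂ) 1) := rfl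
  rw [Cfsg.Agent.Blocks.Basic.irr_one_eq_charDegree (cj χ).2,
    Cfsg.Agent.Blocks.Basic.irr_one_eq_charDegree χ.2, Complex.conj_natCast] at h1
  exact_mod_cast h1

/-- The sum modulo two of a function invariant under conjugation only sees the real characters. -/
theorem sum_eq_sum_real {G : Type u} [Group G] [Finite G] [Fintype (IrrCharacter G)]
    {R : Type*} [AddCommGroup R] (h2 : ∀ r : R, r + r = 0)
    (f : IrrCharacter G → R) (hf : ∀ χ, f (cj χ) = f χ) :
    ∑ χ, f χ = ∑ᶠ χ ∈ {χ : IrrCharacter G | ind (χ : G → ℂ) ≠ 0}, f χ := by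
  classical
  have h1 : ∑ᶠ χ ∈ {χ : IrrCharacter G | ind (χ : G → ℂ) ≠ 0}, f χ =
      ∑ χ ∈ Finset.univ.filter (fun χ : IrrCharacter G => ind (χ : G → ℂ) ≠ 0), f χ := by
    rw [← finsum_mem_coe_finset]
    congr 1
    funext χ
    simp
  rw [h1]
  have h3 := Finset.sum_filter_add_sum_filter_not Finset.univ
    (fun χ : IrrCharacter G => ind (χ : G → ℂ) ≠ 0) f
  rw [← h3]
  have h4 : ∑ χ ∈ Finset.univ.filter (fun χ : IrrCharacter G => ¬ ind (χ : G → ℂ) ≠ 0), f χ = 0 := by
    refine Finset.sum_involution (fun χ _ => cj χ) ?_ ?_ ?_ ?_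
    · intro χ _
      rw [hf, h2]
    · intro χ hχ _
      have h5 := (Finset.mem_filter.1 hχ).2
      exact fun h => h5 ((cj_eq_self_iff χ).1 h)
    · intro χ hχ
      rw [Finset.mem_filter] at hχ ⊢
      refine ⟨Finset.mem_univ _, ?_⟩
      rw [ind_cj]
      exact hχ.2
    · intro χ _
      exact cj_cj χ
  rw [h4, add_zero]

end Cfsg.Agent.H694
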