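import Cfsg.Agent.H705.Indicator
import Cfsg.Agent.OddHalf.NI.QuatDim

/-!
# Even multiplicities

An irreducible representation of type `δ` occurs with even multiplicity in a representation
carrying a nondegenerate invariant form of type `-δ`.
-/

set_option autoImplicit false
set_option linter.unusedSectionVars false

namespace Cfsg.Agent.H694.Alt

open Cfsg Representation
open scoped ComplexConjugate

variable {H : Type*} [Group H] [Fintype H]
  {V : Type*} [AddCommGroup V] [Module ℂ V] [FiniteDimensional ℂ V]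
  {W : Type*} [AddCommGroup W] [Module ℂ W] [FiniteDimensional ℂ W]

/-- A surjective intertwining map has an equivariant section. -/
theorem exists_section {U : Type*} [AddCommGroup U] [Module ℂ U]
    (τ : Representation ℂ H V) (σ : Representation ℂ H U)
    (q : IntertwiningMap τ σ) (hq : Function.Surjective q) :
    ∃ s : IntertwiningMap σ τ, ∀ w, q (s w) = w := by
  classical
  have hH : (Fintype.card H : ℂ) ≠ 0 := by
    exact_mod_cast Fintype.card_ne_zero
  obtain ⟨s₀, hs₀⟩ := q.toLinearMap.exists_rightInverse_of_surjective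
    (LinearMap.range_eq_top.2 hq)
  have hs₀' : ∀ w, q (s₀ w) = w := fun w => LinearMap.congr_fun hs₀ w
  let s₁ : U →ₗ[ℂ] V := (Fintype.card H : ℂ)⁻¹ • ∑ h : H, (τ h) ∘ₗ s₀ ∘ₗ (σ h⁻¹)
  have hs₁ : ∀ v, s₁ v = (Fintype.card H : ℂ)⁻¹ • ∑ h : H, τ h (s₀ (σ h⁻¹ v)) := by
    intro v
    simp only [s₁, LinearMap.smul_apply, LinearMap.sum_apply, LinearMap.comp_apply]
  refine ⟨LinearMap.intertwiningMap_of_isIntertwiningMap σ τ s₁ ?_, ?_⟩
  · intro k v
    rw [hs₁, hs₁, map_smul, map_sum]
    congr 1
    refine Fintype.sum_equiv (Equiv.mulLeft k⁻¹) _ _ fun h => ?_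
    simp only [Equiv.coe_mulLeft, mul_inv_rev, inv_inv, map_mul, Module.End.mul_apply]
    rw [← Module.End.mul_apply (τ k) (τ k⁻¹), ← map_mul, mul_inv_cancel, map_one,
      Module.End.one_apply]
  · intro w
    show q (s₁ w) = w
    rw [hs₁, map_smul, map_sum]
    have h1 : ∀ h : H, q (τ h (s₀ (σ h⁻¹ w))) = w := by
      intro h
      have h2 : q (τ h (s₀ (σ h⁻¹ w))) = σ h (q (s₀ (σ h⁻¹ w))) := q.isIntertwining τ σ h _
      rw [h2, hs₀', ← Module.End.mul_apply, ← map_mul, mul_inv_cancel, map_one,
        Module.End.one_apply]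
    rw [Finset.sum_congr rfl fun h _ => h1 h, Finset.sum_const, Finset.card_univ,
      ← Nat.cast_smul_eq_nsmul ℂ, smul_smul, inv_mul_cancel₀ hH, one_smul]

/-- **Even multiplicity.** -/
theorem even_mult (ρ : Representation ℂ H V) (σ : Representation ℂ H W) [σ.IsIrreducible]
    (F : IntertwiningMap ρ ρ.dual) (hF : ∀ v, F v = 0 → v = 0) {ε : ℂ}
    (hε : ∀ v w, F v w = ε * F w v)
    (B : IntertwiningMap σ σ.dual) (hB : B ≠ 0) {δ : ℂ} (hδ : ∀ v w, B v w = δ * B w v)
    (hεδ : ε * δ = -1) : Even (Module.finrank ℂ (IntertwiningMap σ ρ)) := by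
  classical
  have hBb := Cfsg.Agent.S0158.bijective_of_ne_zero σ B hB
  let e := B.ofBijective hBb
  obtain ⟨w₀, w₁, hww⟩ : ∃ w w' : W, B w w' ≠ 0 := by
    by_contra hcon
    push Not at hcon
    apply hB
    apply IntertwiningMap.ext
    apply LinearMap.ext
    intro v
    apply LinearMap.ext
    intro w
    exact hcon v w
  have hinv : ∀ (g : H) (v w : V), F (ρ g v) (ρ g w) = F v w :=
    fun g v w => Cfsg.Agent.S0158.dual_swap ρ F g v w
  -- the form `(w, w') ↦ F (i w) (j w')`
  let T : IntertwiningMap σ ρ → IntertwiningMap σ ρ → IntertwiningMap σ σ.dual := fun i j =>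
    LinearMap.intertwiningMap_of_isIntertwiningMap σ σ.dual
      ((LinearMap.compl₂ (show V →ₗ[ℂ] V →ₗ[ℂ] ℂ from F.toLinearMap) j.toLinearMap) ∘ₗ
        i.toLinearMap) (by
        intro h v
        ext w
        simp only [Representation.dual_apply, Module.Dual.transpose_apply, LinearMap.coe_comp,
          Function.comp_apply, LinearMap.compl₂_apply]
        have h1 := hinv h (i v) (j (σ h⁻¹ w))
        have h2 : i (σ h v) = ρ h (i v) := i.isIntertwining σ ρ h v
        have h3 : j (σ h⁻¹ w) = ρ h⁻¹ (j w) := j.isIntertwining σ ρ h⁻¹ w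
        have h4 : ρ h (j (σ h⁻¹ w)) = j w := by
          rw [h3, ← Module.End.mul_apply, ← map_mul, mul_inv_cancel, map_one,
            Module.End.one_apply]
        rw [h4, ← h2] at h1
        exact h1)
  have hT : ∀ i j v w, T i j v w = F (i v) (j w) := fun _ _ _ _ => rfl
  have hscal : ∀ i j : IntertwiningMap σ ρ, ∃ c : ℂ, ∀ v w, F (i v) (j w) = c * B v w := by
    intro i j
    obtain ⟨c, hc⟩ := (Representation.IsIrreducible.algebraMap_intertwiningMap_bijective_of_isAlgClosed
      (ρ := σ)).2 (e.symm.toIntertwiningMap.comp (T i j))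
    refine ⟨c, fun v w => ?_⟩
    have h1 : e.symm (T i j v) = c • v := by
      have := congrArg (fun k : IntertwiningMap σ σ => k v) hc
      simpa [IntertwiningMap.algebraMap_apply] using this.symm
    have h2 : e (e.symm (T i j v)) = T i j v := Representation.Equiv.apply_symm_apply e _
    rw [h1] at h2
    have h3 : e (c • v) = c • B v := by
      show B (c • v) = c • B v
      exact map_smul B c v
    rw [h3] at h2
    rw [← hT i j v w, ← h2]
    rfl
  -- the form on the multiplicity space
  let f : LinearMap.BilinForm ℂ (IntertwiningMap σ ρ) :=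
    LinearMap.mk₂ ℂ (fun i j => F (i w₀) (j w₁))
      (fun i i' j => by
        show F ((i + i') w₀) (j w₁) = F (i w₀) (j w₁) + F (i' w₀) (j w₁)
        have : (i + i') w₀ = i w₀ + i' w₀ := rfl
        rw [this, map_add]; rfl)
      (fun c i j => by
        show F ((c • i) w₀) (j w₁) = c • F (i w₀) (j w₁)
        have : (c • i) w₀ = c • i w₀ := rfl
        rw [this, map_smul]; rfl)
      (fun i j j' => by
        show F (i w₀) ((j + j') w₁) = F (i w₀) (j w₁) + F (i w₀) (j' w₁)
        have : (j + j') w₁ = j w₁ + j' w₁ := rfl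
        rw [this, map_add])
      (fun c i j => by
        show F (i w₀) ((c • j) w₁) = c • F (i w₀) (j w₁)
        have : (c • j) w₁ = c • j w₁ := rfl
        rw [this, map_smul])
  have hf : ∀ i j, f i j = F (i w₀) (j w₁) := fun _ _ => rfl
  have hfull : ∀ (i j : IntertwiningMap σ ρ) (v w : W), F (i v) (j w) * B w₀ w₁ = f i j * B v w := by
    intro i j v w
    obtain ⟨c, hc⟩ := hscal i j
    rw [hf, hc, hc]
    ring
  have hskew : ∀ i j : IntertwiningMap σ ρ, f i j = - f j i := by
    intro i j
    have h1 := hfull j i w₁ w₀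
    have h2 : F (j w₁) (i w₀) = F (j w₁) (i w₀) := rfl
    have h3 : f i j = ε * F (j w₁) (i w₀) := by rw [hf, hε]
    have h4 : B w₀ w₁ = δ * B w₁ w₀ := hδ _ _
    have h5 : f i j * B w₀ w₁ = ε * (f j i * B w₁ w₀) := by
      rw [h3, mul_assoc, h1]
    have h6 : B w₁ w₀ ≠ 0 := by
      intro h0
      rw [h4, h0, mul_zero] at hww
      exact hww rfl
    have hδ0 : δ ≠ 0 := by
      intro h0
      rw [h0, mul_zero] at hεδ
      exact (by norm_num : (0:ℂ) ≠ -1) hεδ
    have h7 : (f i j * δ - ε * f j i) * B w₁ w₀ = 0 := by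
      rw [h4] at h5
      linear_combination h5
    have h8 := (mul_eq_zero.1 h7).resolve_right h6
    -- `δ² = 1`
    have h9 : B w₁ w₀ = δ * B w₀ w₁ := hδ _ _
    have h10 : δ * δ = 1 := by
      have h11 : (δ * δ - 1) * B w₁ w₀ = 0 := by
        have h12 : B w₁ w₀ = δ * (δ * B w₁ w₀) := by rw [← h4]; exact h9
        linear_combination -h12
      exact sub_eq_zero.1 ((mul_eq_zero.1 h11).resolve_right h6)
    have h13 : f i j = f i j * (δ * δ) := by rw [h10, mul_one]
    rw [h13, ← mul_assoc]
    have h14 : f i j * δ = ε * f j i := sub_eq_zero.1 h8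
    rw [h14]
    linear_combination (f j i) * hεδ
  have hnd : ∀ i : IntertwiningMap σ ρ, (∀ j, f i j = 0) → i = 0 := by
    intro i hi
    by_contra hi0
    -- the map `v ↦ (w ↦ F (i w) v)`
    let q : IntertwiningMap ρ σ.dual :=
      LinearMap.intertwiningMap_of_isIntertwiningMap ρ σ.dual
        (LinearMap.flip ((show V →ₗ[ℂ] V →ₗ[ℂ] ℂ from F.toLinearMap) ∘ₗ i.toLinearMap)) (by
          intro h v
          ext w
          simp only [Representation.dual_apply, Module.Dual.transpose_apply, LinearMap.coe_comp,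
            Function.comp_apply, LinearMap.flip_apply]
          have h1 := hinv h (i (σ h⁻¹ w)) v
          have h3 : i (σ h⁻¹ w) = ρ h⁻¹ (i w) := i.isIntertwining σ ρ h⁻¹ w
          have h4 : ρ h (i (σ h⁻¹ w)) = i w := by
            rw [h3, ← Module.End.mul_apply, ← map_mul, mul_inv_cancel, map_one,
              Module.End.one_apply]
          rw [h4] at h1
          exact h1)
    have hq : ∀ v w, q v w = F (i w) v := fun _ _ => rfl
    have hq0 : q ≠ 0 := by
      intro h0
      apply hi0
      apply IntertwiningMap.ext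
      apply LinearMap.ext
      intro w
      apply hF
      apply LinearMap.ext
      intro v
      have h1 : q v w = 0 := by rw [h0]; rfl
      rw [hq] at h1
      exact h1
    have hdirr : σ.dual.IsIrreducible := by
      exact Cfsg.Agent.Characters.Core.isIrreducible_of_equiv e inferInstance
    have hqs : Function.Surjective q := by
      haveI := hdirr
      exact (IsIrreducible.surjective_or_eq_zero q).resolve_right hq0
    obtain ⟨s, hs⟩ := exists_section ρ σ.dual q hqs
    have h1 : f i (s.comp B) * B w₀ w₁ = F (i w₀) ((s.comp B) w₁) * B w₀ w₁ := by rw [hf]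
    have h2 : F (i w₀) ((s.comp B) w₁) = B w₁ w₀ := by
      have h3 : F (i w₀) ((s.comp B) w₁) = q (s (B w₁)) w₀ := rfl
      rw [h3, hs]
    rw [hi, zero_mul, h2] at h1
    have h4 : B w₀ w₁ = δ * B w₁ w₀ := hδ _ _
    have h5 : B w₁ w₀ = 0 := by
      rcases mul_eq_zero.1 h1.symm with h | h
      · exact h
      · exact absurd h hww
    rw [h4, h5, mul_zero] at hww
    exact hww rfl
  exact Cfsg.Agent.OddHalf.NI.QuatDim.even_of_skew (by norm_num) f hskew hnd

end Cfsg.Agent.H694.Alt
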