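import Cfsg.Agent.ChevalleyStructure.CoxeterGeom
import Cfsg.Agent.Tits.OppRes

/-!
# Parabolic cosets and double cosets of a Coxeter group by the numbers game

A functional on the root lattice is given by its values `c : B → ℤ` on the simple roots; the simple
reflection `s_i` maps it to `j ↦ c j - A i j * c i`.

* `mem_WJ_iff`: the stabilizer of a dominant functional is a standard parabolic subgroup.
* `count`: the cosets and double cosets of that parabolic subgroup.
-/

set_option autoImplicit false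

namespace Cfsg.Agent.H694

open Cfsg.Agent.ChevalleyStructure.CoxeterGeom Cfsg.Agent.Tits.Core Cfsg.Agent.Tits.OppRes
open Cfsg.Agent.Tits.OppRes.Cox

variable {B : Type*} [Fintype B]

/-- the functional with values `c` -/
def fn (c : B → ℤ) (v : B → ℤ) : ℤ := ∑ j, v j * c j

theorem fn_add (c v w : B → ℤ) : fn c (v + w) = fn c v + fn c w := by
  simp only [fn, Pi.add_apply, add_mul, Finset.sum_add_distrib]

theorem fn_sub (c v w : B → ℤ) : fn c (v - w) = fn c v - fn c w := by
  simp only [fn, Pi.sub_apply, sub_mul, Finset.sum_sub_distrib]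

theorem fn_smul (c : B → ℤ) (x : ℤ) (v : B → ℤ) : fn c (x • v) = x * fn c v := by
  simp only [fn, Pi.smul_apply, smul_eq_mul, Finset.mul_sum, mul_assoc]

theorem fn_sum {ι : Type*} (s : Finset ι) (c : B → ℤ) (v : ι → B → ℤ) :
    fn c (∑ k ∈ s, v k) = ∑ k ∈ s, fn c (v k) := by
  classical
  induction s using Finset.induction_on with
  | empty => simp [fn]
  | insert a s ha ih => rw [Finset.sum_insert ha, Finset.sum_insert ha, fn_add, ih]

variable [DecidableEq B]

theorem fn_single (c : B → ℤ) (i : B) (x : ℤ) : fn c (Pi.single i x) = x * c i := by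
  simp [fn, Pi.single_apply]

variable {W : Type*} [Group W] {M : CoxeterMatrix B} (cs : CoxeterSystem M W) {A : B → B → ℤ}
  (h : IsCartan M A)

/-- the right action on functionals -/
def mv (w : W) (c : B → ℤ) : B → ℤ := fun i => fn c (rep cs h w (Pi.single i 1))

theorem fn_mv (w : W) (c v : B → ℤ) : fn (mv cs h w c) v = fn c (rep cs h w v) := by
  have h1 : v = ∑ i, v i • (Pi.single i (1 : ℤ) : B → ℤ) := by
    funext j
    simp [Finset.sum_apply, Pi.single_apply]
  conv_rhs => rw [h1]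
  rw [map_sum, fn_sum]
  unfold fn mv
  refine Finset.sum_congr rfl fun i _ => ?_
  rw [map_smul]
  show v i * fn c _ = fn c (v i • _)
  rw [fn_smul]

theorem mv_mul (v w : W) (c : B → ℤ) : mv cs h (v * w) c = mv cs h w (mv cs h v c) := by
  funext i
  show fn c _ = fn (mv cs h v c) _
  rw [fn_mv, rep_mul_apply]

theorem mv_one (c : B → ℤ) : mv cs h 1 c = c := by
  funext i
  show fn c (rep cs h 1 _) = c i
  rw [map_one, Module.End.one_apply, fn_single, one_mul]

theorem mv_simple (i : B) (c : B → ℤ) : mv cs h (cs.simple i) c = fun j => c j - A i j * c i := by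
  funext j
  show fn c (rep cs h (cs.simple i) _) = _
  rw [rep_simple, refl_single, fn_sub, fn_single, fn_single]
  ring

theorem mv_inv_eq {w : W} {c d : B → ℤ} (hw : mv cs h w c = d) : mv cs h w⁻¹ d = c := by
  rw [← hw, ← mv_mul, mul_inv_cancel, mv_one]

omit [DecidableEq B] in
theorem fn_nonneg {c v : B → ℤ} (hv : 0 ≤ v) (hc : ∀ j, v j ≠ 0 → 0 ≤ c j) : 0 ≤ fn c v := by
  refine Finset.sum_nonneg fun j _ => ?_
  by_cases h0 : v j = 0
  · rw [h0, zero_mul]
  · exact mul_nonneg (hv j) (hc j h0)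

omit [DecidableEq B] in
theorem fn_nonpos {c v : B → ℤ} (hv : v ≤ 0) (hc : ∀ j, v j ≠ 0 → 0 ≤ c j) : fn c v ≤ 0 := by
  refine Finset.sum_nonpos fun j _ => ?_
  by_cases h0 : v j = 0
  · rw [h0, zero_mul]
  · exact mul_nonpos_of_nonpos_of_nonneg (hv j) (hc j h0)

variable [Finite W]

omit [Finite W] in
/-- `W_L` preserves the vectors supported on `L`. -/
theorem supp_rep {L : Set B} {w : W} (hw : w ∈ WJ cs L) {v : B → ℤ} (hv : ∀ j, v j ≠ 0 → j ∈ L) :
    ∀ j, rep cs h w v j ≠ 0 → j ∈ L := by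
  have key : ∀ i ∈ L, ∀ v : B → ℤ, (∀ j, v j ≠ 0 → j ∈ L) →
      ∀ j, rep cs h (cs.simple i) v j ≠ 0 → j ∈ L := by
    intro i hi v hv j hj
    rw [rep_simple, refl_apply, Pi.sub_apply, Pi.single_apply] at hj
    by_cases hji : j = i
    · rw [hji]; exact hi
    · rw [if_neg hji, sub_zero] at hj
      exact hv j hj
  induction hw using Subgroup.closure_induction_left with
  | one =>
    rw [map_one, Module.End.one_apply]
    exact hv
  | mul_left x hx y _ ih =>
    obtain ⟨i, hi, rfl⟩ := hx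
    intro j hj
    rw [rep_mul_apply] at hj
    exact key i hi _ ih j hj
  | inv_mul_cancel x hx y _ ih =>
    obtain ⟨i, hi, rfl⟩ := hx
    intro j hj
    rw [cs.inv_simple, rep_mul_apply] at hj
    exact key i hi _ ih j hj

/-- Two `L`-dominant functionals in the same orbit of `W_L` are equal. -/
theorem eq_of_dominant {L : Set B} {w : W} (hw : w ∈ WJ cs L) {c d : B → ℤ}
    (hc : ∀ i ∈ L, 0 ≤ c i) (hd : ∀ i ∈ L, 0 ≤ d i) (hcd : mv cs h w c = d) : c = d := by
  have hC : Cox cs := inferInstance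
  induction hn : cs.length w using Nat.strong_induction_on generalizing w with
  | _ n ih =>
  by_cases hw1 : w = 1
  · rw [hw1, mv_one] at hcd
    exact hcd
  obtain ⟨i, hi, hdes⟩ := hC.exists_descent hw hw1
  have hlt : cs.length (w * cs.simple i) < cs.length w := hdes
  have h1 : d i ≤ 0 := by
    rw [← hcd]
    refine fn_nonpos (nonpos_of_lt cs h w i hlt) fun j hj => hc j ?_
    refine supp_rep cs h hw (v := Pi.single i 1) (fun k hk => ?_) j hj
    by_contra hk'
    apply hk
    rw [Pi.single_apply, if_neg]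
    rintro rfl
    exact hk' hi
  have h2 : d i = 0 := le_antisymm h1 (hd i hi)
  refine ih _ (hn ▸ hlt) (mul_mem hw (simple_mem_WJ hi)) ?_ rfl
  rw [mv_mul, hcd, mv_simple, h2]
  funext j
  ring

/-- The stabilizer of a dominant functional. -/
theorem mem_WJ_iff {c : B → ℤ} (hc : ∀ i, 0 ≤ c i) {w : W} :
    w ∈ WJ cs {i | c i = 0} ↔ mv cs h w c = c := by
  have hC : Cox cs := inferInstance
  constructor
  · intro hw
    induction hw using Subgroup.closure_induction_left with
    | one => exact mv_one cs h c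
    | mul_left x hx y _ ih =>
      obtain ⟨i, hi, rfl⟩ := hx
      have hi' : c i = 0 := hi
      rw [mv_mul, mv_simple, hi']
      simp only [mul_zero, sub_zero]
      exact ih
    | inv_mul_cancel x hx y _ ih =>
      obtain ⟨i, hi, rfl⟩ := hx
      have hi' : c i = 0 := hi
      rw [cs.inv_simple, mv_mul, mv_simple, hi']
      simp only [mul_zero, sub_zero]
      exact ih
  · intro hw
    induction hn : cs.length w using Nat.strong_induction_on generalizing w with
    | _ n ih =>
    by_cases hw1 : w = 1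
    · rw [hw1]
      exact one_mem _
    obtain ⟨i, hdes⟩ := cs.exists_rightDescent_of_ne_one hw1
    have hlt : cs.length (w * cs.simple i) < cs.length w := hdes
    have h1 : c i ≤ 0 := by
      conv_lhs => rw [← hw]
      exact fn_nonpos (nonpos_of_lt cs h w i hlt) fun j _ => hc j
    have h2 : c i = 0 := le_antisymm h1 (hc i)
    have h3 : w * cs.simple i ∈ WJ cs {i | c i = 0} := by
      refine ih _ (hn ▸ hlt) ?_ rfl
      rw [mv_mul, hw, mv_simple, h2]
      funext j
      ring
    have h4 := mul_mem h3 (simple_mem_WJ (cs := cs) (J := {i | c i = 0}) (j := i) h2)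
    rwa [mul_assoc, cs.simple_mul_simple_self, mul_one] at h4

omit [Finite W] in
/-- The orbits of `W_L` contain dominant functionals. -/
theorem exists_dominant {c : B → ℤ} (hc : ∀ i, 0 ≤ c i) (L : Set B) (w : W) :
    ∃ u ∈ WJ cs L, ∀ i ∈ L, 0 ≤ mv cs h (w * u) c i := by
  classical
  have hex : ∃ n, ∃ u ∈ WJ cs L, cs.length (w * u) = n := ⟨_, 1, one_mem _, rfl⟩
  obtain ⟨u, hu, hun⟩ := Nat.find_spec hex
  refine ⟨u, hu, fun i hi => ?_⟩
  have h1 : cs.length (w * u) < cs.length (w * u * cs.simple i) := by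
    rcases cs.length_mul_simple (w * u) i with h' | h'
    · omega
    · exfalso
      refine Nat.find_min hex (m := cs.length (w * u * cs.simple i)) (by omega)
        ⟨u * cs.simple i, mul_mem hu (simple_mem_WJ hi), by rw [mul_assoc]⟩
  exact fn_nonneg (nonneg_of_lt cs h _ i h1) fun j _ => hc j

/-- The cosets of the stabilizer and the orbit. -/
theorem card_index {c : B → ℤ} (hc : ∀ i, 0 ≤ c i) :
    (WJ cs {i | c i = 0}).index = Nat.card {x : B → ℤ // ∃ w : W, mv cs h w c = x} := by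
  symm
  have hf : ∀ v w : W, mv cs h v⁻¹ c = mv cs h w⁻¹ c ↔ v⁻¹ * w ∈ WJ cs {i | c i = 0} := by
    intro v w
    rw [mem_WJ_iff cs h hc, mv_mul]
    constructor
    · intro h1
      rw [h1, ← mv_mul, inv_mul_cancel, mv_one]
    · intro h1
      have h2 := mv_inv_eq cs h h1
      exact h2.symm
  refine (Nat.card_congr (Equiv.ofBijective (Quotient.lift (fun w : W =>
    (⟨mv cs h w⁻¹ c, w⁻¹, rfl⟩ : {x : B → ℤ // ∃ w : W, mv cs h w c = x})) ?_) ⟨?_, ?_⟩)).symm
  · intro a b hab
    exact Subtype.ext ((hf a b).2 (QuotientGroup.leftRel_apply.1 hab))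
  · intro a b
    induction a using QuotientGroup.induction_on with
    | _ a =>
    induction b using QuotientGroup.induction_on with
    | _ b =>
    intro h1
    exact QuotientGroup.eq.2 ((hf a b).1 (congrArg Subtype.val h1))
  · rintro ⟨x, w, rfl⟩
    exact ⟨QuotientGroup.mk w⁻¹, Subtype.ext (by
      show mv cs h w⁻¹⁻¹ c = mv cs h w c
      rw [inv_inv])⟩

/-- The double cosets and the `L`-dominant functionals of the orbit. -/
theorem card_dbl {c : B → ℤ} (hc : ∀ i, 0 ≤ c i) (L : Set B) :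
    Nat.card (DoubleCoset.Quotient (WJ cs L : Set W) (WJ cs {i | c i = 0} : Set W)) =
      Nat.card {x : B → ℤ // (∃ w : W, mv cs h w c = x) ∧ ∀ i ∈ L, 0 ≤ x i} := by
  symm
  let f : {x : B → ℤ // (∃ w : W, mv cs h w c = x) ∧ ∀ i ∈ L, 0 ≤ x i} →
      DoubleCoset.Quotient (WJ cs L : Set W) (WJ cs {i | c i = 0} : Set W) :=
    fun x => Quotient.mk _ (x.2.1.choose)⁻¹
  refine Nat.card_congr (Equiv.ofBijective f ⟨?_, ?_⟩)
  · intro x y hxy
    have h1 := Quotient.exact hxy
    have h2 := (DoubleCoset.rel_iff.1 h1)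
    obtain ⟨a, ha, b, hb, hab⟩ := h2
    have hx := x.2.1.choose_spec
    have hy := y.2.1.choose_spec
    have h3 : y.2.1.choose = b⁻¹ * x.2.1.choose * a⁻¹ := by
      have := congrArg (fun t => t⁻¹) hab
      simp only [inv_inv, mul_inv_rev] at this
      rw [this, mul_assoc]
    have h4 : mv cs h a⁻¹ x.1 = y.1 := by
      rw [← hy, h3, mv_mul, mv_mul, (mem_WJ_iff cs h hc).1 (inv_mem hb), hx]
    exact Subtype.ext (eq_of_dominant cs h (inv_mem ha) x.2.2 y.2.2 h4)
  · intro q
    induction q using Quotient.inductionOn with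
    | _ w =>
    obtain ⟨u, hu, hdom⟩ := exists_dominant cs h hc L w⁻¹
    let x : {x : B → ℤ // (∃ w : W, mv cs h w c = x) ∧ ∀ i ∈ L, 0 ≤ x i} :=
      ⟨mv cs h (w⁻¹ * u) c, ⟨_, rfl⟩, hdom⟩
    refine ⟨x, Quotient.sound ?_⟩
    apply DoubleCoset.rel_iff.2
    have hx : mv cs h x.2.1.choose c = mv cs h (w⁻¹ * u) c := x.2.1.choose_spec
    have h3 : x.2.1.choose * (w⁻¹ * u)⁻¹ ∈ WJ cs {i | c i = 0} := by
      rw [mem_WJ_iff cs h hc, mv_mul, hx, ← mv_mul, mul_inv_cancel, mv_one]
    refine ⟨u, hu, _, h3, ?_⟩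
    group

include h in
/-- **Counting with an explicit model of the orbit.** -/
theorem count {c : B → ℤ} (hc : ∀ i, 0 ≤ c i) {Y : Type*} (φ : Y → B → ℤ)
    (hφ : Function.Injective φ) (y₀ : Y) (hy₀ : φ y₀ = c) (s : B → Y → Y)
    (hs : ∀ i y j, φ (s i y) j = φ y j - A i j * φ y i) (rk : Y → ℕ)
    (hconn : ∀ y, y ≠ y₀ → ∃ i, rk (s i y) < rk y) :
    (WJ cs {i | c i = 0}).index = Nat.card Y ∧
      ∀ L : Set B, Nat.card (DoubleCoset.Quotient (WJ cs L : Set W) (WJ cs {i | c i = 0} : Set W)) =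
        Nat.card {y : Y // ∀ i ∈ L, 0 ≤ φ y i} := by
  have hs' : ∀ i y, φ (s i y) = mv cs h (cs.simple i) (φ y) := by
    intro i y
    rw [mv_simple]
    exact funext fun j => hs i y j
  have hX : ∀ x : B → ℤ, (∃ w : W, mv cs h w c = x) ↔ ∃ y, φ y = x := by
    intro x
    constructor
    · rintro ⟨w, rfl⟩
      induction w using cs.simple_induction_right with
      | one => exact ⟨y₀, by rw [mv_one, hy₀]⟩
      | mul_simple_right w i ih =>
        obtain ⟨y, hy⟩ := ih
        exact ⟨s i y, by rw [hs', hy, ← mv_mul]⟩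
    · rintro ⟨y, rfl⟩
      induction hn : rk y using Nat.strong_induction_on generalizing y with
      | _ n ih =>
      by_cases hy : y = y₀
      · exact ⟨1, by rw [mv_one, hy, hy₀]⟩
      · obtain ⟨i, hi⟩ := hconn y hy
        obtain ⟨w, hw⟩ := ih _ (hn ▸ hi) (s i y) rfl
        refine ⟨w * cs.simple i, ?_⟩
        rw [mv_mul, hw, hs', ← mv_mul, cs.simple_mul_simple_self, mv_one]
  constructor
  · rw [card_index cs h hc]
    refine (Nat.card_congr (Equiv.ofBijective (fun y : Y =>
      (⟨φ y, (hX _).2 ⟨y, rfl⟩⟩ : {x : B → ℤ // ∃ w : W, mv cs h w c = x})) ⟨?_, ?_⟩)).symm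
    · intro a b hab
      exact hφ (congrArg Subtype.val hab)
    · rintro ⟨x, hx⟩
      obtain ⟨y, rfl⟩ := (hX x).1 hx
      exact ⟨y, rfl⟩
  · intro L
    rw [card_dbl cs h hc]
    refine (Nat.card_congr (Equiv.ofBijective (fun y : {y : Y // ∀ i ∈ L, 0 ≤ φ y i} =>
      (⟨φ y.1, (hX _).2 ⟨y.1, rfl⟩, y.2⟩ :
        {x : B → ℤ // (∃ w : W, mv cs h w c = x) ∧ ∀ i ∈ L, 0 ≤ x i})) ⟨?_, ?_⟩)).symm
    · intro a b hab
      exact Subtype.ext (hφ (congrArg Subtype.val hab))
    · rintro ⟨x, hx, hx'⟩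
      obtain ⟨y, rfl⟩ := (hX x).1 hx
      exact ⟨⟨y, hx'⟩, rfl⟩

/-- The number of double cosets is symmetric. -/
theorem card_double_comm {G : Type*} [Group G] (H K : Subgroup G) :
    Nat.card (DoubleCoset.Quotient (H : Set G) (K : Set G)) =
      Nat.card (DoubleCoset.Quotient (K : Set G) (H : Set G)) := by
  refine Nat.card_congr (Quotient.congr (Equiv.inv G) fun a b => ?_)
  show DoubleCoset.setoid (H : Set G) (K : Set G) a b ↔
    DoubleCoset.setoid (K : Set G) (H : Set G) a⁻¹ b⁻¹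
  rw [DoubleCoset.rel_iff, DoubleCoset.rel_iff]
  constructor
  · rintro ⟨x, hx, y, hy, rfl⟩
    exact ⟨y⁻¹, inv_mem hy, x⁻¹, inv_mem hx, by group⟩
  · rintro ⟨x, hx, y, hy, hb⟩
    refine ⟨y⁻¹, inv_mem hy, x⁻¹, inv_mem hx, ?_⟩
    have := congrArg (fun t => t⁻¹) hb
    simp only [inv_inv, mul_inv_rev] at this
    rw [this]
    group

end Cfsg.Agent.H694
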