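import Cfsg.Agent.H694.CoxCount

/-!
# Counting with an explicit list of encoded functionals

A functional `x : Fin l → ℤ` with values in `[-8, 7]` is encoded as `∑ (x j + 8) 16 ^ j`.
-/

set_option autoImplicit false

namespace Cfsg.Agent.H694

open Cfsg.Agent.ChevalleyStructure.CoxeterGeom Cfsg.Agent.Tits.Core Cfsg.Agent.Tits.OppRes

/-- decoding -/
def dc (n j : ℕ) : ℤ := ((n / 16 ^ j % 16 : ℕ) : ℤ) - 8

/-- the reflection on codes; `a` is the code of the row of the Cartan matrix -/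
def nx (a : ℤ) (n i : ℕ) : ℕ := ((n : ℤ) - dc n i * a).toNat

/-- encoding -/
def en (l n : ℕ) : ℤ := ((List.range l).map fun j => (dc n j + 8) * 16 ^ j).sum

/-- the rank function -/
def rkL (v : List ℤ) (n : ℕ) : ℕ :=
  (1000000 - (v.zipIdx.map fun p => p.1 * dc n p.2).sum).toNat

theorem parity_list {l : ℕ} {M : CoxeterMatrix (Fin l)} {A : Fin l → Fin l → ℤ}
    (h : IsCartan M A) (L : List ℕ) (n₀ : ℕ) (a : Fin l → ℤ) (v : List ℤ)
    (h0 : n₀ ∈ L) (hdom : ∀ i : Fin l, 0 ≤ dc n₀ i)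
    (h1 : ∀ n ∈ L, ∀ i : Fin l, nx (a i) n i ∈ L)
    (h2 : ∀ n ∈ L, ∀ i j : Fin l, dc (nx (a i) n i) j = dc n j - A i j * dc n i)
    (h3 : ∀ n ∈ L, n = n₀ ∨ ∃ i : Fin l, rkL v (nx (a i) n i) < rkL v n)
    (h4 : ∀ n ∈ L, (n : ℤ) = en l n) (h5 : L.Nodup)
    {W : Type*} [Group W] [Finite W] (cs : CoxeterSystem M W) :
    (WJ cs {i | dc n₀ i = 0}).index = L.length ∧
      Nat.card (DoubleCoset.Quotient (WJ cs {i | dc n₀ i = 0} : Set W)
        (WJ cs {i | dc n₀ i = 0} : Set W)) =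
      (L.filter fun n => ∀ i : Fin l, dc n₀ i = 0 → 0 ≤ dc n i).length := by
  classical
  let Y := {n : ℕ // n ∈ L}
  let φ : Y → Fin l → ℤ := fun y j => dc y.1 j
  have hφ : Function.Injective φ := by
    rintro ⟨n, hn⟩ ⟨m, hm⟩ hh
    apply Subtype.ext
    have e1 : en l n = en l m := by
      unfold en
      congr 1
      refine List.map_congr_left fun j hj => ?_
      have := congrFun hh ⟨j, List.mem_range.1 hj⟩
      simp only [φ] at this
      rw [this]
    rw [← h4 n hn, ← h4 m hm] at e1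
    exact_mod_cast e1
  obtain ⟨k1, k2⟩ := count cs h (c := fun i => dc n₀ i) hdom φ hφ ⟨n₀, h0⟩ rfl
    (fun i y => ⟨nx (a i) y.1 i, h1 y.1 y.2 i⟩) (fun i y j => h2 y.1 y.2 i j)
    (fun y => rkL v y.1) (fun y hy => by
      rcases h3 y.1 y.2 with h6 | h6
      · exact absurd (Subtype.ext h6) hy
      · exact h6)
  have hcard : ∀ L' : List ℕ, L'.Nodup → Nat.card {n : ℕ // n ∈ L'} = L'.length := by
    intro L' hL'
    rw [← List.toFinset_card_of_nodup hL', ← Nat.card_eq_finsetCard]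
    exact Nat.card_congr (Equiv.subtypeEquivRight fun n => by simp)
  refine ⟨k1.trans (hcard L h5), (k2 _).trans ?_⟩
  rw [← hcard _ (h5.filter _)]
  refine Nat.card_congr ⟨fun y => ⟨y.1.1, ?_⟩, fun y => ⟨⟨y.1, (List.mem_filter.1 y.2).1⟩, ?_⟩,
    fun y => rfl, fun y => rfl⟩
  · rw [List.mem_filter]
    exact ⟨y.1.2, decide_eq_true fun i hi => y.2 i hi⟩
  · intro i hi
    exact of_decide_eq_true (List.mem_filter.1 y.2).2 i hi

end Cfsg.Agent.H694
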