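import Cfsg.Agent.H694.Parity
import Cfsg.Agent.H612.SectionR

/-!
# Good characters from odd pairings

* `good_of_odd`: an irreducible character `χ` of indicator one and even degree such that
  `[χ ∘ ι, ρ]` is odd for some class function `ρ` on `E`, `ι : E → N ≤ G`, is good.
* `good_of_pair`: a real character `π` of `G` vanishing off a subgroup of index two and a real
  character `ρ` of `E` with `[π ∘ ι, ρ]` odd.
-/

set_option autoImplicit false
set_option linter.unusedSectionVars false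
set_option linter.style.haveILetI false

namespace Cfsg.Agent.H694

open Cfsg Representation
open scoped ComplexConjugate commutatorElement
open Cfsg.Agent.Characters.Core
open Cfsg.Agent.H705.StrongLin (ind ind_eq real_of_ind)
open Cfsg.Agent.OddOrderCharacters.NormalInduced (conjFn)
open Cfsg.Agent.OddOrderCharacters.PF9.CliffGen (resTo irr_ind ind_inj inertia exists_ind
  mem_inertia le_inertia)
open Cfsg.Agent.HKS.CosetTwo (sg sg_of_mem sg_of_notMem isIrr_mul_sg mul_sg_mul_sg conj_sg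
  classInner_mul_sg)

universe u v

/-- The multiplicity over `φ` in the Clifford correspondence. -/
theorem classInner_indFun_inertia {G : Type u} [Group G] [Fintype G] (N : Subgroup G)
    [hN : N.Normal] [Fintype N] {φ : N → ℂ} (hφ : IsIrrCharacter N φ) (I : Subgroup G)
    [Fintype I] (hI : ∀ g, g ∈ I ↔ conjFn N φ g = φ) (hNI : N ≤ I) {ψ : I → ℂ}
    (hψ : IsIrrCharacter I ψ) (h0 : classInner (resTo hNI ψ) φ ≠ 0) :
    classInner (fun n : N => indFun I ψ (n : G)) φ = classInner (resTo hNI ψ) φ := by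
  classical
  haveI : Fintype (N.subgroupOf I) := Fintype.ofFinite _
  have hφ1 : φ 1 ≠ 0 := isIrr_apply_one_ne_zero hφ
  -- `ψ` restricts to a multiple of `φ`
  have h1 : ∀ n : N, ψ ⟨n, hNI n.2⟩ * φ 1 = ψ 1 * φ n := by
    intro n
    have h2 := Cfsg.Agent.OddOrderCharacters.PF9.CliffGen.res_of_invariant
      (N := N.subgroupOf I) (irr_dn N I hNI hφ)
      (fun g => inv_dn N I hNI (fun g hg => (hI g).1 hg) g) hψ (by
        show classInner (fun n : N.subgroupOf I => ψ n) (dn N I hNI φ) ≠ 0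
        rw [← classInner_dn N I hNI] at h0
        exact h0) ⟨⟨n, hNI n.2⟩, Subgroup.mem_subgroupOf.2 n.2⟩
    exact h2
  have h2 : resTo hNI ψ = (ψ 1 * (φ 1)⁻¹) • φ := by
    funext n
    show ψ ⟨n, hNI n.2⟩ = ψ 1 * (φ 1)⁻¹ * φ n
    rw [mul_right_comm, ← h1 n, mul_inv_cancel_right₀ hφ1]
  have h3 : classInner (resTo hNI ψ) φ = ψ 1 * (φ 1)⁻¹ := by
    rw [h2, classInner_smul_left, classInner_irr_self hφ, mul_one]
  have h4 : (fun n : N => indFun I ψ (n : G)) =
      (Nat.card I : ℂ)⁻¹ • ∑ x : G, ((ψ 1 * (φ 1)⁻¹) • conjFn N φ x⁻¹) := by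
    funext n
    rw [indFun_apply, Pi.smul_apply, Finset.sum_apply, smul_eq_mul]
    congr 1
    refine Finset.sum_congr rfl fun x _ => ?_
    have h5 : x⁻¹ * (n : G) * x ∈ N := by
      have := hN.conj_mem n n.2 x⁻¹
      simpa using this
    rw [extendByZero_of_mem I ψ (hNI h5)]
    have h6 := congrFun h2 ⟨x⁻¹ * (n : G) * x, h5⟩
    have h7 : resTo hNI ψ ⟨x⁻¹ * (n : G) * x, h5⟩ = ψ ⟨x⁻¹ * (n : G) * x, hNI h5⟩ := rfl
    rw [← h7, h6]
    show _ * φ _ = _ * φ _
    congr 2
    apply Subtype.ext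
    show x⁻¹ * (n : G) * x = x⁻¹ * (n : G) * (x⁻¹)⁻¹
    rw [inv_inv]
  have h5 : ∀ x : G, classInner ((ψ 1 * (φ 1)⁻¹) • conjFn N φ x⁻¹) φ =
      if x ∈ I then ψ 1 * (φ 1)⁻¹ else 0 := by
    intro x
    rw [classInner_smul_left]
    have h6 : x ∈ I ↔ conjFn N φ x⁻¹ = φ := by rw [← hI, inv_mem_iff]
    split_ifs with hx
    · rw [h6.1 hx, classInner_irr_self hφ, mul_one]
    · rw [classInner_irr_ne (Cfsg.Agent.OddOrderCharacters.IndRes.isIrr_conjFn N hφ x⁻¹) hφ
        (fun h => hx (h6.2 h)), mul_zero]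
  rw [h4, classInner_smul_left, classInner_sum_left, Finset.sum_congr rfl fun x _ => h5 x,
    ← Finset.sum_filter, Finset.sum_const, nsmul_eq_mul, h3]
  have h6 : (Finset.univ.filter fun x : G => x ∈ I).card = Nat.card I := by
    rw [Nat.card_eq_fintype_card, Fintype.card_subtype]
  rw [h6, ← mul_assoc, inv_mul_cancel₀ (by exact_mod_cast Nat.card_pos.ne'), one_mul]

/-- **Odd pairings give good characters.** -/
theorem good_of_odd {G : Type u} [Group G] [Fintype G] (N : Subgroup G) [hN : N.Normal]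
    [Fintype N] (hperf : ⁅N, N⁆ = N)
    (h2 : ∀ φ : N → ℂ, IsIrrCharacter N φ → charDegree φ ≠ 2) {χ : G → ℂ}
    (hχ : IsIrrCharacter G χ) (hχ1 : ind χ = 1) (heven : Even (charDegree χ))
    {E : Type v} [Group E] [Fintype E] (ι : E →* N) {ρ : E → ℂ} (hρ : RChar ρ) {a : ℤ}
    (ha : classInner (fun x => χ (ι x : G)) ρ = a) (hodd : Odd a) : Good G N χ := by
  classical
  haveI := @Fintype.ofFinite (IrrCharacter N) finite_irr
  haveI := @Fintype.ofFinite (IrrCharacter E) finite_irr
  have hcN : IsCharacter N (fun n : N => χ n) := isCharacter_comp N.subtype (isIrr_isCharacter hχ)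
  -- an odd multiplicity
  have hex : ∃ φ : IrrCharacter N, Odd (mu (fun n : N => χ n) φ) ∧ ∃ k : ℤ,
      classInner (fun x => (φ : N → ℂ) (ι x)) ρ = k ∧ Odd k := by
    by_contra hcon
    push Not at hcon
    have hk : ∀ φ : IrrCharacter N, ∃ k : ℤ, classInner (fun x => (φ : N → ℂ) (ι x)) ρ = k := by
      intro φ
      have hc : IsCharacter E (fun x => (φ : N → ℂ) (ι x)) :=
        isCharacter_comp ι (isIrr_isCharacter φ.2)
      refine ⟨∑ ψ : IrrCharacter E, mu (fun x => (φ : N → ℂ) (ι x)) ψ * mu ρ ψ, ?_⟩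
      rw [classInner_eq_sum (isCharacter_isClassFunction hc) hρ.cf]
      push_cast
      refine Finset.sum_congr rfl fun ψ _ => ?_
      rw [irr_mu_spec hc ψ.2, hρ.mu_spec ψ.2]
      simp
    choose k hk using hk
    have h3 : (fun x => χ (ι x : G)) =
        ∑ φ : IrrCharacter N, (mu (fun n : N => χ n) φ : ℂ) • (fun x => (φ : N → ℂ) (ι x)) := by
      funext x
      have h4 := congrFun (classFunction_eq_sum (isCharacter_isClassFunction hcN)) (ι x)
      rw [Finset.sum_apply] at h4 ⊢
      rw [h4]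
      refine Finset.sum_congr rfl fun φ _ => ?_
      rw [Pi.smul_apply, Pi.smul_apply, irr_mu_spec hcN φ.2]
    have h4 : a = ∑ φ : IrrCharacter N, mu (fun n : N => χ n) φ * k φ := by
      have h5 : ((a : ℤ) : ℂ) = ((∑ φ : IrrCharacter N, mu (fun n : N => χ n) φ * k φ : ℤ) : ℂ) := by
        rw [← ha, h3, classInner_sum_left]
        push_cast
        refine Finset.sum_congr rfl fun φ _ => ?_
        rw [classInner_smul_left, hk]
      exact_mod_cast h5
    have h5 : Even a := by
      rw [h4]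
      refine Finset.even_sum _ fun φ _ => ?_
      by_cases h6 : Odd (mu (fun n : N => χ n) φ)
      · have h7 := hcon φ h6 (k φ) (hk φ)
        exact (Int.not_odd_iff_even.1 h7).mul_left _
      · exact (Int.not_odd_iff_even.1 h6).mul_right _
    exact (Int.not_even_iff_odd.2 hodd) h5
  obtain ⟨φ, hφodd, -⟩ := hex
  -- `φ` is not of degree one
  have hmu0 : mu (fun n : N => χ n) φ ≠ 0 := by
    intro h0
    rw [h0] at hφodd
    exact absurd hφodd (by decide)
  have hcl : classInner (fun n : N => χ n) (φ : N → ℂ) ≠ 0 := by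
    rw [irr_mu_spec hcN φ.2]
    exact_mod_cast hmu0
  have hne1 : charDegree (φ : N → ℂ) ≠ 1 := by
    intro h1
    -- `φ` is linear, hence trivial
    obtain ⟨f, hf⟩ := Cfsg.Agent.Characters.Linear.exists_hom_of_isIrrCharacter φ.2 (by
      rw [Cfsg.Agent.Blocks.Basic.irr_one_eq_charDegree φ.2, h1, Nat.cast_one])
    have hf1 : ∀ y : N, f y = 1 := by
      intro y
      have h5 : (y : G) ∈ ⁅N, N⁆ := by rw [hperf]; exact y.2
      have h6 : y ∈ commutator N := by
        rw [commutator_def, ← Subgroup.mem_map_iff_mem N.subtype_injective,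
          Subgroup.map_commutator, ← MonoidHom.range_eq_map, Subgroup.range_subtype]
        exact h5
      exact MonoidHom.mem_ker.1 (Abelianization.commutator_subset_ker f h6)
    have hφ1 : (φ : N → ℂ) = 1 := by
      rw [hf]
      funext y
      rw [hf1 y]
      rfl
    -- then `N` is in the kernel of `χ`, and the multiplicity is the degree
    have h3 := Cfsg.Agent.OddOrderCharacters.PF9.CliffGen.res_of_invariant (N := N) φ.2
      (fun g => by rw [hφ1]; rfl) hχ hcl
    have h4 : (fun n : N => χ n) = χ 1 • (φ : N → ℂ) := by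
      funext n
      have h5 := h3 n
      rw [hφ1] at h5 ⊢
      simpa using h5
    have h5 : mu (fun n : N => χ n) φ = (charDegree χ : ℤ) := by
      apply mu_eq
      rw [h4, classInner_smul_left, classInner_irr_self φ.2, mul_one,
        Cfsg.Agent.Blocks.Basic.irr_one_eq_charDegree hχ]
      push_cast
      rfl
    rw [h5] at hφodd
    have h6 : Even (charDegree χ : ℤ) := by exact_mod_cast heven
    exact (Int.not_even_iff_odd.2 hφodd) h6
  have h3 : 3 ≤ charDegree (φ : N → ℂ) := by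
    have h4 := Cfsg.Agent.Blocks.Basic.charDegree_pos φ.2
    have h5 := h2 φ φ.2
    omega
  -- the Clifford correspondence
  set I := inertia N (φ : N → ℂ) with hI
  haveI : Fintype I := Fintype.ofFinite _
  have hNI : N ≤ I := le_inertia (isIrr_isClassFunction φ.2)
  obtain ⟨ψ, hψ, hψ0, hψχ⟩ := exists_ind φ.2 (T := I) (fun g => mem_inertia) hNI hχ hcl
  have h4 := classInner_indFun_inertia N φ.2 I (fun g => mem_inertia) hNI hψ hψ0
  rw [← hψχ] at h4
  have h5 : mu (resTo hNI ψ) (φ : N → ℂ) = mu (fun n : N => χ n) φ := by rw [mu, mu, h4]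
  have h6 := good_of_ind N hperf φ.2 I (fun g => mem_inertia) hNI hψ (by rw [← hψχ]; exact hχ1)
    (by rw [h5]; exact hφodd) (by rw [← hψχ]; exact heven) h3
  rw [← hψχ] at h6
  exact h6

/-- **Real characters vanishing off a subgroup of index two.** -/
theorem good_of_pair {G : Type u} [Group G] [Fintype G] (N D : Subgroup G) [hN : N.Normal]
    [D.Normal] [Fintype N] (hperf : ⁅N, N⁆ = N)
    (h2 : ∀ φ : N → ℂ, IsIrrCharacter N φ → charDegree φ ≠ 2) (hD : D.index = 2) (hND : N ≤ D)
    {π : G → ℂ} (hπ : RChar π) (hπ0 : ∀ g ∉ D, π g = 0)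
    {E : Type v} [Group E] [Fintype E] (ι : E →* N) {ρ : E → ℂ} (hρ : RChar ρ) {a : ℤ}
    (ha : classInner (fun x => π (ι x : G)) ρ = a) (hodd : Odd a) : ∃ χ, Good G N χ := by
  classical
  haveI := @Fintype.ofFinite (IrrCharacter G) finite_irr
  haveI := @Fintype.ofFinite (IrrCharacter E) finite_irr
  -- the pairings of the irreducible characters
  have hc : ∀ χ : IrrCharacter G, IsCharacter E (fun x => (χ : G → ℂ) (ι x : G)) := fun χ =>
    isCharacter_comp (N.subtype.comp ι) (isIrr_isCharacter χ.2)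
  have hk : ∀ χ : IrrCharacter G, ∃ k : ℤ,
      classInner (fun x => (χ : G → ℂ) (ι x : G)) ρ = k := by
    intro χ
    refine ⟨∑ ψ : IrrCharacter E, mu (fun x => (χ : G → ℂ) (ι x : G)) ψ * mu ρ ψ, ?_⟩
    rw [classInner_eq_sum (isCharacter_isClassFunction (hc χ)) hρ.cf]
    push_cast
    refine Finset.sum_congr rfl fun ψ _ => ?_
    rw [irr_mu_spec (hc χ) ψ.2, hρ.mu_spec ψ.2]
    simp
  choose k hk using hk
  have h3 : (fun x => π (ι x : G)) =
      ∑ χ : IrrCharacter G, (mu π χ : ℂ) • (fun x => (χ : G → ℂ) (ι x : G)) := by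
    funext x
    have h4 := congrFun (classFunction_eq_sum hπ.cf) (ι x : G)
    rw [Finset.sum_apply] at h4 ⊢
    rw [h4]
    refine Finset.sum_congr rfl fun χ _ => ?_
    rw [Pi.smul_apply, Pi.smul_apply, hπ.mu_spec χ.2]
  have h4 : a = ∑ χ : IrrCharacter G, mu π χ * k χ := by
    have h5 : ((a : ℤ) : ℂ) = ((∑ χ : IrrCharacter G, mu π χ * k χ : ℤ) : ℂ) := by
      rw [← ha, h3, classInner_sum_left]
      push_cast
      refine Finset.sum_congr rfl fun χ _ => ?_
      rw [classInner_smul_left, hk]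
    exact_mod_cast h5
  -- the two involutions
  let τ : IrrCharacter G → IrrCharacter G := fun χ =>
    ⟨(χ : G → ℂ) * sg hD, isIrr_mul_sg hD χ.2⟩
  have hττ : ∀ χ, τ (τ χ) = χ := fun χ => Subtype.ext (mul_sg_mul_sg hD χ)
  have hkτ : ∀ χ, k (τ χ) = k χ := by
    intro χ
    have h5 := hk (τ χ)
    have h6 : (fun x => ((τ χ : IrrCharacter G) : G → ℂ) (ι x : G)) =
        fun x => (χ : G → ℂ) (ι x : G) := by
      funext x
      show (χ : G → ℂ) (ι x : G) * sg hD (ι x : G) = _
      rw [sg_of_mem hD (hND (ι x).2), mul_one]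
    rw [h6, hk χ] at h5
    exact_mod_cast h5.symm
  have hkj : ∀ χ, k (cj χ) = k χ := by
    intro χ
    have h5 := hk (cj χ)
    have h6 : (fun x => ((cj χ : IrrCharacter G) : G → ℂ) (ι x : G)) =
        fun x => conj ((χ : G → ℂ) (ι x : G)) := rfl
    have h7 : ρ = fun x => conj (ρ x) := funext fun x => (hρ.real x).symm
    rw [h6, h7, classInner_conj_conj, hk χ, map_intCast] at h5
    exact_mod_cast h5.symm
  have hπsg : π * sg hD = π := by
    funext g
    rw [Pi.mul_apply]
    by_cases hg : g ∈ D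
    · rw [sg_of_mem hD hg, mul_one]
    · rw [hπ0 g hg, zero_mul]
  have hmτ : ∀ χ : IrrCharacter G, mu π (τ χ : IrrCharacter G) = mu π χ := by
    intro χ
    have h5 : classInner π ((χ : G → ℂ) * sg hD) = classInner π χ := by
      rw [← classInner_mul_sg, hπsg]
    show mu π ((χ : G → ℂ) * sg hD) = mu π χ
    rw [mu, mu, h5]
  have hmj : ∀ χ : IrrCharacter G, mu π (cj χ : IrrCharacter G) = mu π χ :=
    fun χ => mu_conj_right hπ.real
  have hjτ : ∀ χ, τ χ = χ → τ (cj χ) = cj χ := by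
    intro χ h
    have h5 := congrArg Subtype.val h
    apply Subtype.ext
    funext g
    have h6 := congrFun h5 g
    show conj ((χ : G → ℂ) g) * sg hD g = conj ((χ : G → ℂ) g)
    have h7 := congrArg conj h6
    show conj ((χ : G → ℂ) g) * sg hD g = conj ((χ : G → ℂ) g)
    have h8 : ((τ χ : IrrCharacter G) : G → ℂ) g = (χ : G → ℂ) g * sg hD g := rfl
    rw [h8, map_mul, conj_sg] at h7
    exact h7
  -- reduction modulo two
  let F : IrrCharacter G → ZMod 2 := fun χ => ((mu π χ * k χ : ℤ) : ZMod 2)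
  have hsum : ∑ χ : IrrCharacter G, F χ ≠ 0 := by
    intro h0
    have h5 : ((a : ℤ) : ZMod 2) = 0 := by
      rw [h4, Int.cast_sum]
      exact h0
    exact (Int.not_even_iff_odd.2 hodd) (even_iff_two_dvd.2
      ((ZMod.intCast_zmod_eq_zero_iff_dvd _ 2).1 h5))
  rw [Cfsg.Agent.H611.EvenFixed.sum_eq_sum_fixed Finset.univ τ (fun χ _ => hττ χ)
      (fun χ _ => Finset.mem_univ _) F (fun χ _ => by
        show ((mu π (τ χ : IrrCharacter G) * k (τ χ) : ℤ) : ZMod 2) = _
        rw [hmτ, hkτ]),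
    Cfsg.Agent.H611.EvenFixed.sum_eq_sum_fixed _ cj (fun χ _ => cj_cj χ)
      (fun χ hχ => by
        rw [Finset.mem_filter] at hχ ⊢
        exact ⟨Finset.mem_univ _, hjτ χ hχ.2⟩) F (fun χ _ => by
        show ((mu π (cj χ : IrrCharacter G) * k (cj χ) : ℤ) : ZMod 2) = _
        rw [hmj, hkj])] at hsum
  obtain ⟨χ, hχ, hχ0⟩ := Finset.exists_ne_zero_of_sum_ne_zero hsum
  rw [Finset.mem_filter, Finset.mem_filter] at hχ
  have hoddm : Odd (mu π χ * k χ) := by
    rw [← Int.not_even_iff_odd]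
    intro h5
    exact hχ0 ((ZMod.intCast_zmod_eq_zero_iff_dvd _ 2).2 (even_iff_two_dvd.1 h5))
  rw [Int.odd_mul] at hoddm
  have hreal := (cj_eq_self_iff χ).1 hχ.2
  have hind : ind (χ : G → ℂ) = 1 := by
    rcases ind_cases χ.2 with h | h | h
    · exact absurd h hreal
    · exact h
    · exact absurd (even_mu (hπ.even χ χ.2 h)) (Int.not_even_iff_odd.2 hoddm.1)
  exact ⟨χ, good_of_odd N hperf h2 χ.2 hind
    (Cfsg.Agent.H612.SectionR.even_of_mul_sg D hD χ (congrArg Subtype.val hχ.1.2)) ι hρ (hk χ)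
    hoddm.2⟩

end Cfsg.Agent.H694
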