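import Cfsg.Agent.H694.RCharInd

/-!
# Lifting a character of a normal subgroup to characters of indicator one
-/

set_option autoImplicit false
set_option linter.unusedSectionVars false
set_option linter.style.haveILetI false

namespace Cfsg.Agent.H694

open Cfsg Representation
open scoped ComplexConjugate commutatorElement
open Cfsg.Agent.Characters.Core
open Cfsg.Agent.H705.StrongLin (ind ind_eq real_of_ind)
open Cfsg.Agent.OddOrderCharacters.NormalInduced (conjFn)
open Cfsg.Agent.OddOrderCharacters.PF9.CliffGen (resTo irr_ind ind_inj inertia)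

universe u v

/-- Decomposition of the multiplicities of a restriction of a class function with integral
multiplicities. -/
theorem classInner_comp_of_int {G : Type u} [Group G] [Fintype G] {H : Type v} [Group H]
    [Fintype H] [Fintype (IrrCharacter G)] {π : G → ℂ} (hcf : IsClassFunction G π)
    (hint : ∀ χ, IsIrrCharacter G χ → ∃ n : ℤ, classInner π χ = n) (f : H →* G)
    {ψ : H → ℂ} (hψ : IsIrrCharacter H ψ) :
    classInner (fun x => π (f x)) ψ =
      ((∑ χ : IrrCharacter G, mu π χ * mu (fun x => (χ : G → ℂ) (f x)) ψ : ℤ) : ℂ) := by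
  have h1 : (fun x => π (f x)) =
      ∑ χ : IrrCharacter G, (mu π χ : ℂ) • (fun x => (χ : G → ℂ) (f x)) := by
    funext x
    have h2 := congrFun (classFunction_eq_sum hcf) (f x)
    rw [h2, Finset.sum_apply, Finset.sum_apply]
    refine Finset.sum_congr rfl fun χ _ => ?_
    rw [Pi.smul_apply, Pi.smul_apply, mu_spec (hint χ χ.2)]
  rw [h1, classInner_sum_left]
  push_cast
  refine Finset.sum_congr rfl fun χ _ => ?_
  have h3 : classInner (fun x => (χ : G → ℂ) (f x)) ψ =
      (mu (fun x => (χ : G → ℂ) (f x)) ψ : ℂ) :=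
    irr_mu_spec (isCharacter_comp f (isIrr_isCharacter χ.2)) hψ
  rw [classInner_smul_left, h3]

theorem character_int {G : Type u} [Group G] [Fintype G] {π : G → ℂ} (h : IsCharacter G π) :
    ∀ χ, IsIrrCharacter G χ → ∃ n : ℤ, classInner π χ = n := fun χ hχ => by
  obtain ⟨n, hn⟩ := classInner_isNat h (isIrr_isCharacter hχ)
  exact ⟨n, by rw [hn]; push_cast; rfl⟩

/-- A real linear character fixing an irreducible character that lies with odd multiplicity over an
invariant character of `N` is trivial. -/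
theorem twist_trivial {I : Type u} [Group I] [Fintype I] (N : Subgroup I) [hN : N.Normal]
    [Fintype N] {φ : N → ℂ} (hφ : IsIrrCharacter N φ) (hinv : ∀ g, conjFn N φ g = φ)
    {χ : I → ℂ} (hχ : IsIrrCharacter I χ) (hodd : Odd (mu (fun n : N => χ n) φ))
    (f : I →* ℂˣ) (hf2 : ∀ g, f g * f g = 1) (hfN : ∀ n ∈ N, f n = 1)
    (h : ∀ g, (f g : ℂ) * χ g = χ g) : f = 1 := by
  classical
  by_contra hf1
  obtain ⟨g₀, hg₀⟩ : ∃ g, f g ≠ 1 := by
    by_contra hcon
    push Not at hcon
    exact hf1 (MonoidHom.ext hcon)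
  set K := f.ker with hK
  have hNK : N ≤ K := fun n hn => MonoidHom.mem_ker.2 (hfN n hn)
  haveI := @Fintype.ofFinite (IrrCharacter K) finite_irr
  haveI : Fintype K := Fintype.ofFinite K
  -- the index of `K` is even
  have hKeven : 2 ∣ K.index := by
    have h1 : orderOf (f g₀) = 2 := orderOf_eq_prime (by rw [sq, hf2]) hg₀
    have h2 : K.index = Nat.card f.range := by
      rw [hK]
      exact Subgroup.index_ker f
    rw [h2, ← h1]
    exact Subgroup.orderOf_dvd_natCard f.range (MonoidHom.mem_range.2 ⟨g₀, rfl⟩)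
  have hvan : ∀ g, g ∉ K → χ g = 0 := by
    intro g hg
    have h1 : f g ≠ 1 := fun h => hg (MonoidHom.mem_ker.2 h)
    have h2 : ((f g : ℂ) - 1) * χ g = 0 := by linear_combination h g
    refine (mul_eq_zero.1 h2).resolve_left fun h3 => h1 (Units.ext ?_)
    rw [sub_eq_zero.1 h3, Units.val_one]
  have hc : IsCharacter K (fun k : K => χ k) := isCharacter_comp K.subtype (isIrr_isCharacter hχ)
  -- the norm of the restriction
  have hnorm : classInner (fun k : K => χ k) (fun k : K => χ k) = (K.index : ℂ) := by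
    have h1 := classInner_irr_self hχ
    rw [classInner_def] at h1 ⊢
    have h2 : ∑ g : I, χ g * conj (χ g) = ∑ k : K, χ k * conj (χ k) :=
      Cfsg.Agent.OddOrderCharacters.Clifford.sum_eq_sum_subgroup K _ fun g hg => by
        rw [hvan g hg, zero_mul]
    rw [h2] at h1
    have h3 : (Nat.card I : ℂ) = (K.index : ℂ) * (Nat.card K : ℂ) := by
      exact_mod_cast (Subgroup.index_mul_card K).symm
    have h4 : (Nat.card K : ℂ) ≠ 0 := by exact_mod_cast Nat.card_pos.ne'
    have h5 : (Nat.card I : ℂ) ≠ 0 := by exact_mod_cast Nat.card_pos.ne'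
    have h6 : ∑ k : K, χ k * conj (χ k) = (Nat.card I : ℂ) := by
      have h7 : (Nat.card I : ℂ) * ((Nat.card I : ℂ)⁻¹ * ∑ k : K, χ k * conj (χ k)) =
          (Nat.card I : ℂ) * 1 := by rw [h1]
      rw [← mul_assoc, mul_inv_cancel₀ h5, one_mul, mul_one] at h7
      exact h7
    rw [h6, h3]
    field_simp
  have hsq : (K.index : ℤ) = ∑ ψ : IrrCharacter K, mu (fun k : K => χ k) ψ *
      mu (fun k : K => χ k) ψ := by
    have h1 := classInner_eq_sum (isCharacter_isClassFunction hc) (isCharacter_isClassFunction hc)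
    rw [hnorm] at h1
    have h2 : ((K.index : ℤ) : ℂ) = ((∑ ψ : IrrCharacter K, mu (fun k : K => χ k) ψ *
      mu (fun k : K => χ k) ψ : ℤ) : ℂ) := by
      push_cast
      rw [h1]
      refine Finset.sum_congr rfl fun ψ _ => ?_
      rw [irr_mu_spec hc ψ.2]
      simp
    exact_mod_cast h2
  -- the multiplicity over `φ`
  let ι : N →* K := Subgroup.inclusion hNK
  have hmul : mu (fun n : N => χ n) φ =
      ∑ ψ : IrrCharacter K, mu (fun k : K => χ k) ψ * mu (fun n : N => (ψ : K → ℂ) (ι n)) φ := by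
    apply mu_eq
    exact classInner_comp_of_int (isCharacter_isClassFunction hc) (character_int hc) ι hφ
  -- all the multiplicities `[ψ_N, φ]` coincide
  obtain ⟨k, hk⟩ : ∃ k : ℤ, ∀ ψ : IrrCharacter K, mu (fun k : K => χ k) ψ ≠ 0 →
      mu (fun n : N => (ψ : K → ℂ) (ι n)) φ = k := by
    by_cases hex : ∃ α : IrrCharacter K, mu (fun k : K => χ k) α ≠ 0
    · obtain ⟨α, hα⟩ := hex
      refine ⟨mu (fun n : N => (α : K → ℂ) (ι n)) φ, fun ψ hψ => ?_⟩
      have h1 : classInner (fun k : K => χ k) (α : K → ℂ) ≠ 0 := by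
        rw [irr_mu_spec hc α.2]
        exact_mod_cast hα
      have h2 : classInner (fun k : K => χ k) (ψ : K → ℂ) ≠ 0 := by
        rw [irr_mu_spec hc ψ.2]
        exact_mod_cast hψ
      obtain ⟨g, hg⟩ := Cfsg.Agent.Characters.Clifford.exists_conj_of_constituents K hχ α.2 ψ.2
        h1 h2
      have h3 : (fun n : N => (ψ : K → ℂ) (ι n)) =
          (fun n : N => (α : K → ℂ) (ι n)) ∘ (MulAut.conjNormal g : MulAut N) := by
        funext n
        rw [hg]
        show (α : K → ℂ) _ = (α : K → ℂ) _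
        congr 1
      have h4 : φ = φ ∘ (MulAut.conjNormal g : MulAut N) := by
        conv_lhs => rw [← hinv g]
        rfl
      have h5 : classInner (fun n : N => (ψ : K → ℂ) (ι n)) φ =
          classInner (fun n : N => (α : K → ℂ) (ι n)) φ := by
        conv_lhs => rw [h3, h4]
        exact Cfsg.Agent.Characters.Clifford.classInner_comp_mulEquiv _ _ _
      rw [mu, mu, h5]
    · exact ⟨0, fun ψ hψ => absurd ⟨ψ, hψ⟩ hex⟩
  have hmul2 : mu (fun n : N => χ n) φ = (∑ ψ : IrrCharacter K, mu (fun k : K => χ k) ψ) * k := by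
    rw [hmul, Finset.sum_mul]
    refine Finset.sum_congr rfl fun ψ _ => ?_
    by_cases h0 : mu (fun k : K => χ k) ψ = 0
    · rw [h0, zero_mul, zero_mul]
    · rw [hk ψ h0]
  have hev : Even (∑ ψ : IrrCharacter K, mu (fun k : K => χ k) ψ) := by
    have h1 : Even (∑ ψ : IrrCharacter K, mu (fun k : K => χ k) ψ *
        mu (fun k : K => χ k) ψ + ∑ ψ : IrrCharacter K, mu (fun k : K => χ k) ψ) := by
      rw [← Finset.sum_add_distrib]
      refine Finset.even_sum _ fun ψ _ => ?_
      have : mu (fun k : K => χ k) ψ * mu (fun k : K => χ k) ψ + mu (fun k : K => χ k) ψ =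
        mu (fun k : K => χ k) ψ * (mu (fun k : K => χ k) ψ + 1) := by ring
      rw [this]
      exact Int.even_mul_succ_self _
    rw [← hsq] at h1
    have h2 : Even (K.index : ℤ) := by
      exact_mod_cast even_iff_two_dvd.2 hKeven
    exact (Int.even_add.1 h1).1 h2
  rw [hmul2] at hodd
  exact (Int.not_even_iff_odd.2 hodd) (hev.mul_right k)

/-- **Existence of a character of indicator one over `φ`.** -/
theorem exists_plus_over {I : Type u} [Group I] [Fintype I] {N : Type v} [Group N] [Fintype N]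
    (ι : N →* I) {φ : N → ℂ} (hφ : IsIrrCharacter N φ) (hφr : ind φ ≠ 0) {π : I → ℂ}
    (hπ : RChar π) (hodd : Odd (mu (fun n : N => π (ι n)) φ)) :
    ∃ χ : I → ℂ, IsIrrCharacter I χ ∧ ind χ = 1 ∧ Odd (mu (fun n : N => χ (ι n)) φ) ∧
      Odd (mu π χ) := by
  classical
  haveI := @Fintype.ofFinite (IrrCharacter I) finite_irr
  by_contra hcon
  push Not at hcon
  have h1 : mu (fun n : N => π (ι n)) φ =
      ∑ χ : IrrCharacter I, mu π χ * mu (fun n : N => (χ : I → ℂ) (ι n)) φ :=
    mu_eq (hπ.classInner_comp ι hφ)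
  have hφr' : ∀ x, conj (φ x) = φ x := fun x =>
    Complex.conj_eq_iff_im.2 (real_of_ind_ne hφ hφr x)
  have h2 : ((mu (fun n : N => π (ι n)) φ : ℤ) : ZMod 2) = 0 := by
    rw [h1, Int.cast_sum, sum_eq_sum_real zmod_two_add_self _ (fun χ => by
      have e1 : mu π (cj χ) = mu π χ := mu_conj_right hπ.real
      have e2 : mu (fun n : N => (cj χ : I → ℂ) (ι n)) φ =
          mu (fun n : N => (χ : I → ℂ) (ι n)) φ :=
        mu_conj_left (φ := fun n : N => (χ : I → ℂ) (ι n)) hφr'
      rw [e1, e2])]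
    refine finsum_mem_eq_zero_of_forall_eq_zero fun χ hχ => ?_
    refine (ZMod.intCast_zmod_eq_zero_iff_dvd _ 2).2 (even_iff_two_dvd.1 ?_)
    rcases ind_cases χ.2 with h | h | h
    · exact absurd h hχ
    · by_cases h3 : Odd (mu (fun n : N => (χ : I → ℂ) (ι n)) φ)
      · have h4 := hcon χ χ.2 h h3
        exact (Int.not_odd_iff_even.1 h4).mul_right _
      · exact (Int.not_odd_iff_even.1 h3).mul_left _
    · exact (even_mu (hπ.even χ χ.2 h)).mul_right _
  exact (Int.not_even_iff_odd.2 hodd) (even_iff_two_dvd.2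
    ((ZMod.intCast_zmod_eq_zero_iff_dvd _ 2).1 h2))

/-- The multiplicity over an invariant character of a normal subgroup in an induced character. -/
theorem classInner_indFun_res {I : Type u} [Group I] [Fintype I] (N L : Subgroup I)
    [hN : N.Normal] [Fintype N] (hNL : N ≤ L) {φ : N → ℂ} (hinv : ∀ g, conjFn N φ g = φ)
    (π : L → ℂ) :
    classInner (fun n : N => indFun L π (n : I)) φ =
      (L.index : ℂ) * classInner (fun n : N => π ⟨n, hNL n.2⟩) φ := by
  classical
  have h1 : (fun n : N => indFun L π (n : I)) =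
      (Nat.card L : ℂ)⁻¹ • ∑ x : I, ((fun n : N => π ⟨n, hNL n.2⟩) ∘
        (MulAut.conjNormal x⁻¹ : MulAut N)) := by
    funext n
    rw [indFun_apply, Pi.smul_apply, Finset.sum_apply, smul_eq_mul]
    congr 1
    refine Finset.sum_congr rfl fun x _ => ?_
    have h2 : x⁻¹ * (n : I) * x ∈ N := by
      have := hN.conj_mem n n.2 x⁻¹
      simpa using this
    rw [extendByZero_of_mem L π (hNL h2)]
    show π _ = π _
    congr 1
    apply Subtype.ext
    show x⁻¹ * (n : I) * x = x⁻¹ * (n : I) * (x⁻¹)⁻¹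
    rw [inv_inv]
  rw [h1, classInner_smul_left, classInner_sum_left]
  have h3 : ∀ x : I, classInner ((fun n : N => π ⟨n, hNL n.2⟩) ∘
      (MulAut.conjNormal x⁻¹ : MulAut N)) φ = classInner (fun n : N => π ⟨n, hNL n.2⟩) φ := by
    intro x
    have h4 : φ = φ ∘ (MulAut.conjNormal x⁻¹ : MulAut N) := by
      conv_lhs => rw [← hinv x⁻¹]
      rfl
    conv_lhs => rw [h4]
    exact Cfsg.Agent.Characters.Clifford.classInner_comp_mulEquiv _ _ _
  rw [Finset.sum_congr rfl fun x _ => h3 x, Finset.sum_const, Finset.card_univ, nsmul_eq_mul,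
    ← mul_assoc]
  congr 1
  have h5 : (Nat.card L : ℂ) ≠ 0 := by exact_mod_cast Nat.card_pos.ne'
  have h6 : (Fintype.card I : ℂ) = (L.index : ℂ) * (Nat.card L : ℂ) := by
    rw [← Nat.card_eq_fintype_card]
    exact_mod_cast (Subgroup.index_mul_card L).symm
  rw [h6]
  field_simp

end Cfsg.Agent.H694
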