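import Cfsg.Agent.H694.P1Crit

/-!
# `P1Data` from a characteristic set of elements consisting of an odd number of classes
-/

set_option autoImplicit false
set_option linter.style.haveILetI false

namespace Cfsg.Agent.H694

open Subgroup

/-- **A characteristic set of elements which is the union of an odd number of classes.** -/
theorem P1Data.of_classes {S : Type*} [Group S] [Finite S] (Y : Set S)
    (hY : ∀ α : MulAut S, ∀ y ∈ Y, α y ∈ Y)
    (hodd : Odd (Nat.card {c : ConjClasses S // ∃ y ∈ Y, c = ConjClasses.mk y}))
    (hL : ∀ y ∈ Y, ∃ K : Subgroup S, Loc y K) : P1Data S := by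
  classical
  have := finite_mulAut S
  have hfc : Finite (ConjClasses S) := inferInstance
  intro Q _
  have hmk : ∀ (α β : MulAut S) (c : ConjClasses S),
      ConjClasses.map (α * β).toMonoidHom c =
        ConjClasses.map α.toMonoidHom (ConjClasses.map β.toMonoidHom c) := by
    intro α β c
    obtain ⟨y, rfl⟩ := ConjClasses.mk_surjective c
    rfl
  let X := {c : ConjClasses S // ∃ y ∈ Y, c = ConjClasses.mk y}
  letI act : MulAction Q X :=
    { smul := fun α c => ⟨ConjClasses.map (α : MulAut S).toMonoidHom c.1, by
        obtain ⟨y, hy, hc⟩ := c.2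
        exact ⟨(α : MulAut S) y, hY _ y hy, by rw [hc]; rfl⟩⟩
      one_smul := fun c => Subtype.ext (by
        obtain ⟨y, hy⟩ := ConjClasses.mk_surjective c.1
        show ConjClasses.map (1 : MulAut S).toMonoidHom c.1 = c.1
        rw [← hy]
        rfl)
      mul_smul := fun α β c => Subtype.ext (hmk α β c.1) }
  have hex : ∃ x : X, Odd (Nat.card (MulAction.orbit Q x)) := by
    by_contra! hcon
    rw [← Nat.not_even_iff_odd] at hodd
    apply hodd
    have h1 : Nat.card X = Nat.card (Σ ω : MulAction.orbitRel.Quotient Q X,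
        MulAction.orbit Q (Quotient.out ω)) := Nat.card_congr (MulAction.selfEquivSigmaOrbits Q X)
    show Even (Nat.card X)
    have := Fintype.ofFinite (MulAction.orbitRel.Quotient Q X)
    have : ∀ ω : MulAction.orbitRel.Quotient Q X, Fintype (MulAction.orbit Q (Quotient.out ω)) :=
      fun ω => Fintype.ofFinite _
    rw [h1, Nat.card_eq_fintype_card, Fintype.card_sigma]
    refine Finset.even_sum _ fun ω _ => ?_
    rw [← Nat.card_eq_fintype_card, ← Nat.not_odd_iff_even]
    exact hcon _
  obtain ⟨x, hx⟩ := hex
  obtain ⟨y, hy, hxy⟩ := x.2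
  obtain ⟨K, hK⟩ := hL y hy
  refine ⟨y, K, hK, Or.inl ?_⟩
  have h1 : (MulAction.stabilizer Q x) = (stab y).subgroupOf Q := by
    ext α
    rw [MulAction.mem_stabilizer_iff, mem_subgroupOf, mem_stab]
    rw [← ConjClasses.mk_eq_mk_iff_isConj]
    constructor
    · intro h
      have h2 := congrArg Subtype.val h
      have h3 : ConjClasses.map (α : MulAut S).toMonoidHom x.1 = x.1 := h2
      rw [hxy] at h3
      exact h3.symm
    · intro h
      apply Subtype.ext
      show ConjClasses.map (α : MulAut S).toMonoidHom x.1 = x.1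
      rw [hxy]
      exact h.symm
  have h2 : Nat.card (MulAction.orbit Q x) = (MulAction.stabilizer Q x).index := by
    rw [Nat.card_coe_set_eq]
    exact (MulAction.index_stabilizer Q x).symm
  rw [relIndex, ← h1, ← h2]
  exact hx

end Cfsg.Agent.H694
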