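import Cfsg.Agent.H694.RDih
import Cfsg.Agent.H694.P1Grp

/-!
# The characters attached to a real element of odd order
-/

set_option autoImplicit false
set_option linter.unusedSectionVars false
set_option linter.style.haveILetI false

namespace Cfsg.Agent.H694

open Cfsg Representation
open scoped ComplexConjugate commutatorElement
open Cfsg.Agent.Characters.Core
open Cfsg.Agent.H705.StrongLin (ind ind_eq real_of_ind)

universe u v

theorem sum_hom_zero {E : Type u} [Group E] [Fintype E] (F : E →* ℂˣ) {a : E} (ha : F a ≠ 1) :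
    ∑ e : E, (F e : ℂ) = 0 := by
  have h4 : ∑ e : E, (F e : ℂ) = (F a : ℂ) * ∑ e : E, (F e : ℂ) := by
    rw [Finset.mul_sum]
    refine (Fintype.sum_equiv (Equiv.mulLeft a) _ _ fun e => ?_).symm
    show (F a : ℂ) * (F e : ℂ) = ((F (a * e) : ℂˣ) : ℂ)
    rw [map_mul, Units.val_mul]
  have h5 : ((F a : ℂ) - 1) * ∑ e : E, (F e : ℂ) = 0 := by linear_combination -h4
  refine (mul_eq_zero.1 h5).resolve_left fun h6 => ha (Units.ext ?_)
  rw [sub_eq_zero.1 h6, Units.val_one]

/-- geometric sums of roots of unity -/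
theorem geom_root {w : ℂ} {m : ℕ} (hw : w ^ m = 1) [Decidable (w = 1)] :
    ∑ j ∈ Finset.range m, w ^ j = if w = 1 then (m : ℂ) else 0 := by
  split_ifs with h
  · rw [h]
    simp
  · have h1 := geom_sum_eq h m
    rw [h1, hw, sub_self, zero_div]

/-- **The core computation.** -/
theorem LocJ.core {J : Type u} [Group J] [Fintype J] {N : Subgroup J} [hNn : N.Normal]
    [Fintype N] {y : J} {K : Subgroup J} (L : LocJ N y K) :
    ∃ (E : Subgroup J) (m : ℕ) (ρ : ℕ → E → ℂ) (a : ℕ → ℂ) (c : ℕ),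
      E ≤ Cst y ∧ Odd (E.relIndex (Cst y)) ∧ (∀ j, ∀ [Fintype E], RChar (ρ j)) ∧ (∀ j, ρ j 1 = 2) ∧
      (∀ j, IsIntegral ℤ (a j)) ∧ Odd c ∧
      ∀ [Fintype (E.subgroupOf N)],
        ∑ j ∈ Finset.range m, ∑ k ∈ Finset.range m, a j * a k *
          classInner (fun x : E.subgroupOf N => indFun E (ρ j) ((x : N) : J))
            (fun x : E.subgroupOf N => ρ k ⟨((x : N) : J), Subgroup.mem_subgroupOf.1 x.2⟩) = c := by
  classical
  obtain ⟨E, Q, hEA, hEodd, hyE, hKQ, hQE, hQc, hQcop, hdec, hQN, t, htE, htN, ht⟩ := L.exists_E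
  set m := orderOf y with hm
  have hm0 : 0 < m := orderOf_pos y
  have hKE : K ≤ E := hKQ.trans hQE
  have hyy : y ≠ y⁻¹ := by
    intro h
    have h1 : y ^ 2 = 1 := by
      rw [sq]
      nth_rewrite 1 [h]
      exact inv_mul_cancel y
    have h2 := orderOf_dvd_of_pow_eq_one h1
    have h3 : m = 1 := by
      rcases (Nat.dvd_prime Nat.prime_two).1 h2 with h3 | h3
      · exact h3
      · have h4 : Odd m := L.odd
        have h5 : m = 2 := h3
        rw [h5] at h4
        exact absurd h4 (by decide)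
    exact L.ne (orderOf_eq_one_iff.1 h3)
  -- the power map
  obtain ⟨d, hd1, hd0⟩ := Nat.chineseRemainder hQcop.symm 1 0
  have hyd : ∀ i : ℤ, (y ^ i) ^ d = y ^ i := by
    intro i
    have h1 : y ^ d = y := by
      conv_rhs => rw [← pow_one y]
      rw [pow_eq_pow_iff_modEq]
      exact hd1
    rw [← zpow_natCast, ← zpow_mul, mul_comm, zpow_mul, zpow_natCast, h1]
  have hQd : ∀ q ∈ Q, q ^ d = 1 := by
    intro q hq
    have h1 : orderOf (⟨q, hq⟩ : Q) ∣ Nat.card Q := orderOf_dvd_natCard _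
    rw [Subgroup.orderOf_mk] at h1
    exact orderOf_dvd_iff_pow_eq_one.1 (h1.trans ((Nat.modEq_zero_iff_dvd).1 hd0))
  have hQy : ∀ q ∈ Q, ∀ i : ℤ, (q * y ^ i) ^ d = y ^ i := by
    intro q hq i
    have h1 : Commute q (y ^ i) := Commute.zpow_right (hQc q hq) i
    rw [h1.mul_pow, hQd q hq, hyd, one_mul]
  have hdec' : ∀ e ∈ E, e * y = y * e → ∃ q ∈ Q, ∃ i : ℤ, e = q * y ^ i := by
    intro e he hc
    obtain ⟨q, hq, i, hi⟩ := hdec e he hc
    exact ⟨q, hq, i, by rw [hi, zpow_natCast]⟩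
  -- the primitive root of unity
  obtain ⟨ζ, hζ⟩ : ∃ ζ : ℂˣ, orderOf ζ = m := by
    have h1 := Complex.isPrimitiveRoot_exp m hm0.ne'
    refine ⟨(h1.isUnit hm0.ne').unit, ?_⟩
    rw [← orderOf_units, IsUnit.unit_spec]
    exact h1.eq_orderOf.symm
  let Z := Subgroup.zpowers y
  have hgen : ∀ x : Z, x ∈ Subgroup.zpowers (⟨y, Subgroup.mem_zpowers y⟩ : Z) := by
    rintro ⟨x, i, rfl⟩
    exact ⟨i, Subtype.ext (by simp)⟩
  let φ₀ : Z →* ℂˣ := monoidHomOfForallMemZpowers hgen (g' := ζ) (by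
    rw [hζ, Subgroup.orderOf_mk])
  have hφ₀ : ∀ (i : ℤ) (h : y ^ i ∈ Z), φ₀ ⟨y ^ i, h⟩ = ζ ^ i := by
    intro i h
    have h1 : (⟨y ^ i, h⟩ : Z) = (⟨y, Subgroup.mem_zpowers y⟩ : Z) ^ i := Subtype.ext (by simp)
    rw [h1, map_zpow]
    congr 1
    exact monoidHomOfForallMemZpowers_apply_gen hgen _
  have hζy : ∀ i j : ℤ, ζ ^ i = ζ ^ j ↔ y ^ i = y ^ j := by
    intro i j
    rw [zpow_eq_zpow_iff_modEq, zpow_eq_zpow_iff_modEq, hζ]
  -- the subgroup of index two
  let E₀ : Subgroup E := (Subgroup.centralizer ({y} : Set J)).subgroupOf E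
  have hE₀ : ∀ e : E, e ∈ E₀ ↔ (e : J) * y = y * e := fun e => by
    rw [Subgroup.mem_subgroupOf, Subgroup.mem_centralizer_singleton_iff]
  have hflip : ∀ e : E, e ∉ E₀ → (e : J) * y * (e : J)⁻¹ = y⁻¹ := by
    intro e he
    rcases hEA e.2 with h | h
    · exact (he ((hE₀ e).2 (by nth_rewrite 2 [← h]; group))).elim
    · exact h
  have hEdec : ∀ e : E₀, ∃ i : ℤ, ((e : E) : J) ^ d = y ^ i ∧ ∃ q ∈ Q, ((e : E) : J) = q * y ^ i := by
    intro e
    obtain ⟨q, hq, i, hi⟩ := hdec' (e : E) (e : E).2 ((hE₀ _).1 e.2)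
    exact ⟨i, by rw [hi, hQy q hq], q, hq, hi⟩
  have hmul : ∀ e e' : E₀, (((e : E) : J) * ((e' : E) : J)) ^ d = ((e : E) : J) ^ d * ((e' : E) : J) ^ d := by
    intro e e'
    obtain ⟨i, hi, q, hq, he⟩ := hEdec e
    obtain ⟨i', hi', q', hq', he'⟩ := hEdec e'
    rw [hi, hi', he, he']
    have h1 : Commute q' (y ^ i) := Commute.zpow_right (hQc q' hq') i
    have h2 : q * y ^ i * (q' * y ^ i') = q * q' * y ^ (i + i') := by
      rw [zpow_add]
      calc q * y ^ i * (q' * y ^ i') = q * (y ^ i * q') * y ^ i' := by group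
        _ = q * (q' * y ^ i) * y ^ i' := by rw [h1.eq]
        _ = _ := by group
    rw [h2, hQy _ (Q.mul_mem hq hq'), zpow_add]
  let f : E₀ →* ℂˣ :=
    { toFun := fun e => φ₀ ⟨((e : E) : J) ^ d, by
        obtain ⟨i, hi, -⟩ := hEdec e
        rw [hi]
        exact ⟨i, rfl⟩⟩
      map_one' := by
        have h1 : (⟨((1 : E₀) : E) ^ d, by
          obtain ⟨i, hi, -⟩ := hEdec 1
          rw [hi]
          exact ⟨i, rfl⟩⟩ : Z) = 1 := Subtype.ext (by simp)
        rw [h1, map_one]
      map_mul' := fun e e' => by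
        rw [← map_mul]
        congr 1
        exact Subtype.ext (hmul e e') }
  have hf : ∀ (e : E₀) (i : ℤ), ((e : E) : J) ^ d = y ^ i → f e = ζ ^ i := by
    intro e i hi
    show φ₀ ⟨((e : E) : J) ^ d, _⟩ = ζ ^ i
    have h1 : (⟨((e : E) : J) ^ d, by rw [hi]; exact ⟨i, rfl⟩⟩ : Z) = ⟨y ^ i, ⟨i, rfl⟩⟩ :=
      Subtype.ext hi
    rw [h1]
    exact hφ₀ i _
  have hindex : E₀.index = 2 := by
    rw [Subgroup.index_eq_two_iff]
    refine ⟨⟨t, htE⟩, fun b => ?_⟩
    by_cases hb : b ∈ E₀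
    · refine Or.inr ⟨hb, fun h => ?_⟩
      have h1 := E₀.mul_mem (E₀.inv_mem hb) h
      have h2 : b⁻¹ * (b * ⟨t, htE⟩) = ⟨t, htE⟩ := inv_mul_cancel_left _ _
      rw [h2, hE₀] at h1
      have h3 : t * y = y * t := h1
      apply hyy
      rw [← ht, h3, mul_inv_cancel_right]
    · refine Or.inl ⟨?_, hb⟩
      have h1 := hflip b hb
      rw [hE₀]
      show (b : J) * t * y = y * (b * t)
      have h2 : t * y = y⁻¹ * t := by rw [← ht, inv_mul_cancel_right]
      have h3 : (b : J) * y⁻¹ = y * b := by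
        have h4 : (b : J) * y = y⁻¹ * b := by rw [← h1, inv_mul_cancel_right]
        calc (b : J) * y⁻¹ = y * (y⁻¹ * b) * y⁻¹ := by group
          _ = y * (b * y) * y⁻¹ := by rw [h4]
          _ = y * b := by group
      calc (b : J) * t * y = b * (t * y) := by group
        _ = b * (y⁻¹ * t) := by rw [h2]
        _ = b * y⁻¹ * t := by group
        _ = y * b * t := by rw [h3]
        _ = _ := by group
  haveI hE₀n : E₀.Normal := Subgroup.normal_of_index_eq_two hindex
  have hfconj : ∀ t ∉ E₀, ∀ (e : E₀) (h : t * e * t⁻¹ ∈ E₀), f ⟨t * e * t⁻¹, h⟩ = (f e)⁻¹ := by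
    intro t ht' e h
    obtain ⟨i, hi, -⟩ := hEdec e
    have h1 : (((⟨t * e * t⁻¹, h⟩ : E₀) : E) : J) ^ d = y ^ (-i) := by
      show ((t : J) * ((e : E) : J) * (t : J)⁻¹) ^ d = y ^ (-i)
      rw [conj_pow, hi, ← conj_zpow, hflip t ht', inv_zpow, zpow_neg]
    rw [hf _ _ h1, hf _ _ hi, zpow_neg]
  -- the characters
  let ρ : ℕ → E → ℂ := fun j e => if h : e ∈ E₀ then ((f ⟨e, h⟩ ^ j : ℂˣ) : ℂ) + ((f ⟨e, h⟩ ^ j : ℂˣ) : ℂ)⁻¹ else 0
  have hρm : ∀ (j : ℕ) (e : E) (h : e ∈ E₀), ρ j e =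
      ((f ⟨e, h⟩ ^ j : ℂˣ) : ℂ) + ((f ⟨e, h⟩ ^ j : ℂˣ) : ℂ)⁻¹ := fun j e h => dif_pos h
  have hρn : ∀ (j : ℕ) (e : E), e ∉ E₀ → ρ j e = 0 := fun j e h => dif_neg h
  have hfm : ∀ e : E₀, f e ^ m = 1 := by
    intro e
    obtain ⟨i, hi, -⟩ := hEdec e
    rw [hf _ _ hi, ← zpow_natCast, ← zpow_mul, mul_comm, zpow_mul, zpow_natCast, ← hζ,
      pow_orderOf_eq_one, one_zpow]
  have hρR : ∀ j, ∀ [Fintype E], RChar (ρ j) := by
    intro j _
    refine rchar_dih E₀ hindex (f ^ j) (fun t ht' e h => ?_) (m := m) L.odd (fun e => ?_) (ρ j)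
      (fun e => ?_) (fun e he => hρn j e he)
    · show f _ ^ j = (f e ^ j)⁻¹
      rw [hfconj t ht' e h, inv_pow]
    · show (f e ^ j) ^ m = 1
      rw [← pow_mul, mul_comm, pow_mul, hfm, one_pow]
    · exact hρm j e e.2
  have hρ1 : ∀ j, ρ j 1 = 2 := by
    intro j
    rw [hρm j 1 E₀.one_mem]
    have h1 : (⟨1, E₀.one_mem⟩ : E₀) = 1 := rfl
    rw [h1, map_one, one_pow, Units.val_one]
    norm_num
  -- the coefficients
  let a : ℕ → ℂ := fun j => ((ζ ^ j : ℂˣ) : ℂ)⁻¹
  have haI : ∀ j, IsIntegral ℤ (a j) := by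
    intro j
    refine IsIntegral.of_pow hm0 ?_
    have h1 : (a j) ^ m = 1 := by
      show (((ζ ^ j : ℂˣ) : ℂ)⁻¹) ^ m = 1
      rw [inv_pow, ← Units.val_pow_eq_pow_val, ← pow_mul, mul_comm, pow_mul, ← hζ,
        pow_orderOf_eq_one, one_pow, Units.val_one, inv_one]
    rw [h1]
    exact isIntegral_one
  -- the sum of the characters
  have hδ : ∀ e : E, ∑ j ∈ Finset.range m, a j * ρ j e =
      if (e : J) ^ d = y ∨ (e : J) ^ d = y⁻¹ then (m : ℂ) else 0 := by
    intro e
    by_cases he : e ∈ E₀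
    · obtain ⟨i, hi, -⟩ := hEdec ⟨e, he⟩
      have hi' : (e : J) ^ d = y ^ i := hi
      have h1 : ∀ j ∈ Finset.range m, a j * ρ j e =
          ((ζ ^ (i - 1) : ℂˣ) : ℂ) ^ j + ((ζ ^ (-i - 1) : ℂˣ) : ℂ) ^ j := by
        intro j _
        rw [hρm j e he, hf _ _ hi]
        show ((ζ ^ j : ℂˣ) : ℂ)⁻¹ * _ = _
        rw [mul_add, ← Units.val_inv_eq_inv_val, ← Units.val_inv_eq_inv_val, ← Units.val_mul,
          ← Units.val_mul, ← Units.val_pow_eq_pow_val, ← Units.val_pow_eq_pow_val]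
        congr 2
        · rw [← zpow_natCast, ← zpow_natCast, ← zpow_natCast, ← zpow_mul, ← zpow_mul, ← zpow_neg,
            ← zpow_add]
          congr 1
          ring
        · rw [← zpow_natCast, ← zpow_natCast, ← zpow_natCast, ← zpow_mul, ← zpow_mul, ← zpow_neg,
            ← zpow_neg, ← zpow_add]
          congr 1
          ring
      have hw : ∀ l : ℤ, ((ζ ^ l : ℂˣ) : ℂ) ^ m = 1 := by
        intro l
        rw [← Units.val_pow_eq_pow_val, ← zpow_natCast, ← zpow_mul, mul_comm, zpow_mul, zpow_natCast,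
          ← hζ, pow_orderOf_eq_one, one_zpow, Units.val_one]
      rw [Finset.sum_congr rfl h1, Finset.sum_add_distrib, geom_root (hw _), geom_root (hw _)]
      have e1 : ((ζ ^ (i - 1) : ℂˣ) : ℂ) = 1 ↔ y ^ i = y := by
        rw [Units.val_eq_one, zpow_sub, zpow_one, mul_inv_eq_one]
        have := hζy i 1
        rw [zpow_one, zpow_one] at this
        exact this
      have e2 : ((ζ ^ (-i - 1) : ℂˣ) : ℂ) = 1 ↔ y ^ i = y⁻¹ := by
        rw [Units.val_eq_one, zpow_sub, zpow_one, mul_inv_eq_one]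
        have := hζy (-i) 1
        rw [zpow_one, zpow_one] at this
        rw [this, zpow_neg, inv_eq_iff_eq_inv]
      rw [hi']
      simp only [e1, e2]
      by_cases h3 : y ^ i = y
      · have h4 : y ^ i ≠ y⁻¹ := fun h => hyy (h3.symm.trans h)
        rw [if_pos h3, if_neg h4, if_pos (Or.inl h3), add_zero]
      · by_cases h4 : y ^ i = y⁻¹
        · rw [if_neg h3, if_pos h4, if_pos (Or.inr h4), zero_add]
        · rw [if_neg h3, if_neg h4, if_neg (fun h => h.elim h3 h4), add_zero]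
    · have h1 : ¬ ((e : J) ^ d = y ∨ (e : J) ^ d = y⁻¹) := by
        intro h
        apply he
        rw [hE₀]
        rcases h with h | h
        · rw [← h]
          exact (Commute.self_pow (e : J) d).eq
        · have h2 : y = ((e : J) ^ d)⁻¹ := by rw [h, inv_inv]
          rw [h2]
          exact ((Commute.self_pow (e : J) d).inv_right).eq
      rw [if_neg h1]
      refine Finset.sum_eq_zero fun j _ => ?_
      rw [hρn j e he, mul_zero]
  -- the value of the induced function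
  set c : ℕ := m * E.relIndex (Cst y) with hc
  have hcodd : Odd c := L.odd.mul hEodd
  have hpowconj : ∀ x g : J, (x⁻¹ * g * x) ^ d = x⁻¹ * g ^ d * x := by
    intro x g
    have := conj_pow (a := x⁻¹) (b := g) (i := d)
    rwa [inv_inv] at this
  have hΔ : ∀ e : J, e ∈ E → e ∈ N → (e ^ d = y ∨ e ^ d = y⁻¹) →
      ∑ j ∈ Finset.range m, a j * indFun E (ρ j) e = c := by
    intro e heE heN hed
    have h1 : ∑ j ∈ Finset.range m, a j * indFun E (ρ j) e =
        (Nat.card E : ℂ)⁻¹ * ∑ x : J, ∑ j ∈ Finset.range m, a j * extendByZero E (ρ j) (x⁻¹ * e * x) := by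
      rw [Finset.sum_comm, Finset.mul_sum]
      refine Finset.sum_congr rfl fun j _ => ?_
      rw [indFun_apply, ← Finset.mul_sum]
      ring
    rw [h1]
    have h2 : ∀ x : J, ∑ j ∈ Finset.range m, a j * extendByZero E (ρ j) (x⁻¹ * e * x) =
        if x ∈ Cst y then (m : ℂ) else 0 := by
      intro x
      split_ifs with hx
      · -- `e = k * y ^ i`
        have hcomm : e * y = y * e := by
          rcases hed with h | h
          · rw [← h]
            exact (Commute.self_pow e d).eq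
          · have h3 : y = (e ^ d)⁻¹ := by rw [h, inv_inv]
            rw [h3]
            exact ((Commute.self_pow e d).inv_right).eq
        obtain ⟨q, hq, i, hi⟩ := hdec' e heE hcomm
        have hqN : q ∈ N := by
          have h3 : q = e * (y ^ i)⁻¹ := by rw [hi, mul_inv_cancel_right]
          rw [h3]
          exact N.mul_mem heN (N.inv_mem (N.zpow_mem L.mem i))
        have hqK := hQN q hq hqN
        have hx' : x⁻¹ ∈ Cst y := (Cst y).inv_mem hx
        have h3 : x⁻¹ * e * x = (x⁻¹ * q * x⁻¹⁻¹) * (x⁻¹ * y * x⁻¹⁻¹) ^ i := by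
          rw [conj_zpow, hi]
          group
        have h4 : x⁻¹ * e * x ∈ E := by
          rw [h3]
          refine E.mul_mem (hKE (L.st _ hx' q hqK)) (E.zpow_mem ?_ i)
          rcases hx' with h | h
          · rw [h]
            exact hyE
          · rw [h]
            exact E.inv_mem hyE
        have h5 : (x⁻¹ * e * x) ^ d = y ∨ (x⁻¹ * e * x) ^ d = y⁻¹ := by
          rw [hpowconj]
          have h6 : x⁻¹ * y * x = y ∨ x⁻¹ * y * x = y⁻¹ := by
            have h7 := hx'
            rw [mem_Cst, inv_inv] at h7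
            exact h7
          have h8 : x⁻¹ * y⁻¹ * x = (x⁻¹ * y * x)⁻¹ := by group
          rcases hed with h | h
          · rw [h]
            exact h6
          · rw [h, h8]
            rcases h6 with h6 | h6
            · rw [h6]
              exact Or.inr rfl
            · rw [h6, inv_inv]
              exact Or.inl rfl
        have h6 : ∀ j, extendByZero E (ρ j) (x⁻¹ * e * x) = ρ j ⟨_, h4⟩ := fun j =>
          extendByZero_of_mem E (ρ j) h4
        simp only [h6]
        rw [hδ, if_pos h5]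
      · by_cases hE : x⁻¹ * e * x ∈ E
        · have h6 : ∀ j, extendByZero E (ρ j) (x⁻¹ * e * x) = ρ j ⟨_, hE⟩ := fun j =>
            extendByZero_of_mem E (ρ j) hE
          simp only [h6]
          rw [hδ, if_neg]
          intro h7
          apply hx
          have h8 : x⁻¹ ∈ Cst y := by
            rw [mem_Cst, inv_inv]
            have h9 : (x⁻¹ * e * x) ^ d = x⁻¹ * e ^ d * x := hpowconj x e
            have h7' : x⁻¹ * e ^ d * x = y ∨ x⁻¹ * e ^ d * x = y⁻¹ := by rw [← h9]; exact h7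
            have h10 : x⁻¹ * y⁻¹ * x = (x⁻¹ * y * x)⁻¹ := by group
            rcases hed with h | h
            · rw [h] at h7'
              exact h7'
            · rw [h, h10] at h7'
              rcases h7' with h11 | h11
              · exact Or.inr (inv_eq_iff_eq_inv.1 h11)
              · exact Or.inl (inv_injective h11)
          simpa using (Cst y).inv_mem h8
        · refine Finset.sum_eq_zero fun j _ => ?_
          rw [extendByZero_of_notMem E (ρ j) hE, mul_zero]
    rw [Finset.sum_congr rfl fun x _ => h2 x, ← Finset.sum_filter, Finset.sum_const, nsmul_eq_mul]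
    have h3 : (Finset.univ.filter fun x : J => x ∈ Cst y).card = Nat.card (Cst y) := by
      rw [Nat.card_eq_fintype_card, Fintype.card_subtype]
    have h4 : Nat.card E * E.relIndex (Cst y) = Nat.card (Cst y) := by
      have := Subgroup.relIndex_mul_relIndex ⊥ E (Cst y) bot_le hEA
      rwa [Subgroup.relIndex_bot_left, Subgroup.relIndex_bot_left] at this
    rw [h3, ← h4, hc]
    have h5 : (Nat.card E : ℂ) ≠ 0 := card_ne_zero_complex
    push_cast
    field_simp
  -- the pairing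
  refine ⟨E, m, ρ, a, c, hEA, hEodd, hρR, hρ1, haI, hcodd, ?_⟩
  intro _
  let i : E.subgroupOf N →* E :=
    { toFun := fun x => ⟨((x : N) : J), Subgroup.mem_subgroupOf.1 x.2⟩
      map_one' := rfl
      map_mul' := fun _ _ => rfl }
  let δ : E.subgroupOf N → ℂ := fun x =>
    if ((x : N) : J) ^ d = y ∨ ((x : N) : J) ^ d = y⁻¹ then (m : ℂ) else 0
  haveI : Fintype E := Fintype.ofFinite _
  have hδ1 : ∀ x : E.subgroupOf N, ∑ j ∈ Finset.range m, a j * ρ j (i x) = δ x := fun x => hδ (i x)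
  have hδ2 : ∀ x : E.subgroupOf N, ∑ j ∈ Finset.range m, conj (a j) * ρ j (i x) = δ x := by
    intro x
    have h1 := congrArg conj (hδ1 x)
    rw [map_sum] at h1
    have h2 : conj (δ x) = δ x := by
      show conj (if _ then (m : ℂ) else 0) = if _ then (m : ℂ) else 0
      split_ifs
      · exact Complex.conj_natCast _
      · exact map_zero _
    rw [h2] at h1
    rw [← h1]
    refine Finset.sum_congr rfl fun j _ => ?_
    rw [map_mul, (hρR j).real]
  have hsum : ∑ j ∈ Finset.range m, ∑ k ∈ Finset.range m, a j * a k *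
      classInner (fun x : E.subgroupOf N => indFun E (ρ j) ((x : N) : J)) (fun x => ρ k (i x)) =
      classInner (fun x : E.subgroupOf N => ∑ j ∈ Finset.range m, a j * indFun E (ρ j) ((x : N) : J)) δ := by
    have h1 : (fun x : E.subgroupOf N => ∑ j ∈ Finset.range m, a j * indFun E (ρ j) ((x : N) : J)) =
        ∑ j ∈ Finset.range m, a j • (fun x : E.subgroupOf N => indFun E (ρ j) ((x : N) : J)) := by
      funext x
      rw [Finset.sum_apply]
      rfl
    have h2 : δ = ∑ k ∈ Finset.range m, conj (a k) • (fun x => ρ k (i x)) := by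
      funext x
      rw [Finset.sum_apply, ← hδ2 x]
      rfl
    rw [h1, h2, classInner_sum_left]
    refine Finset.sum_congr rfl fun j _ => ?_
    rw [classInner_smul_left, classInner_sum_right, Finset.mul_sum]
    refine Finset.sum_congr rfl fun k _ => ?_
    rw [classInner_smul_right, Complex.conj_conj]
    ring
  show ∑ j ∈ Finset.range m, ∑ k ∈ Finset.range m, a j * a k *
      classInner (fun x : E.subgroupOf N => indFun E (ρ j) ((x : N) : J)) (fun x => ρ k (i x)) = c
  rw [hsum, classInner_def]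
  have h1 : ∀ x : E.subgroupOf N, (∑ j ∈ Finset.range m, a j * indFun E (ρ j) ((x : N) : J)) * conj (δ x) =
      c * δ x := by
    intro x
    by_cases hx : ((x : N) : J) ^ d = y ∨ ((x : N) : J) ^ d = y⁻¹
    · rw [hΔ _ (Subgroup.mem_subgroupOf.1 x.2) (x : N).2 hx]
      have : δ x = m := if_pos hx
      rw [this, Complex.conj_natCast]
    · have : δ x = 0 := if_neg hx
      rw [this, map_zero, mul_zero, mul_zero]
  rw [Finset.sum_congr rfl fun x _ => h1 x, ← Finset.mul_sum]
  -- the sum of `δ`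
  have h2 : ∑ x : E.subgroupOf N, δ x = Nat.card (E.subgroupOf N) := by
    let E₁ : Subgroup (E.subgroupOf N) := E₀.comap i
    have hmem₁ : ∀ x, x ∈ E₁ ↔ i x ∈ E₀ := fun x => Iff.rfl
    have ht₁ : (⟨⟨t, htN⟩, Subgroup.mem_subgroupOf.2 htE⟩ : E.subgroupOf N) ∉ E₁ := by
      rw [hmem₁, hE₀]
      intro h
      have h3 : t * y = y * t := h
      apply hyy
      rw [← ht, h3, mul_inv_cancel_right]
    have hind₁ : E₁.index = 2 := by
      have h3 : E₁.index ∣ 2 := by
        rw [← hindex, Subgroup.index_comap]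
        exact Subgroup.relIndex_dvd_index_of_normal _ _
      rcases (Nat.dvd_prime Nat.prime_two).1 h3 with h4 | h4
      · exact (ht₁ (by rw [Subgroup.index_eq_one.1 h4]; exact Subgroup.mem_top _)).elim
      · exact h4
    let g : E₁ →* ℂˣ :=
      { toFun := fun x => f ⟨i x, x.2⟩
        map_one' := by
          have : (⟨i ((1 : E₁) : E.subgroupOf N), (1 : E₁).2⟩ : E₀) = 1 := rfl
          rw [this, map_one]
        map_mul' := fun x x' => by
          rw [← map_mul]
          rfl }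
    have hyE₁ : (⟨⟨y, L.mem⟩, Subgroup.mem_subgroupOf.2 hyE⟩ : E.subgroupOf N) ∈ E₁ := by
      rw [hmem₁, hE₀]
      rfl
    have hgy : g ⟨_, hyE₁⟩ = ζ := by
      show f ⟨i _, _⟩ = ζ
      have h3 := hf ⟨i ⟨⟨y, L.mem⟩, Subgroup.mem_subgroupOf.2 hyE⟩, hyE₁⟩ 1 (by
        show y ^ d = y ^ (1 : ℤ)
        have := hyd 1
        rw [zpow_one] at this
        rw [zpow_one, this])
      rw [h3, zpow_one]
    haveI : Fintype E₁ := Fintype.ofFinite _
    have hρs : ∀ j ∈ Finset.range m, ∑ x : E.subgroupOf N, ρ j (i x) =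
        if j = 0 then (Nat.card (E.subgroupOf N) : ℂ) else 0 := by
      intro j hj
      rw [sum_split E₁]
      have h3 : ∑ x ∈ Finset.univ.filter (fun x : E.subgroupOf N => x ∉ E₁), ρ j (i x) = 0 :=
        Finset.sum_eq_zero fun x hx => hρn j _ (Finset.mem_filter.1 hx).2
      have h4 : ∀ x : E₁, ρ j (i x) = (((g ^ j) x : ℂˣ) : ℂ) + ((((g ^ j)⁻¹ : E₁ →* ℂˣ) x : ℂˣ) : ℂ) := by
        intro x
        rw [hρm j (i x) x.2]
        show _ = ((f ⟨i x, x.2⟩ ^ j : ℂˣ) : ℂ) + (((f ⟨i x, x.2⟩ ^ j)⁻¹ : ℂˣ) : ℂ)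
        rw [Units.val_inv_eq_inv_val]
      rw [h3, add_zero, Finset.sum_congr rfl fun x _ => h4 x, Finset.sum_add_distrib]
      split_ifs with hj0
      · rw [hj0]
        have h5 : (Nat.card (E.subgroupOf N) : ℂ) = 2 * Nat.card E₁ := by
          have := Subgroup.index_mul_card E₁
          rw [hind₁] at this
          exact_mod_cast this.symm
        rw [h5]
        have e1 : ∀ x : E₁, (((g ^ 0) x : ℂˣ) : ℂ) = 1 := by
          intro x
          show ((g x ^ 0 : ℂˣ) : ℂ) = 1
          rw [pow_zero, Units.val_one]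
        have e2 : ∀ x : E₁, ((((g ^ 0)⁻¹ : E₁ →* ℂˣ) x : ℂˣ) : ℂ) = 1 := by
          intro x
          show (((g x ^ 0)⁻¹ : ℂˣ) : ℂ) = 1
          rw [pow_zero, inv_one, Units.val_one]
        rw [Finset.sum_congr rfl fun x _ => e1 x, Finset.sum_congr rfl fun x _ => e2 x,
          Finset.sum_const, Finset.card_univ, nsmul_eq_mul, mul_one, Nat.card_eq_fintype_card]
        ring
      · have h5 : ζ ^ j ≠ 1 := by
          intro h6
          have h7 := orderOf_dvd_of_pow_eq_one h6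
          rw [hζ] at h7
          have h8 := Nat.le_of_dvd (Nat.pos_of_ne_zero hj0) h7
          have h9 := Finset.mem_range.1 hj
          omega
        have h6 : (g ^ j) ⟨_, hyE₁⟩ ≠ 1 := by
          show g ⟨_, hyE₁⟩ ^ j ≠ 1
          rw [hgy]
          exact h5
        have h7 : ((g ^ j)⁻¹ : E₁ →* ℂˣ) ⟨_, hyE₁⟩ ≠ 1 := by
          show (g ⟨_, hyE₁⟩ ^ j)⁻¹ ≠ 1
          rw [hgy]
          exact fun h => h5 (inv_eq_one.1 h)
        rw [sum_hom_zero _ h6, sum_hom_zero _ h7, add_zero]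
    have h3 : ∑ x : E.subgroupOf N, δ x = ∑ j ∈ Finset.range m, a j * ∑ x : E.subgroupOf N, ρ j (i x) := by
      rw [Finset.sum_congr rfl fun x _ => (hδ1 x).symm, Finset.sum_comm]
      exact Finset.sum_congr rfl fun j _ => (Finset.mul_sum _ _ _).symm
    rw [h3, Finset.sum_congr rfl fun j hj => by rw [hρs j hj]]
    simp only [mul_ite, mul_zero]
    rw [Finset.sum_ite_eq' (Finset.range m) 0 (fun j => a j * (Nat.card (E.subgroupOf N) : ℂ)),
      if_pos (Finset.mem_range.2 hm0)]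
    have h4 : a 0 = 1 := by
      show ((ζ ^ 0 : ℂˣ) : ℂ)⁻¹ = 1
      rw [pow_zero, Units.val_one, inv_one]
    rw [h4, one_mul]
  rw [h2]
  have h3 : (Nat.card (E.subgroupOf N) : ℂ) ≠ 0 := card_ne_zero_complex
  field_simp

end Cfsg.Agent.H694
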