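import Cfsg.Agent.H694.P1Grp

/-!
# Data attached to real elements of odd order

`Loc y K`: `y` is a real element `≠ 1` of odd order of `S`, `K ≤ C(y)` has order prime to the order
of `y` and odd index in `C(y)` and is stable under the automorphisms mapping `y` to `y` or `y⁻¹`.

`P1Data S`: for every group `Q` of automorphisms containing the inner ones there is such a `y` whose
class has a stabilizer of odd index in `Q` or contained in a subgroup of index two of `Q`.
-/

set_option autoImplicit false

namespace Cfsg.Agent.H694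

/-- Local data for a real element of odd order. -/
structure Loc {S : Type*} [Group S] (y : S) (K : Subgroup S) : Prop where
  ne : y ≠ 1
  odd : Odd (orderOf y)
  real : IsConj y y⁻¹
  le : K ≤ Subgroup.centralizer {y}
  cop : (Nat.card K).Coprime (orderOf y)
  idx : Odd (K.relIndex (Subgroup.centralizer {y}))
  st : ∀ α : MulAut S, (α y = y ∨ α y = y⁻¹) → ∀ k ∈ K, α k ∈ K

/-- the stabilizer of the class of `y` -/
def stab {S : Type*} [Group S] (y : S) : Subgroup (MulAut S) where
  carrier := {α | IsConj y (α y)}
  one_mem' := IsConj.refl y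
  mul_mem' := by
    intro α β hα hβ
    show IsConj y (α (β y))
    have hα' : IsConj y (α y) := hα
    have hβ' : IsConj y (β y) := hβ
    exact hα'.trans (α.toMonoidHom.map_isConj hβ')
  inv_mem' := by
    intro α hα
    show IsConj y (α⁻¹ y)
    have hα' : IsConj y (α y) := hα
    have h1 := (α⁻¹).toMonoidHom.map_isConj hα'
    have h2 : α⁻¹ (α y) = y := by
      rw [← MulAut.mul_apply, inv_mul_cancel, MulAut.one_apply]
    have h3 : IsConj (α⁻¹ y) (α⁻¹ (α y)) := h1
    rw [h2] at h3
    exact h3.symm

theorem mem_stab {S : Type*} [Group S] {y : S} {α : MulAut S} : α ∈ stab y ↔ IsConj y (α y) := Iff.rfl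

theorem conj_mem_stab {S : Type*} [Group S] (y s : S) : MulAut.conj s ∈ stab y :=
  isConj_iff.2 ⟨s, rfl⟩

/-- Real elements of odd order for every group of automorphisms. -/
def P1Data (S : Type*) [Group S] : Prop :=
  ∀ Q : Subgroup (MulAut S), (∀ s, MulAut.conj s ∈ Q) → ∃ (y : S) (K : Subgroup S), Loc y K ∧
    (Odd ((stab y).relIndex Q) ∨ ∃ D : Subgroup (MulAut S), stab y ⊓ Q ≤ D ∧ D.relIndex Q = 2)

theorem Loc.of_equiv {S T : Type*} [Group S] [Group T] (e : S ≃* T) {y : S} {K : Subgroup S}
    (h : Loc y K) : Loc (e y) (K.map e.toMonoidHom) where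
  ne := fun h1 => h.ne (e.injective (by rw [h1, map_one]))
  odd := by rw [MulEquiv.orderOf_eq]; exact h.odd
  real := by
    rw [← map_inv]
    exact e.toMonoidHom.map_isConj h.real
  le := by
    rintro _ ⟨k, hk, rfl⟩
    have h1 := Subgroup.mem_centralizer_singleton_iff.1 (h.le hk)
    rw [Subgroup.mem_centralizer_singleton_iff]
    show e k * e y = e y * e k
    rw [← map_mul, h1, map_mul]
  cop := by
    rw [MulEquiv.orderOf_eq, Nat.card_congr (K.equivMapOfInjective e.toMonoidHom e.injective).symm.toEquiv]
    exact h.cop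
  idx := by
    have h1 : Subgroup.centralizer {e y} = (Subgroup.centralizer {y}).map e.toMonoidHom := by
      ext t
      rw [Subgroup.mem_centralizer_singleton_iff]
      constructor
      · intro ht
        refine ⟨e.symm t, ?_, e.apply_symm_apply t⟩
        rw [SetLike.mem_coe, Subgroup.mem_centralizer_singleton_iff]
        apply e.injective
        rw [map_mul, map_mul, e.apply_symm_apply, ht]
      · rintro ⟨s, hs, rfl⟩
        rw [SetLike.mem_coe, Subgroup.mem_centralizer_singleton_iff] at hs
        show e s * e y = e y * e s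
        rw [← map_mul, hs, map_mul]
    rw [h1, Subgroup.relIndex_map_map_of_injective _ _ e.injective]
    exact h.idx
  st := by
    rintro α hα _ ⟨k, hk, rfl⟩
    let β : MulAut S := (e.trans α).trans e.symm
    have hβ : ∀ s, e (β s) = α (e s) := fun s => e.apply_symm_apply _
    have h1 : β y = y ∨ β y = y⁻¹ := by
      rcases hα with h2 | h2
      · left
        apply e.injective
        rw [hβ, h2]
      · right
        apply e.injective
        rw [hβ, h2, map_inv]
    exact ⟨β k, h.st β h1 k hk, hβ k⟩

/-- Local data in a group containing `N` as a normal subgroup. -/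
theorem Loc.locJ {G : Type*} [Group G] (N : Subgroup G) [hN : N.Normal] {y : N} {K : Subgroup N}
    (h : Loc y K) : LocJ N (y : G) (K.map N.subtype) where
  mem := y.2
  ne := fun h1 => h.ne (Subtype.ext h1)
  odd := by rw [Subgroup.orderOf_coe]; exact h.odd
  real := by
    obtain ⟨n, hn⟩ := isConj_iff.1 h.real
    exact ⟨n, n.2, congrArg Subtype.val hn⟩
  le := Subgroup.map_subtype_le K
  comm := by
    rintro _ ⟨k, hk, rfl⟩
    exact congrArg Subtype.val (Subgroup.mem_centralizer_singleton_iff.1 (h.le hk))
  cop := by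
    rw [Subgroup.orderOf_coe,
      Nat.card_congr (K.equivMapOfInjective N.subtype N.subtype_injective).symm.toEquiv]
    exact h.cop
  idx := by
    have h1 : N ⊓ Subgroup.centralizer {(y : G)} = (Subgroup.centralizer {y}).map N.subtype := by
      ext g
      rw [Subgroup.mem_inf, Subgroup.mem_centralizer_singleton_iff]
      constructor
      · rintro ⟨hg, h2⟩
        refine ⟨⟨g, hg⟩, ?_, rfl⟩
        rw [SetLike.mem_coe, Subgroup.mem_centralizer_singleton_iff]
        exact Subtype.ext h2
      · rintro ⟨n, hn, rfl⟩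
        rw [SetLike.mem_coe, Subgroup.mem_centralizer_singleton_iff] at hn
        exact ⟨n.2, congrArg Subtype.val hn⟩
    rw [h1, Subgroup.relIndex_map_map_of_injective _ _ N.subtype_injective]
    exact h.idx
  st := by
    rintro g hg _ ⟨k, hk, rfl⟩
    have h1 : (MulAut.conjNormal g : MulAut N) y = y ∨ (MulAut.conjNormal g : MulAut N) y = y⁻¹ := by
      rcases hg with h2 | h2
      · exact Or.inl (Subtype.ext h2)
      · exact Or.inr (Subtype.ext h2)
    exact ⟨_, h.st _ h1 k hk, rfl⟩

theorem stab_equiv {S T : Type*} [Group S] [Group T] (e : S ≃* T) (y : S) :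
    stab (e y) = (stab y).map (MulAut.congr e).toMonoidHom := by
  ext α
  rw [mem_stab]
  constructor
  · intro h
    refine ⟨(MulAut.congr e).symm α, ?_, (MulAut.congr e).apply_symm_apply α⟩
    show IsConj y (e.symm (α (e y)))
    have h1 := e.symm.toMonoidHom.map_isConj h
    have h2 : IsConj (e.symm (e y)) (e.symm (α (e y))) := h1
    rwa [e.symm_apply_apply] at h2
  · rintro ⟨β, hβ, rfl⟩
    have h1 : IsConj y (β y) := hβ
    have h2 := e.toMonoidHom.map_isConj h1
    show IsConj (e y) (e (β (e.symm (e y))))
    rw [e.symm_apply_apply]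
    exact h2

theorem P1Data.of_equiv {S T : Type*} [Group S] [Group T] (e : S ≃* T) (h : P1Data S) : P1Data T := by
  intro Q hQ
  let c : MulAut S ≃* MulAut T := MulAut.congr e
  obtain ⟨y, K, hL, hcase⟩ := h (Q.comap c.toMonoidHom) (by
    intro s
    have h1 : c (MulAut.conj s) = MulAut.conj (e s) := by
      ext t
      show e (s * e.symm t * s⁻¹) = e s * t * (e s)⁻¹
      rw [map_mul, map_mul, map_inv, e.apply_symm_apply]
    show c (MulAut.conj s) ∈ Q
    rw [h1]
    exact hQ _)
  have hQm : (Q.comap c.toMonoidHom).map c.toMonoidHom = Q :=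
    Subgroup.map_comap_eq_self_of_surjective c.surjective Q
  refine ⟨e y, K.map e.toMonoidHom, hL.of_equiv e, ?_⟩
  rcases hcase with h1 | ⟨D, h1, h2⟩
  · left
    rw [stab_equiv, ← hQm, Subgroup.relIndex_map_map_of_injective _ _ c.injective]
    exact h1
  · right
    refine ⟨D.map c.toMonoidHom, ?_, ?_⟩
    · rw [stab_equiv]
      rintro _ ⟨⟨α, hα, rfl⟩, h3⟩
      exact ⟨α, h1 ⟨hα, h3⟩, rfl⟩
    · rw [← hQm, Subgroup.relIndex_map_map_of_injective _ _ c.injective]
      exact h2

end Cfsg.Agent.H694
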