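import Cfsg.Agent.H694.Good
import Cfsg.Agent.H686.CharKit

/-!
# Good characters by parity
-/

set_option autoImplicit false
set_option linter.unusedSectionVars false
set_option linter.style.haveILetI false

namespace Cfsg.Agent.H694

open Cfsg Representation
open scoped ComplexConjugate commutatorElement
open Cfsg.Agent.Characters.Core
open Cfsg.Agent.H705.StrongLin (ind ind_eq real_of_ind)
open Cfsg.Agent.OddOrderCharacters.NormalInduced (conjFn)
open Cfsg.Agent.OddOrderCharacters.PF9.CliffGen (resTo irr_ind ind_inj inertia mem_inertia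
  le_inertia)
open Cfsg.Agent.H686.CharKit (irrAct)

universe u v

/-- **Good characters over a real character of even degree.** -/
theorem good_of_real_rep {G : Type u} [Group G] [Fintype G] (N : Subgroup G) [hN : N.Normal]
    [Fintype N] (hperf : ⁅N, N⁆ = N) {φ : N → ℂ} (hφ : IsIrrCharacter N φ) (hφr : ind φ ≠ 0)
    (heven : Even (charDegree φ)) (h4 : 4 ≤ charDegree φ) (J : Subgroup G) [Fintype J]
    (hNJ : N ≤ J) {π : J → ℂ} (hπ : RChar π) (hodd : Odd (mu (resTo hNJ π) φ))
    (hJ : Odd (J.relIndex (inertia N φ))) : ∃ χ, Good G N χ := by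
  classical
  set I := inertia N φ with hI
  haveI : Fintype I := Fintype.ofFinite _
  have hNI : N ≤ I := le_inertia (isIrr_isClassFunction hφ)
  set L : Subgroup I := J.subgroupOf I with hL
  haveI : Fintype L := Fintype.ofFinite _
  haveI : Fintype (N.subgroupOf I) := Fintype.ofFinite _
  let j : L →* J :=
    { toFun := fun x => ⟨(x : I), Subgroup.mem_subgroupOf.1 x.2⟩
      map_one' := rfl
      map_mul' := fun _ _ => rfl }
  have hπ' : RChar (fun x : L => π (j x)) := hπ.comp j
  have hPi : RChar (indFun L (fun x : L => π (j x))) := hπ'.indFun L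
  have hNL : N.subgroupOf I ≤ L := fun x hx =>
    Subgroup.mem_subgroupOf.2 (hNJ (Subgroup.mem_subgroupOf.1 hx))
  have hinv : ∀ g : I, conjFn (N.subgroupOf I) (dn N I hNI φ) g = dn N I hNI φ :=
    fun g => inv_dn N I hNI (fun g hg => hg) g
  have h1 := classInner_indFun_res (N.subgroupOf I) L hNL hinv (fun x : L => π (j x))
  have h2 : classInner (fun n : N.subgroupOf I => π (j ⟨n, hNL n.2⟩)) (dn N I hNI φ) =
      (mu (resTo hNJ π) φ : ℂ) := by
    have h3 := classInner_dn N I hNI (resTo hNJ π) φ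
    have h4 := (hπ.comp (Subgroup.inclusion hNJ)).mu_spec hφ
    exact h3.trans h4
  rw [h2] at h1
  have h5 : mu (fun n : N.subgroupOf I => indFun L (fun x : L => π (j x)) (n : I))
      (dn N I hNI φ) = (L.index : ℤ) * mu (resTo hNJ π) φ := by
    apply mu_eq
    rw [h1]
    push_cast
    rfl
  have hLodd : Odd (L.index : ℤ) := by
    have : Odd L.index := hJ
    exact_mod_cast this
  have hφr' : ind (dn N I hNI φ) ≠ 0 := by
    intro h0
    obtain ⟨g, hg⟩ := (ind_eq_zero_iff (irr_dn N I hNI hφ)).1 h0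
    exact hg (real_of_ind_ne hφ hφr _)
  obtain ⟨ψ, hψ, hψ1, hψ2, -⟩ := exists_plus_over (N.subgroupOf I).subtype
    (irr_dn N I hNI hφ) hφr' hPi (by
      have h6 : Odd (mu (fun n : N.subgroupOf I => indFun L (fun x : L => π (j x)) (n : I))
        (dn N I hNI φ)) := by
          rw [h5]
          exact hLodd.mul hodd
      exact h6)
  refine ⟨indFun I ψ, good_of_inertia N hperf hφ I (fun g => mem_inertia) hNI hψ hψ1 ?_ ?_
    (by omega)⟩
  · rw [← mu_dn N I hNI]
    exact hψ2
  · exact heven.mul_right _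

/-- The indices in a chain. -/
theorem odd_relIndex {G : Type*} [Group G] [Finite G] {P J I : Subgroup G} (hPJ : P ≤ J)
    (hPI : P ≤ I) (hP : Odd P.index) : Odd (J.relIndex I) := by
  have h1 : (J ⊓ I).relIndex I ∣ P.relIndex I := by
    rw [← Subgroup.relIndex_mul_relIndex P (J ⊓ I) I (le_inf hPJ hPI) inf_le_right]
    exact dvd_mul_left _ _
  have h2 : P.relIndex I ∣ P.index := by
    rw [← Subgroup.relIndex_mul_index hPI]
    exact dvd_mul_right _ _
  have h3 : (J ⊓ I).relIndex I = J.relIndex I := Subgroup.inf_relIndex_right J I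
  rw [h3] at h1
  exact hP.of_dvd_nat (h1.trans h2)

/-- A `2`-group acting on the irreducible characters of a normal subgroup fixes a member of an
invariant set of odd size. -/
theorem exists_fixed {G : Type u} [Group G] [Finite G] (N : Subgroup G) [hN : N.Normal]
    (P : Subgroup G) (hP : IsPGroup 2 P) (X : Set (IrrCharacter N)) (hX : Odd (Nat.card X))
    (hinv : ∀ g ∈ P, ∀ φ ∈ X, (⟨conjFn N (φ : N → ℂ) g,
      Cfsg.Agent.OddOrderCharacters.IndRes.isIrr_conjFn N φ.2 g⟩ : IrrCharacter N) ∈ X) :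
    ∃ φ ∈ X, P ≤ inertia N (φ : N → ℂ) := by
  classical
  letI := irrAct N
  have hsm : ∀ (g : G) (φ : IrrCharacter N), (g • φ : IrrCharacter N) =
      ⟨conjFn N (φ : N → ℂ) g⁻¹, Cfsg.Agent.OddOrderCharacters.IndRes.isIrr_conjFn N φ.2 g⁻¹⟩ :=
    fun g φ => rfl
  let act : MulAction P X :=
    { smul := fun p φ => ⟨(p : G) • φ.1, by
        rw [hsm]
        exact hinv _ (P.inv_mem p.2) _ φ.2⟩
      one_smul := fun φ => Subtype.ext (one_smul G φ.1)
      mul_smul := fun a b φ => Subtype.ext (mul_smul (a : G) (b : G) φ.1) }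
  have := finite_irr (G := N)
  haveI : Fact (Nat.Prime 2) := ⟨Nat.prime_two⟩
  have h1 := hP.card_modEq_card_fixedPoints X
  have h2 : Odd (Nat.card (MulAction.fixedPoints P X)) := by
    rw [Nat.odd_iff] at hX ⊢
    rw [← hX]
    exact h1.symm
  obtain ⟨φ, hφ⟩ : (MulAction.fixedPoints P X).Nonempty := by
    rw [Set.nonempty_iff_ne_empty]
    intro h3
    rw [h3] at h2
    simp at h2
  refine ⟨φ.1, φ.2, fun g hg => ?_⟩
  have h3 : ((⟨g⁻¹, P.inv_mem hg⟩ : P) • φ : X) = φ := hφ _
  have h4 : (g⁻¹ • φ.1 : IrrCharacter N) = φ.1 := congrArg Subtype.val h3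
  rw [hsm] at h4
  have h5 := congrArg Subtype.val h4
  simp only [inv_inv] at h5
  exact h5

/-- **Good characters by parity.** -/
theorem good_of_parity {G : Type u} [Group G] [Fintype G] (N : Subgroup G) [hN : N.Normal]
    [Fintype N] (hperf : ⁅N, N⁆ = N)
    (h2 : ∀ φ : N → ℂ, IsIrrCharacter N φ → charDegree φ ≠ 2)
    (J : Subgroup G) [Fintype J] (hJ : Odd J.index)
    (hNJ : N ≤ J) {π : J → ℂ} (hπ : RChar π) {a b : ℤ}
    (ha : classInner (resTo hNJ π) (resTo hNJ π) = a) (hb : π 1 = b) (hab : Odd (a + b)) :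
    ∃ χ, Good G N χ := by
  classical
  have hπN : RChar (resTo hNJ π) := hπ.comp (Subgroup.inclusion hNJ)
  have hodd := hπN.odd_card ha (b := b) hb hab
  haveI : Fact (Nat.Prime 2) := ⟨Nat.prime_two⟩
  let P : Sylow 2 J := default
  set P' : Subgroup G := (P : Subgroup J).map J.subtype with hP'
  have hP'J : P' ≤ J := Subgroup.map_subtype_le _
  have hP'p : IsPGroup 2 P' := P.2.map _
  have hP'i : Odd P'.index := by
    have h3 : P'.relIndex J * J.index = P'.index := Subgroup.relIndex_mul_index hP'J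
    rw [← h3]
    refine Odd.mul ?_ hJ
    have h4 : P'.relIndex J = (P : Subgroup J).index := by
      rw [Subgroup.relIndex, hP', Subgroup.subgroupOf,
        Subgroup.comap_map_eq_self_of_injective J.subtype_injective]
    rw [h4]
    have := P.not_dvd_index
    exact Nat.odd_iff.2 (by omega)
  let X : Set (IrrCharacter N) := {φ | ind (φ : N → ℂ) = 1 ∧ Even (charDegree (φ : N → ℂ)) ∧
    Odd (mu (resTo hNJ π) φ)}
  obtain ⟨φ, hφX, hPφ⟩ := exists_fixed N P' hP'p X hodd (by
    intro g hg φ hφ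
    have hgJ : g ∈ J := hP'J hg
    refine ⟨?_, ?_, ?_⟩
    · show ind (conjFn N (φ : N → ℂ) g) = 1
      rw [← hφ.1, ind_eq, ind_eq]
      congr 1
      refine Fintype.sum_equiv (MulAut.conjNormal g : MulAut N).toEquiv _ _ fun n => ?_
      show (φ : N → ℂ) ⟨g * (n * n : N) * g⁻¹, _⟩ = (φ : N → ℂ)
        ((MulAut.conjNormal g : MulAut N) n * (MulAut.conjNormal g : MulAut N) n)
      rw [← map_mul]
      congr 1
    · show Even (charDegree (conjFn N (φ : N → ℂ) g))
      rw [charDegree, Cfsg.Agent.OddOrderCharacters.IndRes.conjFn_apply_one]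
      exact hφ.2.1
    · show Odd (mu (resTo hNJ π) (conjFn N (φ : N → ℂ) g))
      have h5 : resTo hNJ π = resTo hNJ π ∘ (MulAut.conjNormal g : MulAut N) := by
        funext n
        have := hπ.cf ⟨n, hNJ n.2⟩ ⟨g, hgJ⟩
        exact this.symm
      have h6 : mu (resTo hNJ π) (conjFn N (φ : N → ℂ) g) = mu (resTo hNJ π) φ := by
        rw [mu, mu]
        congr 2
        conv_lhs => rw [h5]
        exact Cfsg.Agent.Characters.Clifford.classInner_comp_mulEquiv
          (MulAut.conjNormal g : MulAut N) _ _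
      rw [h6]
      exact hφ.2.2)
  have h4 : 4 ≤ charDegree (φ : N → ℂ) := by
    have h5 := Cfsg.Agent.Blocks.Basic.charDegree_pos φ.2
    have h6 := h2 φ φ.2
    obtain ⟨k, hk⟩ := hφX.2.1
    omega
  refine good_of_real_rep N hperf φ.2 (by rw [hφX.1]; exact one_ne_zero) hφX.2.1 h4 J hNJ hπ
    hφX.2.2 (odd_relIndex hP'J hPφ hP'i)

end Cfsg.Agent.H694
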