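import Cfsg.Agent.H694.RChar

/-!
# Restriction and induction of real characters; the parity lemma
-/

set_option autoImplicit false
set_option linter.unusedSectionVars false
set_option linter.style.haveILetI false

namespace Cfsg.Agent.H694

open Cfsg Representation
open scoped ComplexConjugate
open Cfsg.Agent.Characters.Core
open Cfsg.Agent.H705.StrongLin (ind ind_eq real_of_ind)

universe u v

/-- The integral part of an inner product. -/
noncomputable def mu {G : Type u} [Group G] [Fintype G] (φ ψ : G → ℂ) : ℤ :=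
  ⌊(classInner φ ψ).re⌋

theorem mu_eq {G : Type u} [Group G] [Fintype G] {φ ψ : G → ℂ} {n : ℤ}
    (h : classInner φ ψ = n) : mu φ ψ = n := by
  rw [mu, h, Complex.intCast_re, Int.floor_intCast]

theorem mu_spec {G : Type u} [Group G] [Fintype G] {φ ψ : G → ℂ}
    (h : ∃ n : ℤ, classInner φ ψ = n) : classInner φ ψ = (mu φ ψ : ℂ) := by
  obtain ⟨n, hn⟩ := h
  rw [mu_eq hn, hn]

theorem RChar.mu_spec {G : Type u} [Group G] [Fintype G] {π : G → ℂ} (h : RChar π)
    {χ : G → ℂ} (hχ : IsIrrCharacter G χ) : classInner π χ = (mu π χ : ℂ) :=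
  Cfsg.Agent.H694.mu_spec (h.int χ hχ)

theorem irr_mu_spec {G : Type u} [Group G] [Fintype G] {π : G → ℂ} (h : IsCharacter G π)
    {χ : G → ℂ} (hχ : IsIrrCharacter G χ) : classInner π χ = (mu π χ : ℂ) := by
  obtain ⟨n, hn⟩ := classInner_isNat h (isIrr_isCharacter hχ)
  exact Cfsg.Agent.H694.mu_spec ⟨n, by rw [hn]; push_cast; rfl⟩

theorem even_mu {G : Type u} [Group G] [Fintype G] {φ ψ : G → ℂ}
    (h : ∃ n : ℤ, classInner φ ψ = 2 * n) : Even (mu φ ψ) := by
  obtain ⟨n, hn⟩ := h
  have h1 : mu φ ψ = 2 * n := mu_eq (by rw [hn]; push_cast; ring)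
  rw [h1]
  exact even_two_mul n

theorem zmod_two_add_self (r : ZMod 2) : r + r = 0 := by
  revert r
  decide

/-- Pairs of families `n, m` of integers indexed by irreducible characters, invariant under complex
conjugation, with `n` even at indicator `-1` and `m` even at indicator `1`. -/
theorem even_sum_mul {G : Type u} [Group G] [Finite G] [Fintype (IrrCharacter G)]
    (n m : IrrCharacter G → ℤ) (hn : ∀ χ, n (cj χ) = n χ) (hm : ∀ χ, m (cj χ) = m χ)
    (hn' : ∀ χ : IrrCharacter G, ind (χ : G → ℂ) = -1 → Even (n χ))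
    (hm' : ∀ χ : IrrCharacter G, ind (χ : G → ℂ) = 1 → Even (m χ)) :
    Even (∑ χ, n χ * m χ) := by
  rw [← ZMod.intCast_zmod_eq_zero_iff_dvd _ 2 |>.trans even_iff_two_dvd.symm] at *
  rw [Int.cast_sum]
  rw [sum_eq_sum_real zmod_two_add_self _ (fun χ => by rw [hn, hm])]
  refine finsum_mem_eq_zero_of_forall_eq_zero fun χ hχ => ?_
  rcases ind_cases χ.2 with h | h | h
  · exact absurd h hχ
  · have h1 := (ZMod.intCast_zmod_eq_zero_iff_dvd (n χ * m χ) 2).2 (by
      have := even_iff_two_dvd.1 (hm' χ h)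
      exact Dvd.dvd.mul_left (by exact_mod_cast this) _)
    exact h1
  · have h1 := (ZMod.intCast_zmod_eq_zero_iff_dvd (n χ * m χ) 2).2 (by
      have := even_iff_two_dvd.1 (hn' χ h)
      exact Dvd.dvd.mul_right (by exact_mod_cast this) _)
    exact h1

section

variable {G : Type u} [Group G] [Fintype G] {H : Type v} [Group H] [Fintype H]

theorem mu_conj_right {φ ψ : G → ℂ} (hφ : ∀ g, conj (φ g) = φ g) :
    mu φ (fun g => conj (ψ g)) = mu φ ψ := by
  have h1 : φ = fun g => conj (φ g) := funext fun g => (hφ g).symm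
  have h2 : classInner φ (fun g => conj (ψ g)) = conj (classInner φ ψ) := by
    conv_lhs => rw [h1]
    exact classInner_conj_conj φ ψ
  rw [mu, mu, h2, Complex.conj_re]

theorem mu_conj_left {φ ψ : G → ℂ} (hψ : ∀ g, conj (ψ g) = ψ g) :
    mu (fun g => conj (φ g)) ψ = mu φ ψ := by
  have h1 : ψ = fun g => conj (ψ g) := funext fun g => (hψ g).symm
  have h2 : classInner (fun g => conj (φ g)) ψ = conj (classInner φ ψ) := by
    conv_lhs => rw [h1]
    exact classInner_conj_conj φ ψ
  rw [mu, mu, h2, Complex.conj_re]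

/-- Decomposition of the multiplicities of a restriction. -/
theorem RChar.classInner_comp [Fintype (IrrCharacter G)] {π : G → ℂ} (h : RChar π) (f : H →* G)
    {ψ : H → ℂ} (hψ : IsIrrCharacter H ψ) :
    classInner (fun x => π (f x)) ψ =
      ((∑ χ : IrrCharacter G, mu π χ * mu (fun x => (χ : G → ℂ) (f x)) ψ : ℤ) : ℂ) := by
  have h1 : (fun x => π (f x)) =
      ∑ χ : IrrCharacter G, (mu π χ : ℂ) • (fun x => (χ : G → ℂ) (f x)) := by
    funext x
    have h2 := congrFun (classFunction_eq_sum h.cf) (f x)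
    rw [h2, Finset.sum_apply, Finset.sum_apply]
    refine Finset.sum_congr rfl fun χ _ => ?_
    rw [Pi.smul_apply, Pi.smul_apply, h.mu_spec χ.2]
  rw [h1, classInner_sum_left]
  push_cast
  refine Finset.sum_congr rfl fun χ _ => ?_
  have h3 : classInner (fun x => (χ : G → ℂ) (f x)) ψ =
      (mu (fun x => (χ : G → ℂ) (f x)) ψ : ℂ) :=
    irr_mu_spec (isCharacter_comp f (isIrr_isCharacter χ.2)) hψ
  rw [classInner_smul_left, h3]

/-- **Restriction.** -/
theorem RChar.comp {π : G → ℂ} (h : RChar π) (f : H →* G) : RChar (fun x => π (f x)) where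
  cf := fun x y => by
    have := h.cf (f x) (f y)
    simpa using this
  int ψ hψ := by
    classical
    haveI := @Fintype.ofFinite (IrrCharacter G) finite_irr
    exact ⟨_, h.classInner_comp f hψ⟩
  real x := h.real _
  even ψ hψ hi := by
    classical
    haveI := @Fintype.ofFinite (IrrCharacter G) finite_irr
    have h1 := h.classInner_comp f hψ
    have hψr : ∀ x, conj (ψ x) = ψ x := fun x =>
      Complex.conj_eq_iff_im.2 (real_of_ind_ne hψ (by rw [hi]; norm_num) x)
    obtain ⟨k, hk⟩ := even_sum_mul (fun χ : IrrCharacter G => mu π χ)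
      (fun χ : IrrCharacter G => mu (fun x => (χ : G → ℂ) (f x)) ψ)
      (fun χ => mu_conj_right h.real)
      (fun χ => mu_conj_left hψr)
      (fun χ hχ => even_mu (h.even χ χ.2 hχ))
      (fun χ hχ => even_mu (even_restrict f χ.2 hψ (by rw [hχ, hi]; norm_num)))
    refine ⟨k, ?_⟩
    rw [h1, hk]
    push_cast
    ring

/-- Decomposition of the multiplicities of an induced character. -/
theorem RChar.classInner_indFun (L : Subgroup G) [Fintype L] [Fintype (IrrCharacter L)]
    {π : L → ℂ} (h : RChar π) {χ : G → ℂ} (hχ : IsIrrCharacter G χ) :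
    classInner (indFun L π) χ =
      ((∑ ψ : IrrCharacter L, mu π ψ * mu (fun x : L => χ x) ψ : ℤ) : ℂ) := by
  have h0 : IsCharacter L (fun x : L => χ x) := isCharacter_comp L.subtype (isIrr_isCharacter hχ)
  rw [Cfsg.Agent.OddOrderCharacters.Clifford.classInner_indFun L π χ (isIrr_isClassFunction hχ),
    classInner_eq_sum h.cf (isCharacter_isClassFunction h0)]
  push_cast
  refine Finset.sum_congr rfl fun ψ _ => ?_
  rw [h.mu_spec ψ.2, irr_mu_spec h0 ψ.2]
  simp

/-- **Induction.** -/
theorem RChar.indFun (L : Subgroup G) [Fintype L] {π : L → ℂ} (h : RChar π) :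
    RChar (indFun L π) where
  cf := Cfsg.Agent.OddOrderCharacters.Clifford.isClassFunction_indFun L π
  int χ hχ := by
    classical
    haveI := @Fintype.ofFinite (IrrCharacter L) finite_irr
    exact ⟨_, h.classInner_indFun L hχ⟩
  real g := by
    refine Complex.conj_eq_iff_im.2 ?_
    exact Cfsg.Agent.H705.StrongLin.real_indFun L
      (fun t => Complex.conj_eq_iff_im.1 (h.real t)) g
  even χ hχ hi := by
    classical
    haveI := @Fintype.ofFinite (IrrCharacter L) finite_irr
    have h1 := h.classInner_indFun L hχ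
    have hχr : ∀ x, conj (χ x) = χ x := fun x =>
      Complex.conj_eq_iff_im.2 (real_of_ind_ne hχ (by rw [hi]; norm_num) x)
    obtain ⟨k, hk⟩ := even_sum_mul (fun ψ : IrrCharacter L => mu π ψ)
      (fun ψ : IrrCharacter L => mu (fun x : L => χ x) ψ)
      (fun ψ => mu_conj_right h.real)
      (fun ψ => mu_conj_right (fun x => hχr x))
      (fun ψ hψ => even_mu (h.even ψ ψ.2 hψ))
      (fun ψ hψ => even_mu (even_restrict L.subtype hχ ψ.2 (by rw [hψ, hi]; norm_num)))
    refine ⟨k, ?_⟩
    rw [h1, hk]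
    push_cast
    ring

/-- **The parity lemma.** The number of irreducible characters of indicator `1` and even degree that
occur with odd multiplicity in `π` is odd if `[π, π] + π(1)` is odd. -/
theorem RChar.odd_card {π : G → ℂ} (h : RChar π) {a b : ℤ} (ha : classInner π π = a)
    (hb : π 1 = b) (hab : Odd (a + b)) :
    Odd (Nat.card {χ : IrrCharacter G // ind (χ : G → ℂ) = 1 ∧ Even (charDegree (χ : G → ℂ)) ∧
      Odd (mu π χ)}) := by
  classical
  haveI := @Fintype.ofFinite (IrrCharacter G) finite_irr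
  have h1 : classInner π π = ((∑ χ : IrrCharacter G, mu π χ * mu π χ : ℤ) : ℂ) := by
    rw [classInner_eq_sum h.cf h.cf]
    push_cast
    refine Finset.sum_congr rfl fun χ _ => ?_
    rw [h.mu_spec χ.2]
    simp
  have h2 : π 1 = ((∑ χ : IrrCharacter G, mu π χ * (charDegree (χ : G → ℂ) : ℤ) : ℤ) : ℂ) := by
    conv_lhs => rw [classFunction_eq_sum h.cf]
    rw [Finset.sum_apply]
    push_cast
    refine Finset.sum_congr rfl fun χ _ => ?_
    rw [Pi.smul_apply, h.mu_spec χ.2, Cfsg.Agent.Blocks.Basic.irr_one_eq_charDegree χ.2]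
    rfl
  have h3 : a = ∑ χ : IrrCharacter G, mu π χ * mu π χ := by
    rw [ha] at h1
    exact_mod_cast h1
  have h4 : b = ∑ χ : IrrCharacter G, mu π χ * (charDegree (χ : G → ℂ) : ℤ) := by
    rw [hb] at h2
    exact_mod_cast h2
  have h5 : ((a + b : ℤ) : ZMod 2) =
      ∑ χ : IrrCharacter G, ((mu π χ * (mu π χ + (charDegree (χ : G → ℂ) : ℤ)) : ℤ) : ZMod 2) := by
    rw [h3, h4, ← Finset.sum_add_distrib, Int.cast_sum]
    refine Finset.sum_congr rfl fun χ _ => ?_
    congr 1
    ring
  rw [sum_eq_sum_real zmod_two_add_self _ (fun χ => by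
    rw [charDegree_cj]
    have : mu π (cj χ) = mu π χ := mu_conj_right h.real
    rw [this])] at h5
  have h6 : ∑ᶠ χ ∈ {χ : IrrCharacter G | ind (χ : G → ℂ) ≠ 0},
      ((mu π χ * (mu π χ + (charDegree (χ : G → ℂ) : ℤ)) : ℤ) : ZMod 2) =
      ∑ χ ∈ Finset.univ.filter (fun χ : IrrCharacter G => ind (χ : G → ℂ) = 1 ∧
        Even (charDegree (χ : G → ℂ)) ∧ Odd (mu π χ)), (1 : ZMod 2) := by
    have key : ∀ χ : IrrCharacter G, ind (χ : G → ℂ) ≠ 0 →
        ((mu π χ * (mu π χ + (charDegree (χ : G → ℂ) : ℤ)) : ℤ) : ZMod 2) ≠ 0 →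
        (ind (χ : G → ℂ) = 1 ∧ Even (charDegree (χ : G → ℂ)) ∧ Odd (mu π χ)) := by
      intro χ h7 h8
      have h9 : ¬ Even (mu π χ * (mu π χ + (charDegree (χ : G → ℂ) : ℤ))) := by
        intro h9
        exact h8 ((ZMod.intCast_zmod_eq_zero_iff_dvd _ 2).2 (even_iff_two_dvd.1 h9))
      rw [Int.even_mul, not_or, Int.not_even_iff_odd] at h9
      have h10 : ind (χ : G → ℂ) = 1 := by
        rcases ind_cases χ.2 with h | h11 | h11
        · exact absurd h h7
        · exact h11
        · exact absurd (even_mu (h.even χ χ.2 h11)) (Int.not_even_iff_odd.2 h9.1)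
      refine ⟨h10, ?_, h9.1⟩
      have h12 := h9.2
      rw [Int.even_add] at h12
      have h13 : ¬ Even (mu π χ) := Int.not_even_iff_odd.2 h9.1
      have h14 : Even ((charDegree (χ : G → ℂ) : ℤ)) := by
        by_contra h15
        exact h12 ⟨fun h => absurd h h13, fun h => absurd h h15⟩
      exact_mod_cast h14
    have key2 : ∀ χ : IrrCharacter G, (ind (χ : G → ℂ) = 1 ∧ Even (charDegree (χ : G → ℂ)) ∧
        Odd (mu π χ)) →
        ((mu π χ * (mu π χ + (charDegree (χ : G → ℂ) : ℤ)) : ℤ) : ZMod 2) = 1 := by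
      rintro χ ⟨h7, h8, h9⟩
      have h8' : ((mu π χ * (mu π χ + (charDegree (χ : G → ℂ) : ℤ)) : ℤ) : ZMod 2) ≠ 0 := by
        intro h10
        have h11 := even_iff_two_dvd.2 ((ZMod.intCast_zmod_eq_zero_iff_dvd _ 2).1 h10)
        rw [Int.even_mul] at h11
        have h13 : ¬ Even (mu π χ) := Int.not_even_iff_odd.2 h9
        rcases h11 with h11 | h11
        · exact h13 h11
        · rw [Int.even_add] at h11
          exact h13 (h11.2 (by exact_mod_cast h8))
      revert h8'
      generalize ((mu π χ * (mu π χ + (charDegree (χ : G → ℂ) : ℤ)) : ℤ) : ZMod 2) = r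
      revert r
      decide
    rw [← finsum_mem_coe_finset]
    have hset : ((Finset.univ.filter (fun χ : IrrCharacter G =>
        ind (χ : G → ℂ) = 1 ∧ Even (charDegree (χ : G → ℂ)) ∧ Odd (mu π χ)) :
          Finset (IrrCharacter G)) : Set (IrrCharacter G)) =
        {χ : IrrCharacter G | ind (χ : G → ℂ) ≠ 0} ∩ Function.support (fun χ : IrrCharacter G =>
          ((mu π χ * (mu π χ + (charDegree (χ : G → ℂ) : ℤ)) : ℤ) : ZMod 2)) := by
      ext χ
      rw [Finset.coe_filter]
      constructor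
      · rintro ⟨-, h7⟩
        refine ⟨?_, ?_⟩
        · show ind (χ : G → ℂ) ≠ 0
          rw [h7.1]
          exact one_ne_zero
        · have h8 := key2 χ h7
          intro h9
          have h10 := h8.symm.trans h9
          exact one_ne_zero h10
      · rintro ⟨h7, h8⟩
        exact ⟨Finset.mem_univ _, key χ h7 h8⟩
    rw [hset, ← finsum_mem_inter_support (fun χ : IrrCharacter G =>
          ((mu π χ * (mu π χ + (charDegree (χ : G → ℂ) : ℤ)) : ℤ) : ZMod 2))]
    refine finsum_mem_congr rfl fun χ hχ => ?_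
    exact key2 χ (key χ hχ.1 hχ.2)
  rw [h6, Finset.sum_const, nsmul_one] at h5
  rw [Nat.card_eq_fintype_card, Fintype.card_subtype]
  have h7 : ((a + b : ℤ) : ZMod 2) ≠ 0 := by
    intro h0
    exact (Int.not_even_iff_odd.2 hab)
      (even_iff_two_dvd.2 ((ZMod.intCast_zmod_eq_zero_iff_dvd _ 2).1 h0))
  rw [h5] at h7
  rw [← Nat.not_even_iff_odd]
  intro h8
  exact h7 ((ZMod.natCast_eq_zero_iff _ 2).2 (even_iff_two_dvd.1 h8))

end

end Cfsg.Agent.H694
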