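import Cfsg.Agent.H694.DGood

/-!
# Real characters of dihedral type
-/

set_option autoImplicit false
set_option linter.unusedSectionVars false
set_option linter.style.haveILetI false

namespace Cfsg.Agent.H694

open Cfsg Representation
open scoped ComplexConjugate commutatorElement
open Cfsg.Agent.Characters.Core
open Cfsg.Agent.H705.StrongLin (ind ind_eq real_of_ind)
open Cfsg.Agent.OddOrderCharacters.NormalInduced (conjFn)
open Cfsg.Agent.OddOrderCharacters.PF9.CliffGen (resTo irr_ind)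
open Cfsg.Agent.HKS.CosetTwo (sg sg_of_mem sg_of_notMem isIrr_mul_sg mul_sg_mul_sg conj_sg
  isIrr_sg sg_mul_self)

universe u v

theorem ind_one {E : Type u} [Group E] [Fintype E] : ind (1 : E → ℂ) = 1 := by
  rw [ind_eq]
  simp only [Pi.one_apply, Finset.sum_const, Finset.card_univ, nsmul_eq_mul, mul_one]
  rw [← Nat.card_eq_fintype_card, inv_mul_cancel₀ card_ne_zero_complex]

/-- splitting a sum along a subgroup of index two -/
theorem sum_split {E : Type u} [Group E] [Fintype E] (E₀ : Subgroup E) [Fintype E₀]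
    (F : E → ℂ) [DecidablePred fun e => e ∈ E₀] :
    ∑ e : E, F e = ∑ e : E₀, F e + ∑ e ∈ Finset.univ.filter (fun e : E => e ∉ E₀), F e := by
  rw [← Finset.sum_filter_add_sum_filter_not Finset.univ (fun e : E => e ∈ E₀)]
  congr 1
  exact Finset.sum_subtype _ (by simp) _

theorem card_off {E : Type u} [Group E] [Fintype E] (E₀ : Subgroup E) (h2 : E₀.index = 2)
    [DecidablePred fun e => e ∈ E₀] :
    (Finset.univ.filter (fun e : E => e ∉ E₀)).card = Nat.card E₀ := by
  have h1 : (Finset.univ.filter (fun e : E => e ∈ E₀)).card = Nat.card E₀ := by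
    rw [Nat.card_eq_fintype_card, Fintype.card_subtype]
  have h3 := Finset.card_filter_add_card_filter_not (s := (Finset.univ : Finset E)) (fun e : E => e ∈ E₀)
  have h4 := Subgroup.index_mul_card E₀
  rw [h2, Nat.card_eq_fintype_card (α := E)] at h4
  rw [Finset.card_univ] at h3
  omega

/-- **Real characters of dihedral type.** -/
theorem rchar_dih {E : Type u} [Group E] [Fintype E] (E₀ : Subgroup E) (h2 : E₀.index = 2)
    (f : E₀ →* ℂˣ)
    (hf : ∀ t ∉ E₀, ∀ (e : E₀) (h : t * e * t⁻¹ ∈ E₀), f ⟨t * e * t⁻¹, h⟩ = (f e)⁻¹)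
    {m : ℕ} (hm : Odd m) (hfm : ∀ e, f e ^ m = 1)
    (π : E → ℂ) (hπ : ∀ e : E₀, π e = (f e : ℂ) + (f e : ℂ)⁻¹) (hπ0 : ∀ e ∉ E₀, π e = 0) :
    RChar π := by
  classical
  haveI hn : E₀.Normal := Subgroup.normal_of_index_eq_two h2
  haveI : Fintype E₀ := Fintype.ofFinite _
  have h1ne : ∀ z : ℂˣ, z ^ m = 1 → z⁻¹ = z → z = 1 := by
    intro z hz hzz
    have h3 : z ^ 2 = 1 := by rw [sq]; nth_rewrite 1 [← hzz]; exact inv_mul_cancel z
    obtain ⟨k, rfl⟩ := hm
    rw [pow_succ, pow_mul, h3, one_pow, one_mul] at hz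
    exact hz
  by_cases hf1 : f = 1
  · have h3 : π = (1 : E → ℂ) + sg h2 := by
      funext e
      rw [Pi.add_apply, Pi.one_apply]
      by_cases he : e ∈ E₀
      · have := hπ ⟨e, he⟩
        rw [hf1] at this
        simp only [MonoidHom.one_apply, Units.val_one, inv_one] at this
        rw [sg_of_mem h2 he, ← this]
      · rw [hπ0 e he, sg_of_notMem h2 he]
        ring
    rw [h3]
    refine RChar.add (rchar_irr isIrr_one ind_one) (rchar_irr (isIrr_sg h2) ?_)
    rw [ind_eq]
    have h4 : ∀ g : E, sg h2 (g * g) = 1 := by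
      intro g
      have h5 : g * g ∈ E₀ := Subgroup.mul_self_mem_of_index_two h2 g
      exact sg_of_mem h2 h5
    simp only [h4, Finset.sum_const, Finset.card_univ, nsmul_eq_mul, mul_one]
    rw [← Nat.card_eq_fintype_card, inv_mul_cancel₀ card_ne_zero_complex]
  · let θ : E₀ → ℂ := fun e => (f e : ℂ)
    have hθ : IsIrrCharacter E₀ θ := Cfsg.Agent.Characters.Linear.isIrrCharacter_hom f
    have hin : ∀ x ∈ E₀, ∀ (e : E₀) (h : x * e * x⁻¹ ∈ E₀), f ⟨x * e * x⁻¹, h⟩ = f e := by
      intro x hx e h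
      have h3 : (⟨x * e * x⁻¹, h⟩ : E₀) = ⟨x, hx⟩ * e * ⟨x, hx⟩⁻¹ := rfl
      rw [h3, map_mul, map_mul, map_inv, mul_comm (f _), mul_inv_cancel_right]
    have hT : ∀ g, g ∈ E₀ ↔ conjFn E₀ θ g = θ := by
      intro g
      constructor
      · intro hg
        funext e
        have h3 := hn.conj_mem e e.2 g
        show ((f ⟨g * e * g⁻¹, h3⟩ : ℂˣ) : ℂ) = f e
        rw [hin g hg e h3]
      · intro h
        by_contra hg
        apply hf1
        refine MonoidHom.ext fun e => ?_
        have h3 := hn.conj_mem e e.2 g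
        have h4 : ((f ⟨g * e * g⁻¹, h3⟩ : ℂˣ) : ℂ) = f e := congrFun h e
        rw [hf g hg e h3] at h4
        exact h1ne _ (hfm e) (Units.ext h4)
    have hirr : IsIrrCharacter E (indFun E₀ θ) := irr_ind hθ hT le_rfl hθ (by
      have h3 : resTo (le_rfl : E₀ ≤ E₀) θ = θ := rfl
      rw [h3, classInner_irr_self hθ]
      exact one_ne_zero)
    have heq : indFun E₀ θ = π := by
      funext g
      by_cases hg : g ∈ E₀
      · have h3 := hπ ⟨g, hg⟩
        have h3' : π g = (f ⟨g, hg⟩ : ℂ) + (f ⟨g, hg⟩ : ℂ)⁻¹ := h3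
        rw [h3', indFun_apply]
        have h4 : ∀ x : E, extendByZero E₀ θ (x⁻¹ * g * x) =
            if x ∈ E₀ then (f ⟨g, hg⟩ : ℂ) else (f ⟨g, hg⟩ : ℂ)⁻¹ := by
          intro x
          have h5 : x⁻¹ * g * x ∈ E₀ := by
            have := hn.conj_mem g hg x⁻¹
            rwa [inv_inv] at this
          have h5' : x⁻¹ * g * x⁻¹⁻¹ ∈ E₀ := by rwa [inv_inv]
          rw [extendByZero_of_mem E₀ θ h5]
          have h6 : (⟨x⁻¹ * g * x, h5⟩ : E₀) = ⟨x⁻¹ * (⟨g, hg⟩ : E₀) * x⁻¹⁻¹, h5'⟩ := by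
            apply Subtype.ext
            show x⁻¹ * g * x = x⁻¹ * g * x⁻¹⁻¹
            rw [inv_inv]
          show ((f ⟨x⁻¹ * g * x, h5⟩ : ℂˣ) : ℂ) = _
          rw [h6]
          split_ifs with hx
          · rw [hin x⁻¹ (E₀.inv_mem hx) ⟨g, hg⟩ h5']
          · rw [hf x⁻¹ (fun h => hx (by simpa using E₀.inv_mem h)) ⟨g, hg⟩ h5']
            rw [Units.val_inv_eq_inv_val]
        rw [Finset.sum_congr rfl fun x _ => h4 x, Finset.sum_ite, Finset.sum_const, Finset.sum_const,
          card_off E₀ h2]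
        have h7 : (Finset.univ.filter (fun e : E => e ∈ E₀)).card = Nat.card E₀ := by
          rw [Nat.card_eq_fintype_card, Fintype.card_subtype]
        rw [h7, nsmul_eq_mul, nsmul_eq_mul]
        have h8 : (Nat.card E₀ : ℂ) ≠ 0 := card_ne_zero_complex
        field_simp
      · rw [hπ0 g hg, indFun_apply]
        rw [Finset.sum_eq_zero, mul_zero]
        intro x _
        refine Cfsg.Agent.Characters.Brauer.extendByZero_notMem E₀ θ fun h => hg ?_
        have := hn.conj_mem _ h x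
        have h3 : x * (x⁻¹ * g * x) * x⁻¹ = g := by group
        rwa [h3] at this
    rw [← heq]
    refine rchar_irr hirr ?_
    rw [heq, ind_eq, sum_split E₀]
    -- off `E₀`
    have hoff : ∀ t ∉ E₀, π (t * t) = 2 := by
      intro t ht
      have h5 : t * t ∈ E₀ := Subgroup.mul_self_mem_of_index_two h2 t
      have h6 := hf t ht ⟨t * t, h5⟩ (by
        show t * (t * t) * t⁻¹ ∈ E₀
        have : t * (t * t) * t⁻¹ = t * t := by group
        rwa [this])
      have h7 : (⟨t * ((⟨t * t, h5⟩ : E₀) : E) * t⁻¹, by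
        show t * (t * t) * t⁻¹ ∈ E₀
        have : t * (t * t) * t⁻¹ = t * t := by group
        rwa [this]⟩ : E₀) = ⟨t * t, h5⟩ := by
        apply Subtype.ext
        show t * (t * t) * t⁻¹ = t * t
        group
      rw [h7] at h6
      have h8 := h1ne _ (hfm ⟨t * t, h5⟩) h6.symm
      have h9 := hπ ⟨t * t, h5⟩
      rw [h8, Units.val_one, inv_one] at h9
      have h10 : π (t * t) = 1 + 1 := h9
      rw [h10]
      norm_num
    have h3 : ∑ e ∈ Finset.univ.filter (fun e : E => e ∉ E₀), π (e * e) = 2 * (Nat.card E₀ : ℂ) := by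
      rw [Finset.sum_congr rfl fun e he => hoff e (Finset.mem_filter.1 he).2, Finset.sum_const,
        card_off E₀ h2, nsmul_eq_mul, mul_comm]
    have hsum0 : ∀ F : E₀ →* ℂˣ, F ≠ 1 → ∑ e : E₀, (F e : ℂ) = 0 := by
      intro F hF
      obtain ⟨a, ha⟩ : ∃ a, F a ≠ 1 := by
        by_contra hcon
        push Not at hcon
        exact hF (MonoidHom.ext hcon)
      have h4 : ∑ e : E₀, (F e : ℂ) = (F a : ℂ) * ∑ e : E₀, (F e : ℂ) := by
        rw [Finset.mul_sum]
        refine (Fintype.sum_equiv (Equiv.mulLeft a) _ _ fun e => ?_).symm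
        show (F a : ℂ) * (F e : ℂ) = ((F (a * e) : ℂˣ) : ℂ)
        rw [map_mul, Units.val_mul]
      have h5 : ((F a : ℂ) - 1) * ∑ e : E₀, (F e : ℂ) = 0 := by linear_combination -h4
      refine (mul_eq_zero.1 h5).resolve_left fun h6 => ha (Units.ext ?_)
      rw [sub_eq_zero.1 h6, Units.val_one]
    have hsq : f * f ≠ 1 := by
      intro h
      apply hf1
      refine MonoidHom.ext fun e => h1ne _ (hfm e) ?_
      have h4 : f e * f e = 1 := DFunLike.congr_fun h e
      exact inv_eq_of_mul_eq_one_left h4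
    have hsq' : (f * f)⁻¹ ≠ 1 := fun h => hsq (MonoidHom.ext fun e => by
      have h5 : ((f * f) e)⁻¹ = 1 := DFunLike.congr_fun h e
      exact inv_eq_one.1 h5)
    have h4 : ∑ e : E₀, π ((e : E) * e) = 0 := by
      have h5 : ∀ e : E₀, π ((e : E) * e) = (((f * f) e : ℂˣ) : ℂ) + ((((f * f)⁻¹ : E₀ →* ℂˣ) e : ℂˣ) : ℂ) := by
        intro e
        have h6 := hπ (e * e)
        have h7 : π ((e : E) * e) = (f (e * e) : ℂ) + (f (e * e) : ℂ)⁻¹ := h6
        rw [h7, map_mul]
        simp [Units.val_inv_eq_inv_val]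
      rw [Finset.sum_congr rfl fun e _ => h5 e, Finset.sum_add_distrib, hsum0 _ hsq, hsum0 _ hsq',
        add_zero]
    have h5 : ∑ e : E₀, (fun e : E => π (e * e)) e = 0 := h4
    rw [h5, h3, zero_add]
    have h6 : (Nat.card E : ℂ) = 2 * Nat.card E₀ := by
      have := Subgroup.index_mul_card E₀
      rw [h2] at this
      exact_mod_cast this.symm
    have h7 : (Nat.card E₀ : ℂ) ≠ 0 := card_ne_zero_complex
    rw [h6]
    field_simp

end Cfsg.Agent.H694
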