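import Cfsg.Agent.H694.Table
import Cfsg.Agent.H694.P1Use
import Cfsg.Agent.H694.DGood
import Cfsg.Agent.H681.SimpleChar

/-!
# Good characters over a simple normal subgroup

`exists_good`: a finite group with a nonabelian simple normal subgroup `N`, a known simple group, has
a good character over `N`.
-/

set_option autoImplicit false
set_option linter.style.haveILetI false

namespace Cfsg.Agent.H694

open Cfsg
open Cfsg.Agent.Characters.Core

universe u

theorem exists_good {G : Type u} [Group G] [Fintype G] (N : Subgroup G) [hN : N.Normal]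
    (hs : IsSimpleGroup N) (hna : ¬ ∀ a b : N, a * b = b * a) (hK : IsKnownSimple' N) :
    ∃ χ, Good G N χ := by
  classical
  have hna' : ¬ IsMulCommutative N := fun h => hna fun a b => h.is_comm.comm a b
  have hperf0 : commutator N = ⊤ := by
    rcases (inferInstance : (commutator N).Normal).eq_bot_or_eq_top with h | h
    · exfalso
      apply hna
      intro a b
      have h1 : a * b * a⁻¹ * b⁻¹ ∈ commutator N := Subgroup.commutator_mem_commutator
        (Subgroup.mem_top a) (Subgroup.mem_top b)
      rw [h, Subgroup.mem_bot, mul_inv_eq_one, mul_inv_eq_iff_eq_mul] at h1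
      exact h1
    · exact h
  have hperf : ⁅N, N⁆ = N := by
    have h1 := congrArg (Subgroup.map N.subtype) hperf0
    rw [commutator_def, Subgroup.map_commutator] at h1
    simpa [← MonoidHom.range_eq_map] using h1
  have h2 : ∀ φ : N → ℂ, IsIrrCharacter N φ → charDegree φ ≠ 2 := by
    intro φ hφ h
    exact H681.SimpleChar.degree_ne_two hna
      (Cfsg.Agent.H681.DegBasic.mem_charDegrees.2 ⟨φ, hφ, by
        rw [Cfsg.Agent.Blocks.Basic.irr_one_eq_charDegree hφ, h]⟩)
  rcases known hna' hK with h | h | h
  · obtain ⟨𝒳, h3, h4⟩ := h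
    exact good_of_dData N hperf h2 𝒳 (fun g => h3 _) h4
  · exact good_of_d2Data N hperf h2 h
  · exact good_of_p1Data N hperf h2 h

end Cfsg.Agent.H694
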